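import Cfsg.Agent.Lib.Linear.AutPSL.FieldClass

/-!
# Centralisers of standard field and graph-field automorphisms in `Inndiag(PSL_n(q))`
-/

set_option autoImplicit false

namespace Cfsg.Lib.Linear.AutPSL

open Matrix Cfsg.Lib.Linear.Descent
open scoped MatrixGroups

section FixedField

variable {F : Type*} [Field F] [Fintype F]

/-- The fixed field of a field automorphism. -/
abbrev fixedF (σ : F ≃+* F) : Subfield F := σ.toRingHom.eqLocusField (RingHom.id F)

omit [Fintype F] in
theorem mem_fixedF {σ : F ≃+* F} {x : F} : x ∈ fixedF σ ↔ σ x = x := Iff.rfl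

theorem card_fixedF_pow (σ : F ≃+* F) : Nat.card (fixedF σ) ^ orderOf σ = Fintype.card F := by
  let G : Subgroup (RingAut F) := Subgroup.zpowers σ
  haveI : Finite (RingAut F) := Finite.of_injective (fun τ : RingAut F => (τ : F → F)) DFunLike.coe_injective
  haveI : Fintype G := Fintype.ofFinite _
  haveI : FaithfulSMul G F := ⟨fun {a b} h => Subtype.ext (RingEquiv.ext fun x => h x)⟩
  have h := FixedPoints.finrank_eq_card G F
  have he : FixedPoints.subfield G F = fixedF σ := by
    ext x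
    refine ⟨fun hx => hx ⟨σ, Subgroup.mem_zpowers σ⟩, fun hx => ?_⟩
    rintro ⟨τ, hτ⟩
    have : G ≤ MulAction.stabilizer (RingAut F) x := Subgroup.zpowers_le.2 (mem_fixedF.1 hx)
    exact this hτ
  have h2 := Module.natCard_eq_pow_finrank (K := FixedPoints.subfield G F) (V := F)
  rw [h, ← Nat.card_eq_fintype_card (α := G), Nat.card_zpowers, Nat.card_eq_fintype_card (α := F)] at h2
  rw [h2, he]

/-- An embedding of the field of the size of the fixed field, with image the fixed field. -/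
theorem exists_embedding {p f r : ℕ} [Fact p.Prime] (hf : 1 ≤ f) (hF : Fintype.card F = p ^ f) {σ : F ≃+* F}
    (hr : 0 < r) (hσ : orderOf σ = r) (F₀ : Type*) [Field F₀] [Fintype F₀] (hF₀ : Fintype.card F₀ = p ^ (f / r)) :
    ∃ i : F₀ →+* F, ∀ x : F, σ x = x ↔ ∃ y, i y = x := by
  classical
  obtain ⟨k, hk⟩ := orderOf_dvd_exp hf hF σ
  rw [hσ] at hk
  have hcard : Fintype.card (fixedF σ) = Fintype.card F₀ := by
    rw [hF₀, hk, Nat.mul_div_cancel_left _ hr]
    have h := card_fixedF_pow σ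
    rw [hσ, hF, hk, mul_comm r k, pow_mul, Nat.card_eq_fintype_card] at h
    exact Nat.pow_left_injective hr.ne' h
  let e : fixedF σ ≃+* F₀ := FiniteField.ringEquivOfCardEq hcard
  exact ⟨(fixedF σ).subtype.comp e.symm.toRingHom, fun x =>
    ⟨fun hx => ⟨e ⟨x, hx⟩, by simp⟩, fun ⟨y, hy⟩ => hy ▸ (e.symm y).2⟩⟩

end FixedField

section Split

variable {n : ℕ} {F : Type*} [Field F]

local notation "PSLn" => Matrix.ProjectiveSpecialLinearGroup (Fin n) F

theorem inn_eq : Cfsg.Inn PSLn =
    ((innd : GL (Fin n) F →* MulAut PSLn).comp SpecialLinearGroup.toGL).range := by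
  ext β
  constructor
  · rintro ⟨x, rfl⟩
    obtain ⟨s, rfl⟩ := QuotientGroup.mk_surjective x
    exact ⟨s, (conj_mk s).symm⟩
  · rintro ⟨s, rfl⟩
    exact ⟨QuotientGroup.mk s, conj_mk s⟩

theorem det_sc (c : Fˣ) : GeneralLinearGroup.det (sc c : GL (Fin n) F) = c ^ n :=
  Units.ext (by simp [Matrix.det_diagonal])

theorem det_toGL (s : SpecialLinearGroup (Fin n) F) :
    GeneralLinearGroup.det (SpecialLinearGroup.toGL s) = 1 := Units.ext s.2

variable [Fintype F]

/-- Split count, when the determinants of the centraliser modulo `n`-th powers are known. -/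
theorem splitClassCount_det (hn : 2 ≤ n) (θ : MulAut PSLn) (D : Subgroup Fˣ)
    (h1 : ∀ C : GL (Fin n) F, innd C * θ = θ * innd C → ∃ (a : Fˣ) (b : D), GeneralLinearGroup.det C = a ^ n * b)
    (h2 : ∀ b ∈ D, ∃ C : GL (Fin n) F, innd C * θ = θ * innd C ∧ GeneralLinearGroup.det C = b) :
    Cfsg.splitClassCount (innd : GL (Fin n) F →* MulAut PSLn).range (Cfsg.Inn PSLn) θ = Nat.gcd n D.index := by
  let f : GL (Fin n) F →* (Fˣ ⧸ D) ⧸ (powMonoidHom (α := Fˣ ⧸ D) n).range :=
    ((QuotientGroup.mk' _).comp (QuotientGroup.mk' D)).comp GeneralLinearGroup.det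
  have hsurj : Function.Surjective f :=
    ((QuotientGroup.mk'_surjective _).comp (QuotientGroup.mk'_surjective D)).comp fun a => exists_diag hn a
  have hK : Cfsg.Inn PSLn ≤ (innd : GL (Fin n) F →* MulAut PSLn).range := by
    rw [inn_eq]; rintro _ ⟨s, rfl⟩; exact ⟨_, rfl⟩
  have hmem : ∀ g, f g = 1 ↔ ∃ (a : Fˣ) (b : D), GeneralLinearGroup.det g = a ^ n * b := by
    intro g
    show QuotientGroup.mk (QuotientGroup.mk (GeneralLinearGroup.det g) : Fˣ ⧸ D) = _ ↔ _
    rw [QuotientGroup.eq_one_iff]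
    constructor
    · rintro ⟨y, hy⟩
      obtain ⟨a, rfl⟩ := QuotientGroup.mk_surjective y
      rw [powMonoidHom_apply, ← QuotientGroup.mk_pow, QuotientGroup.eq] at hy
      exact ⟨a, ⟨_, hy⟩, by rw [mul_inv_cancel_left]⟩
    · rintro ⟨a, b, hab⟩
      exact ⟨QuotientGroup.mk a, by rw [powMonoidHom_apply, ← QuotientGroup.mk_pow, hab,
        QuotientGroup.mk_mul, (QuotientGroup.eq_one_iff (b : Fˣ)).2 b.2, mul_one]⟩
  rw [splitClassCount_eq innd (Cfsg.Inn PSLn) hK θ f hsurj (fun g => ?_)]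
  · rw [← Subgroup.index_eq_card, IsCyclic.index_powMonoidHom_range, ← Subgroup.index_eq_card, Nat.gcd_comm]
  rw [hmem]
  constructor
  · rintro ⟨a, b, hab⟩
    obtain ⟨C, hC, hCb⟩ := h2 _ b.2
    have hdet : GeneralLinearGroup.det (g * (sc a * C)⁻¹) = 1 := by
      rw [map_mul, map_inv, map_mul, det_sc, hCb, hab, mul_inv_cancel]
    let s : SpecialLinearGroup (Fin n) F := ⟨(g * (sc a * C)⁻¹).val, congrArg Units.val hdet⟩
    refine ⟨innd (SpecialLinearGroup.toGL s), by rw [inn_eq]; exact ⟨s, rfl⟩, C, hC, ?_⟩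
    rw [show SpecialLinearGroup.toGL s = g * (sc a * C)⁻¹ from Units.ext rfl, ← map_mul]
    have : g * (sc a * C)⁻¹ * C = sc a⁻¹ * g := by
      rw [_root_.mul_inv_rev, mul_assoc, mul_assoc, ← map_inv, sc_comm a⁻¹ C, ← mul_assoc C⁻¹, inv_mul_cancel, one_mul,
        sc_comm]
    rw [this, map_mul, innd_sc, one_mul]
  · rintro ⟨k, hk, C, hC, he⟩
    rw [inn_eq] at hk
    obtain ⟨s, rfl⟩ := hk
    rw [MonoidHom.comp_apply, ← map_mul, innd_eq_innd hn] at he
    obtain ⟨c, hc⟩ := he
    obtain ⟨a, b, hab⟩ := h1 C hC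
    exact ⟨c * a, b, by rw [hc, map_mul, map_mul, det_sc, det_toGL, one_mul, hab, mul_pow, mul_assoc]⟩

end Split

section FieldCase

variable {n : ℕ} {F : Type*} [Field F] [Fintype F]

local notation "PSLn" => Matrix.ProjectiveSpecialLinearGroup (Fin n) F

omit [Fintype F] in
theorem commute_fld_iff (hn : 2 ≤ n) (σ : F ≃+* F) (A : GL (Fin n) F) :
    (innd A : MulAut PSLn) * fld σ = fld σ * innd A ↔ ∃ c : Fˣ, sm σ A = sc c * A := by
  rw [fld_mul_innd', mul_left_inj, eq_comm, innd_eq_innd hn]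

omit [Fintype F] in
/-- The map induced by a field embedding. -/
theorem sm_map {F₀ : Type*} [Field F₀] {σ : F ≃+* F} (i : F₀ →+* F) (hi : ∀ y, σ (i y) = i y)
    (g : GL (Fin n) F₀) : sm σ (GeneralLinearGroup.map i g) = GeneralLinearGroup.map i g :=
  Units.ext (Matrix.ext fun a b => hi _)

omit [Fintype F] in
theorem exists_map_eq {F₀ : Type*} [Field F₀] {σ : F ≃+* F} (i : F₀ →+* F) (hi : ∀ x, σ x = x ↔ ∃ y, i y = x)
    {B : GL (Fin n) F} (hB : sm σ B = B) : ∃ g : GL (Fin n) F₀, GeneralLinearGroup.map i g = B := by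
  have h : ∀ a b, ∃ y, i y = B.val a b := fun a b =>
    (hi _).1 (congrFun (congrFun (congrArg (fun x : GL (Fin n) F => x.val) hB) a) b)
  choose M hM using h
  have hdet : IsUnit (Matrix.of M).det := by
    rw [isUnit_iff_ne_zero]
    intro h0
    have h1 := congrArg i h0
    rw [map_zero, RingHom.map_det, show i.mapMatrix (Matrix.of M) = B.val from Matrix.ext hM] at h1
    exact (GeneralLinearGroup.det B).ne_zero h1
  exact ⟨GeneralLinearGroup.mk'' _ hdet, Units.ext (Matrix.ext hM)⟩

/-- The centraliser of a standard field automorphism of prime order. -/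
theorem field_centralizer (hn : 2 ≤ n) {σ : F ≃+* F} {r : ℕ} (hr : r.Prime) (hσ : orderOf σ = r)
    {F₀ : Type*} [Field F₀] (i : F₀ →+* F) (hi : ∀ x, σ x = x ↔ ∃ y, i y = x) :
    Nonempty (↥((innd : GL (Fin n) F →* MulAut PSLn).range ⊓ Subgroup.centralizer {fld σ}) ≃*
      Matrix.ProjGenLinGroup (Fin n) F₀) := by
  haveI : Fact r.Prime := ⟨hr⟩
  haveI : Nonempty (Fin n) := ⟨⟨0, by omega⟩⟩
  have hfix : ∀ y, σ (i y) = i y := fun y => (hi _).2 ⟨y, rfl⟩
  let φ : GL (Fin n) F₀ →* ↥((innd : GL (Fin n) F →* MulAut PSLn).range ⊓ Subgroup.centralizer {fld σ}) :=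
    ((innd : GL (Fin n) F →* MulAut PSLn).comp (GeneralLinearGroup.map i)).codRestrict _ fun g =>
      Subgroup.mem_inf.2 ⟨⟨_, rfl⟩, Subgroup.mem_centralizer_singleton_iff.2
        ((commute_fld_iff hn σ _).2 ⟨1, by rw [map_one, one_mul, sm_map i hfix]⟩)⟩
  have hφ : Function.Surjective φ := by
    rintro ⟨_, ⟨A, rfl⟩, hA⟩
    obtain ⟨c, hc⟩ := (commute_fld_iff hn σ A).1 (Subgroup.mem_centralizer_singleton_iff.1 hA)
    obtain ⟨d, B, hB, rfl⟩ := exists_fixed hσ A hc
    obtain ⟨g, rfl⟩ := exists_map_eq i hi hB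
    exact ⟨g, Subtype.ext (by show innd _ = innd _; rw [map_mul innd, innd_sc, one_mul])⟩
  have hker : φ.ker = Subgroup.center (GL (Fin n) F₀) := by
    ext g
    rw [MonoidHom.mem_ker, Subtype.ext_iff]
    show (innd (GeneralLinearGroup.map i g) : MulAut PSLn) = 1 ↔ _
    refine ⟨fun h => ?_, fun h => innd_scalar ?_⟩
    · obtain ⟨c, hc⟩ := (innd_eq_one_iff hn).1 h
      refine Subgroup.mem_center_iff.2 fun x => ?_
      have hinj : Function.Injective (GeneralLinearGroup.map (n := Fin n) i) := fun a b h =>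
        Units.ext (Matrix.map_injective i.injective (congrArg Units.val h))
      apply hinj
      rw [map_mul, map_mul, hc, sc_comm]
    · obtain ⟨c, hc⟩ : g.val ∈ Set.range (Matrix.scalar (Fin n) : F₀ → _) := by
        refine Matrix.mem_range_scalar_of_commute_single fun a b hab => ?_
        have hu : IsUnit (1 + Matrix.single a b (1 : F₀)).det := by
          rw [show (1 + Matrix.single a b (1 : F₀)) = Matrix.transvection a b 1 from rfl,
            Matrix.det_transvection_of_ne a b hab]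
          exact isUnit_one
        have h1 := congrArg Units.val (Subgroup.mem_center_iff.1 h (GeneralLinearGroup.mk'' _ hu))
        change (1 + Matrix.single a b (1 : F₀)) * g.val = g.val * (1 + Matrix.single a b (1 : F₀)) at h1
        rw [add_mul, mul_add, one_mul, mul_one, add_right_inj] at h1
        exact h1
      exact ⟨i c, by
        show _ = g.val.map i
        rw [← hc]
        ext a b
        simp [Matrix.diagonal_apply, apply_ite i]⟩
  exact ⟨((QuotientGroup.quotientMulEquivOfEq hker.symm).trans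
    (QuotientGroup.quotientKerEquivOfSurjective φ hφ)).symm⟩

theorem field_split (hn : 2 ≤ n) {σ : F ≃+* F} {r : ℕ} (hr : r.Prime) (hσ : orderOf σ = r) :
    Cfsg.splitClassCount (innd : GL (Fin n) F →* MulAut PSLn).range (Cfsg.Inn PSLn) (fld σ) =
      Nat.gcd n ((Fintype.card F - 1) / (Nat.card (fixedF σ) - 1)) := by
  classical
  haveI : Fact r.Prime := ⟨hr⟩
  haveI : Nonempty (Fin n) := ⟨⟨0, by omega⟩⟩
  let u : (fixedF σ)ˣ →* Fˣ := Units.map (fixedF σ).subtype.toMonoidHom
  have hu : Function.Injective u := Units.map_injective Subtype.val_injective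
  rw [splitClassCount_det hn (fld σ) u.range]
  · congr 1
    have h := Subgroup.card_mul_index u.range
    rw [← Nat.card_congr (MonoidHom.ofInjective hu).toEquiv, Nat.card_units, Nat.card_units,
      Nat.card_eq_fintype_card (α := F)] at h
    rw [← h, Nat.mul_div_cancel_left]
    have : 1 < Nat.card (fixedF σ) := Finite.one_lt_card
    omega
  · intro C hC
    obtain ⟨c, hc⟩ := (commute_fld_iff hn σ C).1 hC
    obtain ⟨d, B, hB, rfl⟩ := exists_fixed hσ C hc
    have hfix : σ (GeneralLinearGroup.det B : F) = GeneralLinearGroup.det B := by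
      show σ B.val.det = B.val.det
      rw [RingEquiv.map_det]
      exact congrArg Matrix.det (congrArg Units.val hB)
    have hne : (⟨_, hfix⟩ : fixedF σ) ≠ 0 := fun h => (GeneralLinearGroup.det B).ne_zero (congrArg Subtype.val h)
    exact ⟨d, ⟨_, Units.mk0 _ hne, rfl⟩, by rw [map_mul, det_sc]; exact congrArg _ (Units.ext rfl)⟩
  · rintro _ ⟨b, rfl⟩
    have hdet : (Matrix.diagonal (Function.update (1 : Fin n → fixedF σ) ⟨0, by omega⟩ (b : fixedF σ))).det = b := by
      rw [Matrix.det_diagonal, Finset.prod_update_of_mem (Finset.mem_univ _)]; simp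
    let g : GL (Fin n) (fixedF σ) := GeneralLinearGroup.mk''
      (Matrix.diagonal (Function.update (1 : Fin n → fixedF σ) ⟨0, by omega⟩ (b : fixedF σ))) (by rw [hdet]; exact b.isUnit)
    refine ⟨GeneralLinearGroup.map (fixedF σ).subtype g,
      (commute_fld_iff hn σ _).2 ⟨1, by rw [map_one, one_mul, sm_map _ (fun y => y.2)]⟩, Units.ext ?_⟩
    show (g.val.map (fixedF σ).subtype).det = ((b : fixedF σ) : F)
    rw [← hdet]
    exact ((fixedF σ).subtype.map_det g.val).symm

end FieldCase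

section GraphFieldCase

variable {n : ℕ} {F : Type*} [Field F] [Fintype F]

local notation "PSLn" => Matrix.ProjectiveSpecialLinearGroup (Fin n) F

theorem commute_fldgr_iff (hn : 2 ≤ n) {σ : F ≃+* F} (A : GL (Fin n) F) :
    (innd A : MulAut PSLn) * (fld σ * gr) = fld σ * gr * innd A ↔
      ∃ c : Fˣ, A.val * (A.val.map σ).transpose = (c : F) • 1 := by
  rw [fldgr_mul_innd, mul_left_inj, innd_eq_innd hn]
  have h2 : (sm σ (dual A)).val * (A.val.map σ).transpose = 1 := mul_eq_one_comm.1 (by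
    show (A.val.map σ).transpose * ((A⁻¹).val.transpose.map σ) = 1
    rw [Matrix.transpose_map, ← Matrix.transpose_mul, ← Matrix.map_mul, Units.inv_mul]
    simp)
  refine exists_congr fun c => ?_
  constructor
  · intro h
    have h1 := congrArg Units.val h
    rw [Units.val_mul, sc_val, smul_mul_assoc, one_mul] at h1
    conv_lhs => arg 1; rw [h1]
    rw [smul_mul_assoc, h2]
  · intro h
    refine Units.ext ?_
    rw [Units.val_mul, sc_val, smul_mul_assoc, one_mul]
    calc A.val = A.val * ((A.val.map σ).transpose * (sm σ (dual A)).val) := by rw [mul_eq_one_comm.1 h2, mul_one]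
      _ = _ := by rw [← mul_assoc, h, smul_mul_assoc, one_mul]

omit [Fintype F] in
/-- Membership of the general unitary group. -/
theorem mem_GU_iff {σ : F ≃+* F} (hσ2 : ∀ x, σ (σ x) = x) {q₀ : ℕ} (hq : q₀ ≠ 0) (hσq : ∀ x, σ x = x ^ q₀)
    (g : GL (Fin n) F) : g ∈ Cfsg.GU n F q₀ ↔ g.val * (g.val.map σ).transpose = 1 := by
  have hform : ∀ u v : Fin n → F, Cfsg.hermForm n F q₀ u v = u ⬝ᵥ fun i => σ (v i) := fun u v =>
    Finset.sum_congr rfl fun i _ => by rw [← hσq]
  have hmap : ∀ v : Fin n → F, (fun i => σ ((g.val *ᵥ v) i)) = g.val.map σ *ᵥ fun i => σ (v i) := fun v => by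
    funext i
    simp [Matrix.mulVec, dotProduct, map_sum, map_mul]
  have h1 : (g.val * (g.val.map σ).transpose = 1) ↔ g.val.transpose * g.val.map σ = 1 := by
    have e : ∀ M : Matrix (Fin n) (Fin n) F, (M.map σ).map σ = M := fun M => Matrix.ext fun a b => hσ2 _
    rw [mul_eq_one_comm]
    constructor
    · intro h
      have := congrArg (fun M : Matrix (Fin n) (Fin n) F => M.map σ) h
      simpa [Matrix.map_mul, Matrix.transpose_map, e] using this
    · intro h
      have := congrArg (fun M : Matrix (Fin n) (Fin n) F => M.map σ) h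
      simpa [Matrix.map_mul, Matrix.transpose_map, e] using this
  rw [h1]
  constructor
  · intro hg
    ext a b
    have h := hg (Pi.single a 1) (Pi.single b 1)
    rw [hform, hform] at h
    simp only [Units.coeHom_apply] at h
    rw [hmap] at h
    simpa [Matrix.mul_apply, dotProduct, Matrix.mulVec, Pi.single_apply, apply_ite σ, Matrix.one_apply, eq_comm] using h
  · intro hg u v
    rw [hform, hform]
    show (g.val *ᵥ u) ⬝ᵥ (fun i => σ ((g.val *ᵥ v) i)) = _
    rw [hmap, Matrix.dotProduct_mulVec, Matrix.vecMul_mulVec, hg, Matrix.vecMul_one]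

theorem sigma_eq_frob {σ : F ≃+* F} (hσ : orderOf σ = 2) {q₀ : ℕ} (hF : Fintype.card F = q₀ ^ 2) :
    ∀ x, σ x = x ^ q₀ := by
  have hne : (σ : F →+* F) ≠ RingHom.id F := fun h => by
    rw [show σ = 1 from RingEquiv.ext fun x => RingHom.congr_fun h x, orderOf_one] at hσ
    exact absurd hσ (by decide)
  have hσ2 : ∀ x, σ (σ x) = x := fun x => by
    have := pow_orderOf_eq_one σ
    rw [hσ] at this
    exact DFunLike.congr_fun this x
  obtain ⟨q, hq, h⟩ := Cfsg.Lib.Linear.Herm.exists_eq_frob hne hσ2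
  intro x
  rw [← Nat.pow_left_injective (by norm_num : (2 : ℕ) ≠ 0) (hq.symm.trans hF)]
  exact h x

/-- The centraliser of an involutory graph-field automorphism. -/
theorem graphField_centralizer (hn : 2 ≤ n) {σ : F ≃+* F} (hσ : orderOf σ = 2) {q₀ : ℕ}
    (hF : Fintype.card F = q₀ ^ 2) :
    Nonempty (↥((innd : GL (Fin n) F →* MulAut PSLn).range ⊓ Subgroup.centralizer {fld σ * gr}) ≃*
      Cfsg.PGU n F q₀) ∧
    Cfsg.splitClassCount (innd : GL (Fin n) F →* MulAut PSLn).range (Cfsg.Inn PSLn) (fld σ * gr) =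
      Nat.gcd n (q₀ - 1) := by
  haveI : Fact (Nat.Prime 2) := ⟨Nat.prime_two⟩
  haveI : Nonempty (Fin n) := ⟨⟨0, by omega⟩⟩
  have hq : q₀ ≠ 0 := by
    rintro rfl
    exact Fintype.card_ne_zero (α := F) (by simpa using hF)
  have hσ2 : ∀ x, σ (σ x) = x := fun x => by
    have := pow_orderOf_eq_one σ
    rw [hσ] at this
    exact DFunLike.congr_fun this x
  have hσq := sigma_eq_frob hσ hF
  have hone : ∀ g : GL (Fin n) F, g ∈ Cfsg.GU n F q₀ →
      (innd g : MulAut PSLn) * (fld σ * gr) = fld σ * gr * innd g := fun g hg =>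
    (commute_fldgr_iff hn g).2 ⟨1, by rw [(mem_GU_iff hσ2 hq hσq g).1 hg, Units.val_one, one_smul]⟩
  have hdec : ∀ A : GL (Fin n) F, (innd A : MulAut PSLn) * (fld σ * gr) = fld σ * gr * innd A →
      ∃ (e : Fˣ) (U : GL (Fin n) F), U ∈ Cfsg.GU n F q₀ ∧ A = sc e * U := by
    intro A hA
    obtain ⟨c, hc⟩ := (commute_fldgr_iff hn A).1 hA
    have hfix : σ c = c := by
      have h : ((A.val * (A.val.map σ).transpose).map σ).transpose = A.val * (A.val.map σ).transpose := by
        ext a b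
        simp [Matrix.mul_apply, map_sum, hσ2, mul_comm]
      rw [hc] at h
      have := congrFun (congrFun h ⟨0, by omega⟩) ⟨0, by omega⟩
      simpa using this
    obtain ⟨x, hx⟩ := exists_norm hσ c.ne_zero hfix
    have hx0 : x ≠ 0 := fun h0 => c.ne_zero (by rw [← hx, h0, zero_mul])
    refine ⟨Units.mk0 x hx0, sc (Units.mk0 x hx0)⁻¹ * A, ?_,
      by rw [← mul_assoc, ← map_mul, mul_inv_cancel, map_one, one_mul]⟩
    rw [mem_GU_iff hσ2 hq hσq, Units.val_mul, sc_val, smul_mul_assoc, one_mul, transpose_map_smul,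
      mul_smul_comm, smul_mul_assoc, smul_smul, hc, smul_smul, Units.val_inv_eq_inv_val, Units.val_mk0, map_inv₀,
      show (σ x)⁻¹ * x⁻¹ * (c : F) = 1 by rw [← mul_inv, mul_comm (σ x), hx, inv_mul_cancel₀ c.ne_zero], one_smul]
  refine ⟨?_, ?_⟩
  · let φ : Cfsg.GU n F q₀ →* ↥((innd : GL (Fin n) F →* MulAut PSLn).range ⊓ Subgroup.centralizer {fld σ * gr}) :=
      ((innd : GL (Fin n) F →* MulAut PSLn).comp (Cfsg.GU n F q₀).subtype).codRestrict _ fun g =>
        Subgroup.mem_inf.2 ⟨⟨_, rfl⟩, Subgroup.mem_centralizer_singleton_iff.2 (hone g g.2)⟩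
    have hφ : Function.Surjective φ := by
      rintro ⟨_, ⟨A, rfl⟩, hA⟩
      obtain ⟨e, U, hU, rfl⟩ := hdec A (Subgroup.mem_centralizer_singleton_iff.1 hA)
      exact ⟨⟨U, hU⟩, Subtype.ext (by show innd _ = innd _; rw [map_mul innd, innd_sc, one_mul]; rfl)⟩
    have hker : φ.ker = (Cfsg.Geo.scalars (Fin n) F).subgroupOf (Cfsg.GU n F q₀) := by
      ext g
      rw [MonoidHom.mem_ker, Subtype.ext_iff]
      show (innd (g : GL (Fin n) F) : MulAut PSLn) = 1 ↔ _
      rw [innd_eq_one_iff hn, Subgroup.mem_subgroupOf]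
      exact ⟨fun ⟨c, hc⟩ => ⟨c, hc.symm⟩, fun ⟨c, hc⟩ => ⟨c, hc.symm⟩⟩
    exact ⟨((QuotientGroup.quotientMulEquivOfEq hker.symm).trans
      (QuotientGroup.quotientKerEquivOfSurjective φ hφ)).symm⟩
  · rw [splitClassCount_det hn (fld σ * gr) (powMonoidHom (q₀ + 1) : Fˣ →* Fˣ).ker]
    · congr 1
      rw [Subgroup.index_ker]
      have h := Subgroup.card_mul_index (powMonoidHom (q₀ + 1) : Fˣ →* Fˣ).ker
      rw [Cfsg.Lib.Linear.Herm.card_norm_one hF, Subgroup.index_ker, Cfsg.Lib.Linear.Herm.card_units_sq hF] at h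
      exact Nat.eq_of_mul_eq_mul_left (Nat.succ_pos q₀) h
    · intro C hC
      obtain ⟨e, U, hU, rfl⟩ := hdec C hC
      refine ⟨e, ⟨GeneralLinearGroup.det U, ?_⟩, by rw [map_mul, det_sc]⟩
      rw [MonoidHom.mem_ker, powMonoidHom_apply]
      exact Units.ext (by simpa using Cfsg.Lib.Linear.Herm.det_GU_pow hF ⟨U, hU⟩)
    · intro b hb
      rw [MonoidHom.mem_ker, powMonoidHom_apply] at hb
      obtain ⟨i₀⟩ := (inferInstance : Nonempty (Fin n))
      have hd : (Matrix.diagonal (Function.update (1 : Fin n → F) i₀ (b : F))).det = b := by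
        rw [Matrix.det_diagonal, Finset.prod_update_of_mem (Finset.mem_univ _)]; simp
      let g : GL (Fin n) F := GeneralLinearGroup.mk'' (Matrix.diagonal (Function.update (1 : Fin n → F) i₀ (b : F)))
        (by rw [hd]; exact b.isUnit)
      have hg : g ∈ Cfsg.GU n F q₀ := by
        rw [mem_GU_iff hσ2 hq hσq]
        show Matrix.diagonal (Function.update (1 : Fin n → F) i₀ (b : F)) *
          ((Matrix.diagonal (Function.update (1 : Fin n → F) i₀ (b : F))).map σ).transpose = 1
        rw [Matrix.diagonal_map (map_zero σ), Matrix.diagonal_transpose, Matrix.diagonal_mul_diagonal,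
          ← Matrix.diagonal_one]
        congr 1
        funext a
        rcases eq_or_ne a i₀ with rfl | ha
        · rw [Function.update_self, hσq, ← pow_succ', ← Units.val_pow_eq_pow_val, hb, Units.val_one]
        · simp [Function.update_of_ne ha]
      exact ⟨g, hone g hg, Units.ext hd⟩

end GraphFieldCase

end Cfsg.Lib.Linear.AutPSL
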