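import Cfsg.Agent.Lib.Linear.AutPSL.Main

/-!
# The outer automorphism group of `PSL_n(q)`
-/

set_option autoImplicit false

namespace Cfsg.Lib.Linear.AutPSL

open Matrix
open scoped MatrixGroups

section Galois

variable {F : Type*} [Field F] [Fintype F] {p f : ℕ} [Fact p.Prime]

theorem charP_of_card (hf : 1 ≤ f) (hF : Fintype.card F = p ^ f) : CharP F p := by
  obtain ⟨r, hr⟩ := CharP.exists F
  haveI : Fact r.Prime := ⟨(CharP.char_is_prime_or_zero F r).resolve_right (CharP.char_ne_zero_of_finite F r)⟩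
  obtain ⟨d, -, hd⟩ := FiniteField.card F r
  have h : r ∣ p ^ f := by rw [← hF, hd]; exact dvd_pow_self r d.pos.ne'
  obtain rfl : r = p := (Nat.prime_dvd_prime_iff_eq (Fact.out : r.Prime) Fact.out).1 ((Fact.out : r.Prime).dvd_of_dvd_pow h)
  exact hr

/-- The automorphism group of the field with `p ^ f` elements is cyclic of order `f`. -/
theorem exists_galEquiv (hf : 1 ≤ f) (hF : Fintype.card F = p ^ f) :
    Nonempty ((F ≃+* F) ≃* Multiplicative (ZMod f)) := by
  haveI := charP_of_card hf hF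
  letI := ZMod.algebra F p
  let e : (F ≃+* F) ≃* (F ≃ₐ[ZMod p] F) :=
    { toFun := fun σ => AlgEquiv.ofRingEquiv (f := σ) fun r =>
        RingHom.congr_fun (RingHom.ext_zmod (σ.toRingHom.comp (algebraMap (ZMod p) F)) (algebraMap (ZMod p) F)) r
      invFun := fun τ => τ.toRingEquiv
      left_inv := fun σ => rfl
      right_inv := fun τ => rfl
      map_mul' := fun σ τ => rfl }
  have hdim : Module.finrank (ZMod p) F = f := by
    have := Module.natCard_eq_pow_finrank (K := ZMod p) (V := F)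
    rw [Nat.card_eq_fintype_card, Nat.card_zmod, hF] at this
    exact (Nat.pow_right_injective (Fact.out : p.Prime).two_le this).symm
  have hc : Nat.card (F ≃ₐ[ZMod p] F) = f := by rw [IsGalois.card_aut_eq_finrank, hdim]
  subst hc
  exact ⟨e.trans (zmodCyclicMulEquiv inferInstance).symm⟩

end Galois

variable {n : ℕ} {F : Type*} [Field F]

local notation "PSLn" => Matrix.ProjectiveSpecialLinearGroup (Fin n) F

theorem fld_eq_of_eq (hn : 2 ≤ n) {g g' : GL (Fin n) F} {σ σ' : F ≃+* F}
    (h : (innd g * fld σ : MulAut PSLn) = innd g' * fld σ') : σ = σ' := by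
  haveI : Nontrivial (Fin n) := Fin.nontrivial_iff_two_le.2 hn
  have e : (innd (g'⁻¹ * g) : MulAut PSLn) = fld (σ' * σ⁻¹) := by
    rw [map_mul, map_mul, map_inv, map_inv, eq_mul_inv_iff_mul_eq, mul_assoc, h, inv_mul_cancel_left]
  exact (mul_inv_eq_one.1 (innd_eq_fld e).1).symm

theorem ne_mul_gr (hn : 3 ≤ n) (g g' : GL (Fin n) F) (σ σ' : F ≃+* F) :
    (innd g * fld σ : MulAut PSLn) ≠ innd g' * fld σ' * gr := fun h => by
  have e : (gr : MulAut PSLn) =
      innd (GeneralLinearGroup.map (σ'⁻¹ : F ≃+* F).toRingHom (g'⁻¹ * g)) * fld (σ'⁻¹ * σ) := by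
    rw [map_mul (fld : (F ≃+* F) →* MulAut PSLn), ← mul_assoc, ← fld_mul_innd, map_inv,
      map_mul (innd : GL (Fin n) F →* MulAut PSLn), map_inv, mul_assoc, mul_assoc, h]
    group
  exact gr_ne (by simpa using hn) _ _ e

theorem gr_eq_innd_two : ∃ g : GL (Fin 2) F, (gr : MulAut (ProjectiveSpecialLinearGroup (Fin 2) F)) = innd g := by
  let J : GL (Fin 2) F := GeneralLinearGroup.mk'' !![0, 1; -1, 0] (by simp [Matrix.det_fin_two])
  refine ⟨J, aut_ext fun s => ?_⟩
  rw [gr_mk, innd_mk]
  refine congrArg _ (Subtype.ext ?_)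
  have hJ : (J⁻¹).val = !![0, -1; 1, 0] := by
    refine left_inv_eq_right_inv (Units.inv_mul J) ?_
    show (!![0, 1; -1, 0] : Matrix (Fin 2) (Fin 2) F) * !![0, -1; 1, 0] = 1
    ext i j; fin_cases i <;> fin_cases j <;> simp [Matrix.mul_apply, Fin.sum_univ_two]
  rw [cnjHom_coe, hJ, tinv_coe, Matrix.SpecialLinearGroup.coe_inv, Matrix.adjugate_fin_two,
    show J.val = !![0, 1; -1, 0] from rfl]
  ext i j
  fin_cases i <;> fin_cases j <;> simp [Matrix.mul_apply, Fin.sum_univ_two, Matrix.transpose_apply, Matrix.vecMul, dotProduct]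

variable [Fintype F]

theorem exists_diag (hn : 2 ≤ n) (a : Fˣ) : ∃ g : GL (Fin n) F, GeneralLinearGroup.det g = a := by
  let i₀ : Fin n := ⟨0, by omega⟩
  have hd : (Matrix.diagonal (Function.update (1 : Fin n → F) i₀ (a : F))).det = a := by
    rw [Matrix.det_diagonal, Finset.prod_update_of_mem (Finset.mem_univ _)]; simp
  exact ⟨GeneralLinearGroup.mk'' _ (show IsUnit (Matrix.diagonal (Function.update (1 : Fin n → F) i₀ (a : F))).det by rw [hd]; exact a.isUnit), Units.ext hd⟩

/-- The inner-diagonal automorphisms in the outer automorphism group. -/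
def outInnd : GL (Fin n) F →* Cfsg.Out PSLn := (QuotientGroup.mk' _).comp innd

theorem outInnd_range_card (hn : 2 ≤ n) :
    IsCyclic (outInnd : GL (Fin n) F →* Cfsg.Out PSLn).range ∧
      Nat.card (outInnd : GL (Fin n) F →* Cfsg.Out PSLn).range = Nat.gcd n (Fintype.card F - 1) := by
  haveI : Nontrivial (Fin n) := Fin.nontrivial_iff_two_le.2 hn
  have hker : ∀ g : GL (Fin n) F,
      g ∈ (outInnd : GL (Fin n) F →* Cfsg.Out PSLn).ker ↔ ∃ c : Fˣ, c ^ n = GeneralLinearGroup.det g := by
    intro g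
    rw [MonoidHom.mem_ker, outInnd, MonoidHom.comp_apply, QuotientGroup.mk'_apply, QuotientGroup.eq_one_iff]
    constructor
    · rintro ⟨x, hx⟩
      obtain ⟨s, rfl⟩ := QuotientGroup.mk_surjective x
      rw [conj_mk] at hx
      have h1 : (innd ((SpecialLinearGroup.toGL s)⁻¹ * g) : MulAut PSLn) = 1 := by
        rw [map_mul, map_inv, hx, inv_mul_cancel]
      obtain ⟨r, hr⟩ := innd_eq_one h1
      have hd : r ^ n = (GeneralLinearGroup.det g : F) := by
        have h2 := congrArg Matrix.det hr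
        simp only [Matrix.scalar_apply, Matrix.det_diagonal, Finset.prod_const, Finset.card_univ, Fintype.card_fin,
          Units.val_mul, Matrix.det_mul] at h2
        rw [h2, ← map_inv, show (SpecialLinearGroup.toGL s⁻¹).val.det = 1 from (s⁻¹).2, one_mul]
        rfl
      have hr0 : r ≠ 0 := fun h0 => (GeneralLinearGroup.det g).ne_zero (by rw [← hd, h0, zero_pow (by omega)])
      exact ⟨Units.mk0 r hr0, Units.ext (by rw [Units.val_pow_eq_pow_val, Units.val_mk0, hd])⟩
    · rintro ⟨c, hc⟩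
      have hd : ((c⁻¹ : Fˣ) : F) ^ n * g.val.det = 1 := by
        have : g.val.det = ((c ^ n : Fˣ) : F) := by rw [hc]; rfl
        rw [this, ← Units.val_pow_eq_pow_val, ← Units.val_mul, ← mul_pow, inv_mul_cancel, one_pow, Units.val_one]
      let s : Matrix.SpecialLinearGroup (Fin n) F :=
        ⟨((c⁻¹ : Fˣ) : F) • g.val, by rw [Matrix.det_smul, Fintype.card_fin, hd]⟩
      refine ⟨QuotientGroup.mk s, ?_⟩
      rw [conj_mk]
      have h1 : (innd ((SpecialLinearGroup.toGL s)⁻¹ * g) : MulAut PSLn) = 1 := innd_scalar ⟨(c : F), by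
        rw [Units.val_mul]
        have e : g.val = (c : F) • (SpecialLinearGroup.toGL s).val := by
          show g.val = (c : F) • ((c⁻¹ : Fˣ) : F) • g.val
          rw [smul_smul, ← Units.val_mul, mul_inv_cancel, Units.val_one, one_smul]
        rw [e, Matrix.mul_smul, Units.inv_mul, Matrix.scalar_apply, ← Matrix.smul_one_eq_diagonal]⟩
      rw [map_mul, map_inv, inv_mul_eq_one] at h1
      exact h1
  choose s hs using exists_diag (F := F) hn
  have hfac : ∀ g : GL (Fin n) F, (outInnd g : Cfsg.Out PSLn) = outInnd (s (GeneralLinearGroup.det g)) := fun g => by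
    rw [← inv_mul_eq_one, ← map_inv, ← map_mul, ← MonoidHom.mem_ker, hker]
    exact ⟨1, by rw [map_mul, map_inv, hs, inv_mul_cancel, one_pow]⟩
  let h' : Fˣ →* Cfsg.Out PSLn :=
    { toFun := fun a => outInnd (s a)
      map_one' := by rw [← MonoidHom.mem_ker, hker]; exact ⟨1, by rw [one_pow, hs]⟩
      map_mul' := fun a b => by rw [← map_mul, hfac (s a * s b), map_mul GeneralLinearGroup.det, hs, hs] }
  have hrange : (outInnd : GL (Fin n) F →* Cfsg.Out PSLn).range = h'.range := by
    refine le_antisymm ?_ ?_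
    · rintro _ ⟨g, rfl⟩; exact ⟨_, (hfac g).symm⟩
    · rintro _ ⟨a, rfl⟩; exact ⟨s a, rfl⟩
  rw [hrange]
  refine ⟨isCyclic_of_surjective h'.rangeRestrict h'.rangeRestrict_surjective, ?_⟩
  have hk : h'.ker = (powMonoidHom n : Fˣ →* Fˣ).range := by
    ext a
    rw [MonoidHom.mem_ker, MonoidHom.coe_mk, OneHom.coe_mk, ← MonoidHom.mem_ker, hker, hs]
    rfl
  rw [← Subgroup.index_ker, hk, IsCyclic.index_powMonoidHom_range, Nat.card_units, Nat.card_eq_fintype_card,
    Nat.gcd_comm]

end Cfsg.Lib.Linear.AutPSL
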