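import Cfsg.Prelude.Def_LieTypeDatum
import Cfsg.Agent.Lib.Linear.SLBasic

/-!
# Conjugation, field and graph automorphisms of `PSL_n`

`innd g`, `fld σ` and `gr` are the automorphisms of `PSL_n(F)` induced by conjugation by `g`, by a field automorphism applied
entrywise and by inverse transpose; they are compared with the predicates of the prelude, and the elementary relations and
non-triviality facts are proved.
-/

set_option autoImplicit false

namespace Cfsg.Lib.Linear.AutPSL

open Matrix
open scoped MatrixGroups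

variable {ι : Type*} [Fintype ι] [DecidableEq ι] {F : Type*} [Field F]

/-- Conjugation of `SL` by an invertible matrix. -/
def cnjHom : GL ι F →* MulAut (SpecialLinearGroup ι F) where
  toFun g :=
    { toFun := fun s => ⟨g.val * s.1 * (g⁻¹).val, by rw [Matrix.det_units_conj, s.2]⟩
      invFun := fun s => ⟨(g⁻¹).val * s.1 * g.val, by rw [Matrix.det_units_conj', s.2]⟩
      left_inv := fun s => Subtype.ext (by
        show (g⁻¹).val * (g.val * s.1 * (g⁻¹).val) * g.val = s.1
        rw [← mul_assoc, ← mul_assoc, Units.inv_mul, one_mul, mul_assoc, Units.inv_mul, mul_one])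
      right_inv := fun s => Subtype.ext (by
        show g.val * ((g⁻¹).val * s.1 * g.val) * (g⁻¹).val = s.1
        rw [← mul_assoc, ← mul_assoc, Units.mul_inv, one_mul, mul_assoc, Units.mul_inv, mul_one])
      map_mul' := fun s t => Subtype.ext (by
        show g.val * (s.1 * t.1) * (g⁻¹).val = g.val * s.1 * (g⁻¹).val * (g.val * t.1 * (g⁻¹).val)
        simp only [Matrix.mul_assoc]
        rw [← Matrix.mul_assoc (g⁻¹).val g.val, Units.inv_mul, Matrix.one_mul]) }
  map_one' := MulEquiv.ext fun s => Subtype.ext (by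
    show (1 : GL ι F).val * s.1 * ((1 : GL ι F)⁻¹).val = s.1
    simp)
  map_mul' g h := MulEquiv.ext fun s => Subtype.ext (by
    show (g * h).val * s.1 * ((g * h)⁻¹).val = g.val * (h.val * s.1 * (h⁻¹).val) * (g⁻¹).val
    simp only [_root_.mul_inv_rev, Units.val_mul, Matrix.mul_assoc])

@[simp] theorem cnjHom_coe (g : GL ι F) (s : SpecialLinearGroup ι F) :
    (cnjHom g s).1 = g.val * s.1 * (g⁻¹).val := rfl

/-- A field automorphism applied to the entries. -/
def frobHom : (F ≃+* F) →* MulAut (SpecialLinearGroup ι F) where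
  toFun σ :=
    { toFun := SpecialLinearGroup.map σ.toRingHom
      invFun := SpecialLinearGroup.map σ.symm.toRingHom
      left_inv := fun s => Subtype.ext (Matrix.ext fun i j => σ.symm_apply_apply _)
      right_inv := fun s => Subtype.ext (Matrix.ext fun i j => σ.apply_symm_apply _)
      map_mul' := map_mul _ }
  map_one' := MulEquiv.ext fun s => Subtype.ext (Matrix.ext fun i j => rfl)
  map_mul' σ τ := MulEquiv.ext fun s => Subtype.ext (Matrix.ext fun i j => rfl)

@[simp] theorem frobHom_coe (σ : F ≃+* F) (s : SpecialLinearGroup ι F) : (frobHom σ s).1 = s.1.map σ := rfl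

theorem transpose_inv' (s : SpecialLinearGroup ι F) : (s.transpose)⁻¹ = (s⁻¹).transpose :=
  Subtype.ext (by simp [Matrix.adjugate_transpose])

theorem transpose_transpose' (s : SpecialLinearGroup ι F) : s.transpose.transpose = s :=
  Subtype.ext (Matrix.transpose_transpose _)

/-- Inverse transpose. -/
def tinv : MulAut (SpecialLinearGroup ι F) where
  toFun s := (s⁻¹).transpose
  invFun s := (s⁻¹).transpose
  left_inv s := by simp only [transpose_inv', inv_inv, transpose_transpose']
  right_inv s := by simp only [transpose_inv', inv_inv, transpose_transpose']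
  map_mul' s t := Subtype.ext (by simp [Matrix.adjugate_mul_distrib, Matrix.transpose_mul])

theorem tinv_coe (s : SpecialLinearGroup ι F) :
    (tinv s).1 = ((s⁻¹ : SpecialLinearGroup ι F) : Matrix ι ι F).transpose := rfl

theorem tinv_tinv (s : SpecialLinearGroup ι F) : tinv (tinv s) = s := tinv.left_inv s

theorem map_center {X : Type*} [Group X] (e : X ≃* X) :
    (Subgroup.center X).map (e : X →* X) = Subgroup.center X := by
  refine le_antisymm ?_ fun y hy => ⟨e.symm y, Subgroup.mem_center_iff.2 fun x => e.injective ?_, e.apply_symm_apply y⟩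
  · rintro _ ⟨z, hz, rfl⟩
    refine Subgroup.mem_center_iff.2 fun x => ?_
    obtain ⟨x', rfl⟩ := e.surjective x
    simpa using congrArg e (Subgroup.mem_center_iff.1 hz x')
  · simpa using Subgroup.mem_center_iff.1 hy (e x)

/-- The automorphism induced on `PSL`. -/
def psl : MulAut (SpecialLinearGroup ι F) →* MulAut (ProjectiveSpecialLinearGroup ι F) where
  toFun e := QuotientGroup.congr _ _ e (map_center e)
  map_one' := MulEquiv.ext fun x => by
    obtain ⟨s, rfl⟩ := QuotientGroup.mk_surjective x
    exact QuotientGroup.congr_mk _ _ _ _ s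
  map_mul' a b := MulEquiv.ext fun x => by
    obtain ⟨s, rfl⟩ := QuotientGroup.mk_surjective x
    rfl

@[simp] theorem psl_mk (e : MulAut (SpecialLinearGroup ι F)) (s : SpecialLinearGroup ι F) :
    psl e (QuotientGroup.mk s) = QuotientGroup.mk (e s) := rfl

/-- The automorphism of `PSL` induced by conjugation. -/
def innd : GL ι F →* MulAut (ProjectiveSpecialLinearGroup ι F) := psl.comp cnjHom

/-- The standard field automorphism of `PSL`. -/
def fld : (F ≃+* F) →* MulAut (ProjectiveSpecialLinearGroup ι F) := psl.comp frobHom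

/-- The inverse transpose automorphism of `PSL`. -/
def gr : MulAut (ProjectiveSpecialLinearGroup ι F) := psl tinv

@[simp] theorem innd_mk (g : GL ι F) (s : SpecialLinearGroup ι F) :
    innd g (QuotientGroup.mk s) = QuotientGroup.mk (cnjHom g s) := rfl

@[simp] theorem fld_mk (σ : F ≃+* F) (s : SpecialLinearGroup ι F) :
    fld σ (QuotientGroup.mk s) = QuotientGroup.mk (frobHom σ s) := rfl

@[simp] theorem gr_mk (s : SpecialLinearGroup ι F) :
    gr (QuotientGroup.mk s) = QuotientGroup.mk (tinv s) := rfl

theorem aut_ext {β γ : MulAut (ProjectiveSpecialLinearGroup ι F)}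
    (h : ∀ s : SpecialLinearGroup ι F, β (QuotientGroup.mk s) = γ (QuotientGroup.mk s)) : β = γ :=
  MulEquiv.ext fun x => by obtain ⟨s, rfl⟩ := QuotientGroup.mk_surjective x; exact h s

theorem gr_mul_gr : (gr : MulAut (ProjectiveSpecialLinearGroup ι F)) * gr = 1 :=
  aut_ext fun s => by rw [MulAut.mul_apply, gr_mk, gr_mk, tinv_tinv]; rfl

theorem gr_inv : (gr : MulAut (ProjectiveSpecialLinearGroup ι F))⁻¹ = gr :=
  inv_eq_of_mul_eq_one_left gr_mul_gr

theorem gr_mul_fld (σ : F ≃+* F) :
    (gr : MulAut (ProjectiveSpecialLinearGroup ι F)) * fld σ = fld σ * gr :=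
  aut_ext fun s => by
    simp only [MulAut.mul_apply, gr_mk, fld_mk]
    refine congrArg _ (Subtype.ext ?_)
    rw [tinv_coe, frobHom_coe, tinv_coe, ← map_inv, frobHom_coe, Matrix.transpose_map]

/-- Inverse transpose of an invertible matrix. -/
def dual (g : GL ι F) : GL ι F :=
  ⟨(g⁻¹).val.transpose, g.val.transpose, by rw [← Matrix.transpose_mul, Units.mul_inv, Matrix.transpose_one],
    by rw [← Matrix.transpose_mul, Units.inv_mul, Matrix.transpose_one]⟩

theorem gr_mul_innd (g : GL ι F) :
    (gr : MulAut (ProjectiveSpecialLinearGroup ι F)) * innd g = innd (dual g) * gr :=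
  aut_ext fun s => by
    simp only [MulAut.mul_apply, gr_mk, innd_mk]
    refine congrArg _ (Subtype.ext ?_)
    rw [tinv_coe, cnjHom_coe, tinv_coe, ← map_inv, cnjHom_coe, Matrix.transpose_mul, Matrix.transpose_mul,
      ← Matrix.mul_assoc]
    rfl

theorem fld_mul_innd (σ : F ≃+* F) (g : GL ι F) :
    (fld σ : MulAut (ProjectiveSpecialLinearGroup ι F)) * innd g =
      innd (GeneralLinearGroup.map σ.toRingHom g) * fld σ :=
  aut_ext fun s => by
    simp only [MulAut.mul_apply, fld_mk, innd_mk]
    refine congrArg _ (Subtype.ext ?_)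
    rw [frobHom_coe, cnjHom_coe, cnjHom_coe, frobHom_coe]
    show (g.val * s.1 * (g⁻¹).val).map σ.toRingHom =
      g.val.map σ.toRingHom * s.1.map σ.toRingHom * (g⁻¹).val.map σ.toRingHom
    rw [Matrix.map_mul, Matrix.map_mul]

section Predicates

variable {n : ℕ}

theorem isInducedBySemilinear_iff (g : GL (Fin n) F) (σ : F ≃+* F)
    (β : MulAut (ProjectiveSpecialLinearGroup (Fin n) F)) :
    IsInducedBySemilinearPSL g σ β ↔ β = innd g * fld σ := by
  refine ⟨fun h => aut_ext fun s => ?_, fun h => ?_⟩
  · rw [MulAut.mul_apply, fld_mk, innd_mk]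
    exact h s _ (by rw [cnjHom_coe, frobHom_coe])
  · subst h
    intro s s' hs
    rw [MulAut.mul_apply, fld_mk, innd_mk]
    exact congrArg _ (Subtype.ext (by rw [cnjHom_coe, frobHom_coe, hs]))

theorem isInnerDiagonal_iff (β : MulAut (ProjectiveSpecialLinearGroup (Fin n) F)) :
    IsInnerDiagonalAutPSL β ↔ ∃ g : GL (Fin n) F, β = innd g := by
  refine exists_congr fun g => ⟨fun h => aut_ext fun s => h s _ (cnjHom_coe g s), ?_⟩
  rintro rfl s s' hs
  rw [innd_mk]
  exact congrArg _ (Subtype.ext (by rw [cnjHom_coe, hs]))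

theorem isStdField_iff (σ : F ≃+* F) (β : MulAut (ProjectiveSpecialLinearGroup (Fin n) F)) :
    IsStdFieldAutPSL σ β ↔ β = fld σ := by
  refine ⟨fun h => aut_ext fun s => h s _ (frobHom_coe σ s), ?_⟩
  rintro rfl s s' hs
  rw [fld_mk]
  exact congrArg _ (Subtype.ext (by rw [frobHom_coe, hs]))

theorem isInverseTranspose_iff (β : MulAut (ProjectiveSpecialLinearGroup (Fin n) F)) :
    IsInverseTransposeAutPSL β ↔ β = gr := by
  refine ⟨fun h => aut_ext fun s => h s _ (tinv_coe s), ?_⟩
  rintro rfl s s' hs
  rw [gr_mk]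
  exact congrArg _ (Subtype.ext (by rw [tinv_coe, hs]))

theorem inndiag_eq : inndiagPSL n F = (innd : GL (Fin n) F →* _).range := by
  rw [inndiagPSL, autSubgroupOf]
  have : {β : MulAut (ProjectiveSpecialLinearGroup (Fin n) F) | IsInnerDiagonalAutPSL β} =
      ((innd : GL (Fin n) F →* _).range : Set _) := by
    ext β
    simp only [Set.mem_ofPred_eq, isInnerDiagonal_iff, SetLike.mem_coe, MonoidHom.mem_range, eq_comm]
  rw [this, Subgroup.closure_eq]

theorem conj_mk (s : SpecialLinearGroup (Fin n) F) :
    MulAut.conj (QuotientGroup.mk s : ProjectiveSpecialLinearGroup (Fin n) F) = innd (SpecialLinearGroup.toGL s) :=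
  aut_ext fun t => by
    rw [innd_mk, MulAut.conj_apply, ← QuotientGroup.mk_inv, ← QuotientGroup.mk_mul, ← QuotientGroup.mk_mul]
    refine congrArg _ (Subtype.ext ?_)
    rw [cnjHom_coe, ← map_inv]
    rfl

end Predicates

section Faithful

/-- The matrix of an elementary transvection. -/
theorem coe_transvection {i j : ι} (hij : i ≠ j) (c : F) :
    (SpecialLinearGroup.transvection hij c).1 = 1 + single i j c := rfl

theorem single_sq {i j : ι} (hij : i ≠ j) (c d : F) : single i j c * single i j d = 0 :=
  single_mul_single_of_ne (h := hij.symm) ..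

/-- Two unipotent matrices of index two agreeing in `PSL` agree. -/
theorem eq_of_mk_eq {s t : SpecialLinearGroup ι F} {M N : Matrix ι ι F} (hs : s.1 = 1 + M) (ht : t.1 = 1 + N)
    (hM : M * M = 0) (hN : N * N = 0)
    (h : (QuotientGroup.mk s : ProjectiveSpecialLinearGroup ι F) = QuotientGroup.mk t) : M = N := by
  obtain ⟨r, -, hr⟩ := Matrix.SpecialLinearGroup.mem_center_iff.1 ((QuotientGroup.eq (s := Subgroup.center (SpecialLinearGroup ι F))).1 h)
  have e : t.1 = r • s.1 := by
    have h1 : t = s * (s⁻¹ * t) := by group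
    rw [h1, Matrix.SpecialLinearGroup.coe_mul, ← hr]
    ext i j
    simp [Matrix.mul_apply, Matrix.diagonal_apply, mul_comm]
  rcases isEmpty_or_nonempty ι with hι | ⟨⟨i⟩⟩
  · exact Matrix.ext fun i => (IsEmpty.false i).elim
  have e2 : N = (r - 1) • (1 : Matrix ι ι F) + r • M := by
    rw [hs, ht, smul_add] at e
    rw [eq_sub_of_add_eq' e, sub_smul, one_smul]
    abel
  have hr1 : r = 1 := by
    by_contra hne
    have h1 := hN
    rw [e2] at h1
    simp only [add_mul, mul_add, smul_mul_assoc, mul_smul_comm, one_mul, mul_one, hM, smul_zero, add_zero,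
      smul_add, smul_smul] at h1
    -- multiplying by `M` isolates the square of the scalar
    have h2 := congrArg (· * M) h1
    simp only [add_mul, smul_mul_assoc, one_mul, hM, smul_zero, add_zero, zero_mul] at h2
    rcases smul_eq_zero.1 h2 with h3 | h3
    · exact hne (sub_eq_zero.1 (mul_self_eq_zero.1 h3))
    · rw [h3] at h1
      simp only [smul_zero, add_zero, smul_eq_zero, one_ne_zero, or_false] at h1
      exact hne (sub_eq_zero.1 (mul_self_eq_zero.1 (h1.resolve_right fun e => one_ne_zero (α := F) (by simpa using congrFun (congrFun e i) i))))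
  rw [e2, hr1]; simp

theorem transvection_mk_injective {i j : ι} (hij : i ≠ j) {c d : F}
    (h : (QuotientGroup.mk (SpecialLinearGroup.transvection hij c) : ProjectiveSpecialLinearGroup ι F) =
      QuotientGroup.mk (SpecialLinearGroup.transvection hij d)) : c = d := by
  have := eq_of_mk_eq (coe_transvection hij c) (coe_transvection hij d) (single_sq hij c c) (single_sq hij d d) h
  simpa using congrFun (congrFun this i) j

theorem frob_single (σ : F ≃+* F) {i j : ι} (hij : i ≠ j) (c : F) :
    (frobHom σ (SpecialLinearGroup.transvection hij c)).1 = 1 + single i j (σ c) := by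
  rw [frobHom_coe, coe_transvection]
  ext a b
  simp [Matrix.one_apply, Matrix.single_apply, apply_ite σ]

theorem cnj_single (g : GL ι F) {i j : ι} (hij : i ≠ j) (c : F) :
    (cnjHom g (SpecialLinearGroup.transvection hij c)).1 = 1 + g.val * single i j c * (g⁻¹).val := by
  rw [cnjHom_coe, coe_transvection, Matrix.mul_add, Matrix.add_mul, Matrix.mul_one, Units.mul_inv]

theorem cnj_sq (g : GL ι F) {i j : ι} (hij : i ≠ j) (c : F) :
    g.val * single i j c * (g⁻¹).val * (g.val * single i j c * (g⁻¹).val) = 0 := by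
  rw [Matrix.mul_assoc (g.val * single i j c), ← Matrix.mul_assoc (g⁻¹).val, ← Matrix.mul_assoc (g⁻¹).val,
    Units.inv_mul, Matrix.one_mul, ← Matrix.mul_assoc, Matrix.mul_assoc g.val, single_sq hij, Matrix.mul_zero,
    Matrix.zero_mul]

/-- An inner-diagonal automorphism equals a field automorphism only trivially. -/
theorem innd_eq_fld [Nontrivial ι] {g : GL ι F} {σ : F ≃+* F}
    (h : (innd g : MulAut (ProjectiveSpecialLinearGroup ι F)) = fld σ) :
    σ = 1 ∧ g.val ∈ Set.range (Matrix.scalar ι : F → Matrix ι ι F) := by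
  have key : ∀ (i j : ι) (_ : i ≠ j) (c : F), g.val * single i j c = single i j (σ c) * g.val := by
    intro i j hij c
    have h1 := eq_of_mk_eq (cnj_single g hij c) (frob_single σ hij c) (cnj_sq g hij c) (single_sq hij _ _)
      (by rw [← innd_mk, h, fld_mk])
    rw [← h1, Matrix.mul_assoc _ (g⁻¹).val, Units.inv_mul, Matrix.mul_one]
  have hc : g.val ∈ Set.range (Matrix.scalar ι : F → Matrix ι ι F) :=
    mem_range_scalar_of_commute_single fun i j hij => by
      have := key i j hij 1
      rw [map_one] at this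
      exact this.symm
  refine ⟨RingEquiv.ext fun c => ?_, hc⟩
  obtain ⟨r, hr⟩ := hc
  obtain ⟨i, j, hij⟩ := exists_pair_ne ι
  have hr0 : r ≠ 0 := by
    rintro rfl
    have h0 : g.val = 0 := by rw [← hr, map_zero]
    have h1 := Units.mul_inv g
    rw [h0, Matrix.zero_mul] at h1
    exact one_ne_zero (α := F) (by simpa using (congrFun (congrFun h1 i) i).symm)
  have := congrFun (congrFun (key i j hij c) i) j
  rw [← hr] at this
  simp [Matrix.scalar_apply, Matrix.mul_diagonal, Matrix.diagonal_mul] at this
  exact (mul_left_cancel₀ hr0 (this.trans (mul_comm _ _))).symm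

theorem innd_eq_one [Nontrivial ι] {g : GL ι F} (h : (innd g : MulAut (ProjectiveSpecialLinearGroup ι F)) = 1) :
    g.val ∈ Set.range (Matrix.scalar ι : F → Matrix ι ι F) :=
  (innd_eq_fld (σ := 1) (by rw [h, map_one])).2

theorem innd_scalar {g : GL ι F} (h : g.val ∈ Set.range (Matrix.scalar ι : F → Matrix ι ι F)) :
    (innd g : MulAut (ProjectiveSpecialLinearGroup ι F)) = 1 :=
  aut_ext fun s => by
    obtain ⟨r, hr⟩ := h
    rw [innd_mk]
    refine congrArg _ (Subtype.ext ?_)
    rw [cnjHom_coe, ← hr, (Matrix.scalar_commute r (Commute.all r) s.1).eq, hr, Matrix.mul_assoc, Units.mul_inv,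
      Matrix.mul_one]

/-- For `n ≥ 3` the graph automorphism is not semilinear. -/
theorem gr_ne (h3 : 3 ≤ Fintype.card ι) (g : GL ι F) (σ : F ≃+* F) :
    (gr : MulAut (ProjectiveSpecialLinearGroup ι F)) ≠ innd g * fld σ := by
  intro h
  have key : ∀ (i j : ι) (_ : i ≠ j), g.val * single i j 1 * (g⁻¹).val = - single j i (1 : F) := by
    intro i j hij
    have h1 : (tinv (SpecialLinearGroup.transvection hij (1 : F))).1 = 1 + - single j i (1 : F) := by
      rw [tinv_coe, SpecialLinearGroup.transvection_inv, coe_transvection, Matrix.transpose_add,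
        Matrix.transpose_one, Matrix.transpose_single, Matrix.single_neg]
    have h2 : (cnjHom g (frobHom σ (SpecialLinearGroup.transvection hij (1 : F)))).1 =
        1 + g.val * single i j 1 * (g⁻¹).val := by
      rw [cnjHom_coe, frob_single, map_one, Matrix.mul_add, Matrix.add_mul, Matrix.mul_one, Units.mul_inv]
    exact eq_of_mk_eq h2 h1 (cnj_sq g hij 1) (by rw [neg_mul_neg, single_sq hij.symm])
      (by rw [← innd_mk, ← fld_mk, ← MulAut.mul_apply, ← h, gr_mk])
  obtain ⟨a, b, c, hab, hbc, hac⟩ : ∃ a b c : ι, a ≠ b ∧ b ≠ c ∧ a ≠ c := by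
    obtain ⟨a, b, c, h1, h2, h3⟩ := Fintype.two_lt_card_iff.1 h3
    exact ⟨a, b, c, h1, h3, h2⟩
  have := key a c hac
  rw [show single a c (1 : F) = single a b (1 : F) * single b c 1 by rw [single_mul_single_same, mul_one]] at this
  have e : g.val * (single a b (1 : F) * single b c 1) * (g⁻¹).val =
      g.val * single a b (1 : F) * (g⁻¹).val * (g.val * single b c 1 * (g⁻¹).val) := by
    rw [← Matrix.mul_assoc _ (g.val * single b c 1), ← Matrix.mul_assoc _ g.val,
      Matrix.mul_assoc _ (g⁻¹).val g.val, Units.inv_mul, Matrix.mul_one]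
    simp only [Matrix.mul_assoc]
  rw [e, key a b hab, key b c hbc, neg_mul_neg, single_mul_single_of_ne (h := hac)] at this
  simpa using congrFun (congrFun this c) a

end Faithful

end Cfsg.Lib.Linear.AutPSL
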