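import Cfsg.Agent.Lib.Linear.AutPSL.Basic
import Cfsg.Agent.Lib.Linear.TransvectionMax

/-!
# Subgroups of `SL_n(q)` of index the number of points

`St v` is the stabiliser of the line of `v`, `Sf φ` of the hyperplane of `φ`, `Tc v` the group of transvections with centre `v`.
A subgroup whose index is the number of points of the projective space is one of the `St v` or `Sf φ`, and `Tc v` is the
largest normal `p`-subgroup of `St v`.
-/

set_option autoImplicit false

namespace Cfsg.Lib.Linear.AutPSL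

open Matrix Cfsg.Lib.Linear Cfsg.Lib.Linear.TVec
open scoped MatrixGroups LinearAlgebra.Projectivization

variable {ι : Type} [Fintype ι] [DecidableEq ι] {F : Type*} [Field F]

theorem inv_mulVec (g : SpecialLinearGroup ι F) (v : ι → F) : (g⁻¹).1 *ᵥ (g.1 *ᵥ v) = v := by
  rw [Matrix.mulVec_mulVec, ← Matrix.SpecialLinearGroup.coe_mul, inv_mul_cancel, Matrix.SpecialLinearGroup.coe_one,
    Matrix.one_mulVec]

theorem mulVec_ne_zero (g : SpecialLinearGroup ι F) {v : ι → F} (hv : v ≠ 0) : g.1 *ᵥ v ≠ 0 := fun h =>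
  hv (by rw [← inv_mulVec g v, h, Matrix.mulVec_zero])

/-- The stabiliser of the line through `v`. -/
def St (v : ι → F) : Subgroup (SpecialLinearGroup ι F) where
  carrier := {g | ∃ c : F, g.1 *ᵥ v = c • v}
  one_mem' := ⟨1, by simp⟩
  mul_mem' := by
    rintro g h ⟨c, hc⟩ ⟨d, hd⟩
    exact ⟨d * c, by rw [Matrix.SpecialLinearGroup.coe_mul, ← Matrix.mulVec_mulVec, hd, Matrix.mulVec_smul, hc, smul_smul]⟩
  inv_mem' := by
    rintro g ⟨c, hc⟩
    refine ⟨c⁻¹, ?_⟩
    rcases eq_or_ne v 0 with rfl | hv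
    · simp
    have hc0 : c ≠ 0 := fun h => mulVec_ne_zero g hv (by rw [hc, h, zero_smul])
    conv_rhs => rw [← inv_mulVec g v, hc, Matrix.mulVec_smul, smul_smul, inv_mul_cancel₀ hc0, one_smul]

theorem mem_St {g : SpecialLinearGroup ι F} {v : ι → F} : g ∈ St v ↔ ∃ c : F, g.1 *ᵥ v = c • v := Iff.rfl

/-- The stabiliser of the hyperplane orthogonal to `φ`. -/
def Sf (φ : ι → F) : Subgroup (SpecialLinearGroup ι F) :=
  (St φ).map (tinv : SpecialLinearGroup ι F ≃* SpecialLinearGroup ι F).toMonoidHom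

theorem mem_Sf {g : SpecialLinearGroup ι F} {φ : ι → F} : g ∈ Sf φ ↔ tinv g ∈ St φ := by
  refine ⟨?_, fun h => ⟨_, h, tinv_tinv g⟩⟩
  rintro ⟨h, hh, rfl⟩
  simpa [tinv_tinv] using hh

theorem center_le_St (v : ι → F) : Subgroup.center (SpecialLinearGroup ι F) ≤ St v := fun g hg => by
  obtain ⟨r, -, hr⟩ := Matrix.SpecialLinearGroup.mem_center_iff.1 hg
  exact ⟨r, by rw [← hr]; ext i; simp [Matrix.scalar_apply, Matrix.mulVec_diagonal]⟩

/-- A transvection as an element of `SL`. -/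
def tvS (z a : ι → F) (h : a ⬝ᵥ z = 0) : SpecialLinearGroup ι F :=
  ⟨tvMat z a, by rw [det_tvMat, h, add_zero]⟩

theorem toGL_tvS (z a : ι → F) (h : a ⬝ᵥ z = 0) : SpecialLinearGroup.toGL (tvS z a h) = tv z a h := Units.ext rfl

/-- The transvections with centre `v`. -/
def Tc (v : ι → F) : Subgroup (SpecialLinearGroup ι F) where
  carrier := {g | ∃ a : ι → F, a ⬝ᵥ v = 0 ∧ g.1 = tvMat v a}
  one_mem' := ⟨0, zero_dotProduct v, by rw [tvMat_zero_right]; rfl⟩
  mul_mem' := by
    rintro g h ⟨a, ha, hg⟩ ⟨b, hb, hh⟩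
    exact ⟨a + b, by rw [add_dotProduct, ha, hb, add_zero],
      by rw [Matrix.SpecialLinearGroup.coe_mul, hg, hh, tvMat_mul_right v a b ha]⟩
  inv_mem' := by
    rintro g ⟨a, ha, hg⟩
    have hna : (-a) ⬝ᵥ v = 0 := by rw [neg_dotProduct, ha, neg_zero]
    refine ⟨-a, hna, ?_⟩
    rw [inv_eq_of_mul_eq_one_left (a := tvS v (-a) hna) (b := g) (Subtype.ext ?_)]
    · rfl
    · show tvMat v (-a) * g.1 = 1
      rw [hg, tvMat_mul_right v _ _ hna, neg_add_cancel, tvMat_zero_right]

theorem mem_Tc {g : SpecialLinearGroup ι F} {v : ι → F} :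
    g ∈ Tc v ↔ ∃ a : ι → F, a ⬝ᵥ v = 0 ∧ g.1 = tvMat v a := Iff.rfl

theorem Tc_le_St (v : ι → F) : Tc v ≤ St v := by
  rintro g ⟨a, ha, hg⟩
  exact ⟨1, by rw [hg, tvMat_mulVec, ha, zero_smul, add_zero, one_smul]⟩

theorem isPGroup_Tc (p : ℕ) [Fact p.Prime] [CharP F p] (v : ι → F) : IsPGroup p (Tc v) := by
  rintro ⟨g, a, ha, hg⟩
  refine ⟨1, Subtype.ext ?_⟩
  have hm : ∀ m : ℕ, (g ^ m).1 = tvMat v ((m : F) • a) := by
    intro m
    induction m with
    | zero => simp [tvMat_zero_right]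
    | succ m ih =>
      rw [pow_succ, Matrix.SpecialLinearGroup.coe_mul, ih, hg, tvMat_mul_right _ _ _ (by rw [smul_dotProduct, ha, smul_zero]),
        Nat.cast_succ, add_smul, one_smul]
  show g ^ p ^ 1 = 1
  exact Subtype.ext (by rw [pow_one, hm, CharP.cast_eq_zero, zero_smul, tvMat_zero_right]; rfl)

theorem conj_mem_Tc {g t : SpecialLinearGroup ι F} {v : ι → F} (hg : g ∈ St v) (ht : t ∈ Tc v) :
    g * t * g⁻¹ ∈ Tc v := by
  obtain ⟨c, hc⟩ := hg
  obtain ⟨a, ha, ht⟩ := ht
  refine ⟨c • (a ᵥ* (g⁻¹).1), ?_, ?_⟩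
  · rw [smul_dotProduct, ← Matrix.dotProduct_mulVec]
    rcases eq_or_ne c 0 with rfl | hc0
    · rw [zero_smul]
    · have h1 : (g⁻¹).1 *ᵥ v = c⁻¹ • v := by
        conv_rhs => rw [← inv_mulVec g v, hc, Matrix.mulVec_smul, smul_smul, inv_mul_cancel₀ hc0, one_smul]
      rw [h1, dotProduct_smul, ha, smul_zero, smul_zero]
  · rw [Matrix.SpecialLinearGroup.coe_mul, Matrix.SpecialLinearGroup.coe_mul, ht, ← tvMat_smul, ← hc, tvMat, tvMat,
      Matrix.mul_add, Matrix.add_mul, Matrix.mul_one, ← Matrix.SpecialLinearGroup.coe_mul, mul_inv_cancel,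
      Matrix.SpecialLinearGroup.coe_one, Matrix.mul_vecMulVec, Matrix.vecMulVec_mul]

theorem exists_move {x y : ι → F} (h : x ∉ Submodule.span F {y - x}) :
    ∃ g : SpecialLinearGroup ι F, g.1 *ᵥ x = y := by
  obtain ⟨g, hg, -, hgx, -⟩ := exists_transvection_mem_SL ⊥ x (y - x) (by rwa [bot_sup_eq])
  exact ⟨⟨g.val, by simpa using congrArg Units.val hg⟩, by simpa using hgx⟩

variable [Fintype F]

theorem index_St {v : ι → F} (hv : v ≠ 0) : (St v).index = Nat.card (ℙ F (ι → F)) := by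
  have : MulAction.IsPretransitive (SpecialLinearGroup ι F) (ℙ F (ι → F)) := ⟨fun a b => by
    by_cases h : a.rep ∈ Submodule.span F {b.rep - a.rep}
    · refine ⟨1, ?_⟩
      rw [one_smul]
      obtain ⟨c, hc⟩ := Submodule.mem_span_singleton.1 h
      have hc0 : c ≠ 0 := fun h0 => a.rep_nonzero (by rw [← hc, h0, zero_smul])
      have e : (c⁻¹ + 1) • a.rep = b.rep := by
        have h1 : c⁻¹ • a.rep = b.rep - a.rep := by
          conv_lhs => rw [← hc, smul_smul, inv_mul_cancel₀ hc0, one_smul]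
        rw [add_smul, one_smul, h1, sub_add_cancel]
      rw [← a.mk_rep, ← b.mk_rep, eq_comm, Projectivization.mk_eq_mk_iff']
      exact ⟨_, e⟩
    · obtain ⟨g, hg⟩ := exists_move h
      refine ⟨g, ?_⟩
      conv_lhs => rw [← a.mk_rep]
      conv_rhs => rw [← b.mk_rep]
      rw [Projectivization.smul_mk]
      exact (Projectivization.mk_eq_mk_iff' F _ _ _ _).2 ⟨1, by rw [one_smul]; exact hg.symm⟩⟩
  rw [← MulAction.index_stabilizer_of_transitive (G := SpecialLinearGroup ι F) (Projectivization.mk F v hv)]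
  congr 1
  ext g
  rw [MulAction.mem_stabilizer_iff, Projectivization.smul_mk, Projectivization.mk_eq_mk_iff', mem_St]
  exact exists_congr fun c => eq_comm

theorem index_Sf {φ : ι → F} (hφ : φ ≠ 0) : (Sf φ).index = Nat.card (ℙ F (ι → F)) := by
  rw [Sf, Subgroup.index_map_of_bijective (tinv : SpecialLinearGroup ι F ≃* _).bijective, index_St hφ]

theorem card_points : Nat.card (ℙ F (ι → F)) * (Fintype.card F - 1) + 1 = Fintype.card F ^ Fintype.card ι := by
  have := Projectivization.card' F (ι → F)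
  rw [Nat.card_fun, Nat.card_eq_fintype_card, Nat.card_eq_fintype_card (α := ι)] at this
  exact this.symm

theorem exists_fixed_vector [Nonempty ι] {p : ℕ} [Fact p.Prime] [CharP F p] (S : Subgroup (SpecialLinearGroup ι F))
    (hS : IsPGroup p S) : ∃ v : ι → F, v ≠ 0 ∧ ∀ g ∈ S, g.1 *ᵥ v = v := by
  have hdvd : p ∣ Nat.card (ι → F) := by
    obtain ⟨d, -, hd⟩ := FiniteField.card F p
    rw [Nat.card_fun, Nat.card_eq_fintype_card, hd, ← pow_mul]
    exact dvd_pow_self p (Nat.mul_ne_zero d.pos.ne' Nat.card_pos.ne')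
  have h0 : (0 : ι → F) ∈ MulAction.fixedPoints S (ι → F) := fun g => smul_zero _
  obtain ⟨b, hb, hb0⟩ := hS.exists_fixed_point_of_prime_dvd_card_of_fixed_point _ hdvd h0
  exact ⟨b, hb0.symm, fun g hg => hb ⟨g, hg⟩⟩

/-- A `p`-subgroup of maximal order fixing `e` contains all transvections with centre `e`. -/
theorem Tc_le_of_sylow {p : ℕ} [Fact p.Prime] [CharP F p] (S : Subgroup (SpecialLinearGroup ι F))
    (hS : IsPGroup p S) (hmax : ∀ Q : Subgroup (SpecialLinearGroup ι F), IsPGroup p Q → S ≤ Q → Q = S)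
    {e : ι → F} (he : ∀ g ∈ S, g.1 *ᵥ e = e) : Tc e ≤ S := by
  have hn : S ≤ Subgroup.normalizer (Tc e : Set (SpecialLinearGroup ι F)) := by
    intro g hg
    have hmem : ∀ x ∈ S, x ∈ St e := fun x hx => ⟨1, by rw [he x hx, one_smul]⟩
    rw [Subgroup.mem_normalizer_iff]
    refine fun t => ⟨conj_mem_Tc (hmem g hg), fun h => ?_⟩
    have := conj_mem_Tc (hmem _ (inv_mem hg)) h
    simpa [mul_assoc] using this
  rw [← hmax _ (hS.to_sup_of_normal_right' (isPGroup_Tc p e) hn) le_sup_left]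
  exact le_sup_right

/-- An invariant subspace of dimension `k` forces index at least `q^(k(n-k))`. -/
theorem pow_le_index (W : Submodule F (ι → F)) (P : Subgroup (SpecialLinearGroup ι F))
    (hP : ∀ g ∈ P, ∀ w ∈ W, g.1 *ᵥ w ∈ W) (p : ℕ) [Fact p.Prime] [CharP F p] :
    Fintype.card F ^ (Module.finrank F W * (Fintype.card ι - Module.finrank F W)) ≤ P.index := by
  obtain ⟨Z, hZ⟩ := Submodule.exists_isCompl W
  let M : (W →ₗ[F] Z) → Matrix ι ι F := fun φ =>
    LinearMap.toMatrix' (Z.subtype ∘ₗ φ ∘ₗ W.projectionOnto Z hZ)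
  have hM : ∀ φ v, M φ *ᵥ v = (φ (W.projectionOnto Z hZ v) : ι → F) := fun φ v => by
    simp only [M, LinearMap.toMatrix'_mulVec]; rfl
  have hdet : ∀ φ, (1 + M φ).det = 1 := by
    intro φ
    have hsq : M φ * M φ = 0 := Matrix.ext_of_mulVec_single fun i => by
      rw [← Matrix.mulVec_mulVec, hM, hM, Submodule.projectionOnto_apply_right hZ, map_zero, Submodule.coe_zero,
        Matrix.zero_mulVec]
    have hp := (Fact.out : p.Prime)
    rcases isEmpty_or_nonempty ι with hι | hι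
    · exact Matrix.det_isEmpty
    have h1 : (1 + M φ) ^ p = 1 := by
      rw [add_pow_char_of_commute p (Commute.one_left (M φ)), one_pow]
      obtain ⟨m, hm⟩ : ∃ m, p = m + 2 := ⟨p - 2, by have := hp.two_le; omega⟩
      rw [hm, pow_add, pow_two, hsq, mul_zero, add_zero]
    have h2 : (1 + M φ).det ^ p = 1 := by rw [← Matrix.det_pow, h1, Matrix.det_one]
    have h3 : ((1 + M φ).det - 1) ^ p = 0 := by rw [sub_pow_char, h2, one_pow, sub_self]
    exact sub_eq_zero.1 (pow_eq_zero_iff hp.ne_zero |>.1 h3)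
  let u : (W →ₗ[F] Z) → SpecialLinearGroup ι F ⧸ P := fun φ =>
    QuotientGroup.mk (⟨1 + M φ, hdet φ⟩ : SpecialLinearGroup ι F)
  have hu : Function.Injective u := by
    intro φ ψ h
    refine LinearMap.ext fun w => ?_
    let a : SpecialLinearGroup ι F := ⟨1 + M φ, hdet φ⟩
    let b : SpecialLinearGroup ι F := ⟨1 + M ψ, hdet ψ⟩
    set w' := (a⁻¹ * b).1 *ᵥ (w : ι → F) with hw'
    have hmem : w' ∈ W := hP _ (QuotientGroup.eq.1 h) _ w.2
    have e1 : a.1 *ᵥ w' = b.1 *ᵥ (w : ι → F) := by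
      rw [hw', Matrix.mulVec_mulVec, ← Matrix.SpecialLinearGroup.coe_mul, ← mul_assoc, mul_inv_cancel, one_mul]
    have e2 : w' + (φ ⟨w', hmem⟩ : ι → F) = (w : ι → F) + (ψ w : ι → F) := by
      have ha := hM φ w'
      have hb := hM ψ (w : ι → F)
      rw [show w' = ((⟨w', hmem⟩ : W) : ι → F) from rfl, Submodule.projectionOnto_apply_left] at ha
      rw [Submodule.projectionOnto_apply_left] at hb
      rw [← ha, ← hb]
      simpa [a, b, Matrix.add_mulVec] using e1
    have e3 : w' = (w : ι → F) := by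
      have h1 : w' - (w : ι → F) = (ψ w : ι → F) - (φ ⟨w', hmem⟩ : ι → F) := by
        rw [eq_sub_iff_add_eq, sub_add_eq_add_sub, e2, add_sub_cancel_left]
      have h2 : w' - (w : ι → F) ∈ W ⊓ Z := ⟨sub_mem hmem w.2, h1 ▸ sub_mem (ψ w).2 (φ ⟨w', hmem⟩).2⟩
      rw [hZ.inf_eq_bot, Submodule.mem_bot] at h2
      exact sub_eq_zero.1 h2
    have e4 : (⟨w', hmem⟩ : W) = w := Subtype.ext e3
    rw [e4, e3, add_right_inj] at e2
    exact Subtype.ext e2
  have hcard := Nat.card_le_card_of_injective u hu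
  rw [Subgroup.index_eq_card]
  refine le_trans (le_of_eq ?_) hcard
  have hZdim := Submodule.finrank_add_eq_of_isCompl hZ
  rw [Module.finrank_fintype_fun_eq_card] at hZdim
  rw [Module.natCard_eq_pow_finrank (K := F) (V := W →ₗ[F] Z), Module.finrank_linearMap, Nat.card_eq_fintype_card]
  congr 2
  omega

/-- Subgroups of index the number of points. -/
theorem eq_St_or_Sf {p : ℕ} [Fact p.Prime] [CharP F p] (hn : 2 ≤ Fintype.card ι)
    (P : Subgroup (SpecialLinearGroup ι F)) (hP : P.index = Nat.card (ℙ F (ι → F))) :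
    ∃ w : ι → F, w ≠ 0 ∧ (P = St w ∨ P = Sf w) := by
  have : Nonempty ι := Fintype.card_pos_iff.1 (by omega)
  set q := Fintype.card F with hq
  set n := Fintype.card ι with hn'
  set N := Nat.card (ℙ F (ι → F)) with hN
  have hNq : N * (q - 1) + 1 = q ^ n := card_points
  have hq2 : 2 ≤ q := Fintype.one_lt_card
  have hN0 : 0 < N := by
    rcases Nat.eq_zero_or_pos N with h | h
    · rw [h, zero_mul, zero_add] at hNq
      exact absurd hNq.symm (Nat.one_lt_pow (by omega) (by omega)).ne'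
    · exact h
  have hNlt : N < q ^ n := by
    have := Nat.le_mul_of_pos_right N (show 0 < q - 1 by omega)
    omega
  have hpN : ¬ p ∣ N := fun h => by
    obtain ⟨d, -, hd⟩ := FiniteField.card F p
    have h1 : p ∣ q ^ n := dvd_pow (by rw [hq, hd]; exact dvd_pow_self p d.pos.ne') (by omega)
    rw [← hNq] at h1
    exact (Fact.out : p.Prime).not_dvd_one ((Nat.dvd_add_right (h.mul_right _)).1 h1)
  -- a Sylow subgroup of `SL` inside `P`
  obtain ⟨S₀⟩ := (inferInstance : Nonempty (Sylow p P))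
  let S : Subgroup (SpecialLinearGroup ι F) := (S₀ : Subgroup P).map P.subtype
  have hSP : S ≤ P := Subgroup.map_subtype_le _
  have hSp : IsPGroup p S := S₀.isPGroup'.map _
  have hmax : ∀ Q : Subgroup (SpecialLinearGroup ι F), IsPGroup p Q → S ≤ Q → Q = S := by
    intro Q hQ hSQ
    refine (Subgroup.eq_of_le_of_card_ge hSQ ?_).symm
    obtain ⟨k, hk⟩ := hQ.exists_card_eq
    have hS : Nat.card S = p ^ (Nat.card P).factorization p := by
      rw [Subgroup.card_map_of_injective P.subtype_injective, S₀.card_eq_multiplicity]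
    have h1 : Nat.card Q ∣ Nat.card P * N := by
      rw [← hP, Subgroup.card_mul_index]; exact Subgroup.card_subgroup_dvd_card Q
    rw [hk] at h1 ⊢
    rw [hS]
    refine Nat.pow_le_pow_right (Fact.out : p.Prime).pos ?_
    exact ((Fact.out : p.Prime).pow_dvd_iff_le_factorization Nat.card_pos.ne').1
      ((Nat.Coprime.pow_left k (((Fact.out : p.Prime).coprime_iff_not_dvd).2 hpN)).dvd_of_dvd_mul_right h1)
  obtain ⟨e, he0, he⟩ := exists_fixed_vector S hSp
  obtain ⟨φ, hφ0, hφ⟩ := exists_fixed_vector (S.map (tinv : SpecialLinearGroup ι F ≃* _).toMonoidHom) (hSp.map _)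
  have hTe : Tc e ≤ P := (Tc_le_of_sylow S hSp hmax he).trans hSP
  have hTφ : ∀ t ∈ Tc φ, tinv t ∈ P := by
    have h1 : Tc φ ≤ S.map (tinv : SpecialLinearGroup ι F ≃* _).toMonoidHom := by
      refine Tc_le_of_sylow _ (hSp.map _) (fun Q hQ hSQ => ?_) hφ
      have h2 := hmax (Q.map (tinv : SpecialLinearGroup ι F ≃* _).toMonoidHom) (hQ.map _) (fun s hs =>
        ⟨tinv s, hSQ ⟨s, hs, rfl⟩, tinv_tinv s⟩)
      refine le_antisymm (fun x hx => ⟨tinv x, h2 ▸ ⟨x, hx, rfl⟩, tinv_tinv x⟩) hSQ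
    intro t ht
    obtain ⟨s, hs, rfl⟩ := h1 ht
    exact hSP (by simpa [tinv_tinv] using hs)
  let L : Subgroup (GL ι F) := P.map SpecialLinearGroup.toGL
  have hLe : Full L e := fun a ha =>
    ⟨ha, ⟨tvS e a ha, hTe ⟨a, ha, rfl⟩, toGL_tvS e a ha⟩⟩
  have hLφ : ∀ z, φ ⬝ᵥ z = 0 → TVec.InT L z φ := fun z hz => by
    refine ⟨hz, ⟨tinv (tvS φ (-z) ?_), hTφ _ ⟨-z, ?_, rfl⟩, Units.ext ?_⟩⟩
    · rw [neg_dotProduct, dotProduct_comm, hz, neg_zero]
    · rw [neg_dotProduct, dotProduct_comm, hz, neg_zero]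
    · show ((tvS φ (-z) _)⁻¹ : SpecialLinearGroup ι F).1.transpose = tvMat z φ
      rw [inv_eq_of_mul_eq_one_left (a := tvS φ z (by rw [dotProduct_comm, hz])) (Subtype.ext ?_)]
      · show (tvMat φ z).transpose = tvMat z φ
        rw [tvMat, tvMat, Matrix.transpose_add, Matrix.transpose_one, Matrix.transpose_vecMulVec]
      · show tvMat φ z * tvMat φ (-z) = 1
        rw [tvMat_mul_right _ _ _ (by rw [dotProduct_comm, hz]), add_neg_cancel, tvMat_zero_right]
  by_cases horb : ∀ g ∈ P, φ ⬝ᵥ (g.1 *ᵥ e) = 0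
  · -- an invariant subspace
    let W : Submodule F (ι → F) := Submodule.span F {v | ∃ g ∈ P, g.1 *ᵥ e = v}
    have hW : ∀ g ∈ P, ∀ w ∈ W, g.1 *ᵥ w ∈ W := by
      intro g hg w hw
      have h1 : W.map (Matrix.mulVecLin g.1) ≤ W := by
        rw [Submodule.map_span, Submodule.span_le]
        rintro _ ⟨_, ⟨h, hh, rfl⟩, rfl⟩
        exact Submodule.subset_span ⟨g * h, mul_mem hg hh, by simp [Matrix.mulVec_mulVec]⟩
      exact h1 ⟨w, hw, rfl⟩
    let δ : (ι → F) →ₗ[F] F := dotProductBilin F F φ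
    have hWker : W ≤ LinearMap.ker δ := by
      rw [Submodule.span_le]
      rintro _ ⟨g, hg, rfl⟩
      exact horb g hg
    have hew : e ∈ W := Submodule.subset_span ⟨1, one_mem _, by simp⟩
    have hδ : δ ≠ 0 := fun h => hφ0 (dotProduct_eq_zero _ fun v => LinearMap.congr_fun h v)
    have hker : Module.finrank F (LinearMap.ker δ) + 1 = n := by
      rw [hn', ← Module.finrank_fintype_fun_eq_card (η := ι) F]
      exact Module.Dual.finrank_ker_add_one_of_ne_zero hδ
    have hk1 : 1 ≤ Module.finrank F W := Submodule.one_le_finrank_iff.2 fun h => he0 (by simpa [h] using hew)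
    have hk2 : Module.finrank F W + 1 ≤ n := by have := Submodule.finrank_mono hWker; omega
    have hle := pow_le_index W P hW p
    rw [hP] at hle
    have hexp : Module.finrank F W * (n - Module.finrank F W) < n :=
      (Nat.pow_lt_pow_iff_right hq2).1 (lt_of_le_of_lt hle hNlt)
    have hcase : Module.finrank F W = 1 ∨ Module.finrank F W + 1 = n := by
      by_contra hc
      push Not at hc
      obtain ⟨a, ha⟩ : ∃ a, Module.finrank F W = a + 2 := ⟨_ - 2, (Nat.sub_add_cancel (by omega)).symm⟩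
      obtain ⟨b, hb⟩ : ∃ b, n - Module.finrank F W = b + 2 := ⟨_ - 2, (Nat.sub_add_cancel (by omega)).symm⟩
      rw [hb] at hexp
      rw [ha] at hexp
      have : n = a + b + 4 := by omega
      nlinarith
    rcases hcase with hk | hk
    · have hWe : W = Submodule.span F {e} := (Submodule.eq_of_le_of_finrank_le
        ((Submodule.span_singleton_le_iff_mem _ _).2 hew) (by rw [hk, finrank_span_singleton he0])).symm
      refine ⟨e, he0, Or.inl (Subgroup.eq_of_le_of_card_ge (fun g hg => ?_) (le_of_eq ?_))⟩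
      · obtain ⟨c, hc⟩ := Submodule.mem_span_singleton.1 (hWe ▸ hW g hg e hew)
        exact ⟨c, hc.symm⟩
      · refine Nat.eq_of_mul_eq_mul_right hN0 ?_
        conv_lhs => rw [hN, ← index_St he0, Subgroup.card_mul_index]
        conv_rhs => rw [← hP, Subgroup.card_mul_index]
    · have hWe : W = LinearMap.ker δ := Submodule.eq_of_le_of_finrank_le hWker (by omega)
      refine ⟨φ, hφ0, Or.inr (Subgroup.eq_of_le_of_card_ge (fun g hg => mem_Sf.2 ?_) (le_of_eq ?_))⟩
      · obtain ⟨u, hu⟩ : ∃ u, δ u ≠ 0 := by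
          by_contra hc; push Not at hc; exact hδ (LinearMap.ext hc)
        refine ⟨δ ((g⁻¹).1 *ᵥ u) / δ u, ?_⟩
        rw [tinv_coe]
        refine dotProduct_eq _ _ fun v => ?_
        rw [Matrix.mulVec_transpose, ← Matrix.dotProduct_mulVec, smul_dotProduct]
        have hmem : v - (δ v / δ u) • u ∈ LinearMap.ker δ := by
          rw [LinearMap.mem_ker, map_sub, map_smul, smul_eq_mul, div_mul_cancel₀ _ hu, sub_self]
        have h1 := hW _ (inv_mem hg) _ (hWe ▸ hmem)
        rw [hWe, LinearMap.mem_ker, Matrix.mulVec_sub, Matrix.mulVec_smul, map_sub, map_smul, sub_eq_zero] at h1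
        show δ ((g⁻¹).1 *ᵥ v) = _ • δ v
        rw [h1, smul_eq_mul, smul_eq_mul]
        ring
      · refine Nat.eq_of_mul_eq_mul_right hN0 ?_
        conv_lhs => rw [hN, ← index_Sf hφ0, Subgroup.card_mul_index]
        conv_rhs => rw [← hP, Subgroup.card_mul_index]
  · -- all transvections lie in `P`
    exfalso
    push Not at horb
    obtain ⟨g, hg, hge⟩ := horb
    have hLg : Full L (g.1 *ᵥ e) := full_mulVec (g := SpecialLinearGroup.toGL g) (Subgroup.mem_map_of_mem _ hg) hLe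
    have hout : ∀ z, φ ⬝ᵥ z ≠ 0 → Full L z := by
      intro z hz
      set u := g.1 *ᵥ e with hu
      set c := φ ⬝ᵥ z / φ ⬝ᵥ u with hc
      have hc0 : c ≠ 0 := div_ne_zero hz hge
      set w := (φ ⬝ᵥ u)⁻¹ • (c⁻¹ • z - u) with hw
      have hw0 : φ ⬝ᵥ w = 0 := by
        rw [hw, dotProduct_smul, dotProduct_sub, dotProduct_smul, hc]
        simp only [smul_eq_mul]
        field_simp
        ring
      obtain ⟨hw1, ⟨t, htP, ht⟩⟩ := hLφ w hw0
      have h1 : Full L (tvMat w φ *ᵥ u) := full_mulVec (g := tv w φ hw1) (show tv w φ hw1 ∈ L from ⟨t, htP, ht⟩) hLg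
      have e : c • (tvMat w φ *ᵥ u) = z := by
        rw [tvMat_mulVec, hw, smul_smul, mul_inv_cancel₀ hge, one_smul, add_sub_cancel, smul_smul,
          mul_inv_cancel₀ hc0, one_smul]
      intro a ha
      rw [← e] at ha ⊢
      rw [dotProduct_smul, smul_eq_mul, mul_eq_zero] at ha
      refine inT_smul_left (h1 _ ?_)
      rw [smul_dotProduct, ha.resolve_left hc0, smul_zero]
    have hall : ∀ z, Full L z := by
      intro z a ha
      by_cases hz : φ ⬝ᵥ z ≠ 0
      · exact hout z hz a ha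
      rw [ne_eq, not_not] at hz
      by_cases hprop : ∃ c : F, a = c • φ
      · obtain ⟨c, rfl⟩ := hprop
        refine inT_smul_right (hLφ _ ?_)
        rw [dotProduct_smul, hz, smul_zero]
      · obtain ⟨w, hwa, hwφ⟩ : ∃ w, a ⬝ᵥ w = 0 ∧ φ ⬝ᵥ w ≠ 0 := by
          by_contra hc
          push Not at hc
          obtain ⟨u, hu⟩ : ∃ u, φ ⬝ᵥ u ≠ 0 := ⟨_, hge⟩
          have hau : a ⬝ᵥ u ≠ 0 := fun h => hu (hc u h)
          refine hprop ⟨a ⬝ᵥ u / φ ⬝ᵥ u, dotProduct_eq _ _ fun v => ?_⟩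
          have := hc (v - (a ⬝ᵥ v / a ⬝ᵥ u) • u) (by
            rw [dotProduct_sub, dotProduct_smul, smul_eq_mul, div_mul_cancel₀ _ hau, sub_self])
          rw [dotProduct_sub, dotProduct_smul, smul_eq_mul, sub_eq_zero] at this
          rw [smul_dotProduct, smul_eq_mul, this]
          field_simp
        have h1 := hout (z + w) (by rw [dotProduct_add, hz, zero_add]; exact hwφ) a
          (by rw [dotProduct_add, ha, hwa, add_zero])
        have h2 := hout (-w) (by rw [dotProduct_neg, neg_ne_zero]; exact hwφ) a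
          (by rw [dotProduct_neg, hwa, neg_zero])
        simpa using inT_add_left h1 h2
    have htop : P = ⊤ := by
      refine eq_top_iff.2 fun x _ => ?_
      have hx : SpecialLinearGroup.toGL x ∈ L := SL_le_of_full hall (Units.ext (by simp))
      obtain ⟨y, hy, hxy⟩ := hx
      exact toGL_injective' hxy ▸ hy
    rw [htop, Subgroup.index_top] at hP
    have h1 : q ^ n ≤ q := by rw [← hNq, ← hP]; omega
    have : q ^ 1 < q ^ n := Nat.pow_lt_pow_right (by omega) (by omega)
    rw [pow_one] at this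
    omega

end Cfsg.Lib.Linear.AutPSL
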