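import Mathlib

/-!
# Galois descent for `GL_n` over a finite field, and Hermitian matrices

For a field automorphism `σ` of prime order `r`: a matrix whose twisted norm is `1` is `B σ(B)⁻¹`, the norm to the fixed field
is surjective, and, for `r = 2`, an invertible Hermitian matrix is `B σ(B)ᵀ`.
-/

set_option autoImplicit false

namespace Cfsg.Lib.Linear.Descent

open Matrix
open scoped MatrixGroups

variable {ι : Type*} [Fintype ι] [DecidableEq ι] {F : Type*} [Field F]

/-- Entrywise application of a field automorphism to an invertible matrix. -/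
abbrev sm (σ : F ≃+* F) : GL ι F →* GL ι F := GeneralLinearGroup.map σ.toRingHom

@[simp] theorem sm_val (σ : F ≃+* F) (g : GL ι F) : (sm σ g).val = g.val.map σ := rfl

theorem sm_one (g : GL ι F) : sm (1 : F ≃+* F) g = g := Units.ext (Matrix.ext fun _ _ => rfl)

theorem sm_mul (σ τ : F ≃+* F) (g : GL ι F) : sm (σ * τ) g = sm σ (sm τ g) := Units.ext (Matrix.ext fun _ _ => rfl)

/-- Scalar matrices. -/
abbrev sc : Fˣ →* GL ι F := Units.map (Matrix.scalar ι : F →+* Matrix ι ι F).toMonoidHom

theorem sc_val (c : Fˣ) : (sc c : GL ι F).val = (c : F) • (1 : Matrix ι ι F) := by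
  simp [Matrix.smul_one_eq_diagonal]

theorem sc_comm (c : Fˣ) (g : GL ι F) : sc c * g = g * sc c :=
  Units.ext (by rw [Units.val_mul, Units.val_mul, sc_val]; simp)

theorem sm_sc (σ : F ≃+* F) (c : Fˣ) : sm σ (sc c : GL ι F) = sc (Units.map σ.toRingHom.toMonoidHom c) :=
  Units.ext (Matrix.ext fun i j => by simp [Matrix.diagonal_apply, apply_ite σ])

/-- The twisted product `g σ(g) ⋯ σ^(k-1)(g)`. -/
def tw (σ : F ≃+* F) (g : GL ι F) : ℕ → GL ι F
  | 0 => 1
  | k + 1 => g * sm σ (tw σ g k)

theorem tw_succ' (σ : F ≃+* F) (g : GL ι F) (k : ℕ) : tw σ g (k + 1) = tw σ g k * sm (σ ^ k) g := by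
  induction k with
  | zero => simp [tw, sm_one]
  | succ k ih =>
    conv_lhs => rw [tw, ih, map_mul, ← mul_assoc, ← sm_mul, ← pow_succ', ← tw]

theorem tw_sc_mul (σ : F ≃+* F) (c : Fˣ) (g : GL ι F) (k : ℕ) :
    tw σ (sc c * g) k = sc ((∏ i ∈ Finset.range k, Units.map (σ ^ i).toRingHom.toMonoidHom c)) * tw σ g k := by
  induction k with
  | zero => simp [tw]
  | succ k ih =>
    rw [tw_succ', ih, tw_succ', map_mul, Finset.prod_range_succ, map_mul, sm_sc]
    simp only [mul_assoc]
    rw [← mul_assoc (tw σ g k), ← sc_comm]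
    simp only [mul_assoc]

variable {r : ℕ}

theorem pow_injOn [Fact r.Prime] {σ : F ≃+* F} (hσ : orderOf σ = r) :
    Function.Injective fun i : Fin r => (σ ^ (i : ℕ)).toRingHom.toMonoidHom := by
  intro i j h
  have h1 : σ ^ (i : ℕ) = σ ^ (j : ℕ) := RingEquiv.ext fun x => DFunLike.congr_fun h x
  exact Fin.ext (pow_injOn_Iio_orderOf (x := σ) (by rw [hσ]; exact i.2) (by rw [hσ]; exact j.2) h1)

/-- **Galois descent.** A matrix of twisted norm `1` is `B σ(B)⁻¹`. -/
theorem exists_eq_mul_inv [Fact r.Prime] {σ : F ≃+* F} (hσ : orderOf σ = r) (A : GL ι F) (hA : tw σ A r = 1) :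
    ∃ B : GL ι F, A = B * (sm σ B)⁻¹ := by
  have hr : 0 < r := (Fact.out : r.Prime).pos
  let T : (ι → F) → (ι → F) := fun v => A.val *ᵥ fun i => σ (v i)
  have hTit : ∀ (k : ℕ) (v : ι → F), T^[k] v = (tw σ A k).val *ᵥ fun i => (σ ^ k) (v i) := by
    intro k
    induction k with
    | zero => intro v; simp [tw]
    | succ k ih =>
      intro v
      rw [Function.iterate_succ_apply', ih]
      show A.val *ᵥ _ = (A * sm σ (tw σ A k)).val *ᵥ _
      rw [Units.val_mul, ← Matrix.mulVec_mulVec, sm_val]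
      congr 1
      funext i
      show σ ((tw σ A k).val i ⬝ᵥ _) = _
      simp [Matrix.mulVec, dotProduct, map_sum, map_mul, pow_succ']
  have hadd : ∀ u v, T (u + v) = T u + T v := fun u v => by
    simp only [T, Pi.add_apply, map_add]; exact Matrix.mulVec_add _ _ _
  have hsmul : ∀ (c : F) v, T (c • v) = σ c • T v := fun c v => by
    simp only [T, Pi.smul_apply, smul_eq_mul, map_mul]; exact Matrix.mulVec_smul A.val (σ c) fun i => σ (v i)
  have hsum : ∀ (s : Finset (Fin r)) (f : Fin r → ι → F), T (∑ i ∈ s, f i) = ∑ i ∈ s, T (f i) := by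
    intro s f
    induction s using Finset.induction_on with
    | empty => simpa using hsmul 0 0
    | insert a s ha ih => rw [Finset.sum_insert ha, Finset.sum_insert ha, hadd, ih]
  have hfix : ∀ (c : F) (v : ι → F), T (∑ i : Fin r, (σ ^ (i : ℕ)) c • T^[i] v) = ∑ i : Fin r, (σ ^ (i : ℕ)) c • T^[i] v := by
    intro c v
    rw [hsum]
    simp only [hsmul, ← Function.iterate_succ_apply']
    obtain ⟨m, rfl⟩ : ∃ m, r = m + 1 := ⟨r - 1, by omega⟩
    rw [Fin.sum_univ_castSucc, Fin.sum_univ_succ (f := fun i : Fin (m + 1) => (σ ^ (i : ℕ)) c • T^[i] v), add_comm]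
    simp only [Fin.val_castSucc, Fin.val_last, Fin.val_succ, Fin.val_zero, pow_zero, Function.iterate_zero_apply]
    have hs : ∀ i : ℕ, σ ((σ ^ i) c) = (σ ^ (i + 1)) c := fun i => by rw [pow_succ']; rfl
    simp only [hs]
    congr 1
    have h1 : σ ^ (m + 1) = 1 := by rw [← hσ, pow_orderOf_eq_one]
    rw [hTit, show m.succ = m + 1 from rfl, hA, h1]
    simp
  have hspan : ⊤ ≤ Submodule.span F {v : ι → F | T v = v} := by
    refine le_of_eq ?_
    by_contra hne
    obtain ⟨x, -, hx⟩ := SetLike.exists_of_lt (lt_top_iff_ne_top.2 (Ne.symm hne))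
    obtain ⟨φ, hφx, hφ⟩ := Submodule.exists_dual_map_eq_bot_of_notMem hx inferInstance
    have h0 : ∀ c : F, ∑ i : Fin r, φ (T^[i] x) * (σ ^ (i : ℕ)) c = 0 := fun c => by
      have h1 : φ (∑ i : Fin r, (σ ^ (i : ℕ)) c • T^[i] x) ∈ (Submodule.span F {v : ι → F | T v = v}).map φ :=
        ⟨_, Submodule.subset_span (hfix c x), rfl⟩
      rw [hφ, Submodule.mem_bot, map_sum] at h1
      simpa [mul_comm] using h1
    have hli := (linearIndependent_monoidHom F F).comp _ (pow_injOn hσ)
    rw [Fintype.linearIndependent_iff] at hli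
    have := hli (fun i => φ (T^[i] x)) (funext fun c => by simpa [Finset.sum_apply] using h0 c) ⟨0, hr⟩
    exact hφx (by simpa using this)
  obtain ⟨b, hbsub, hbspan, hli⟩ := exists_linearIndependent F {v : ι → F | T v = v}
  have hb : Submodule.span F b = ⊤ := by rw [hbspan]; exact top_le_iff.1 hspan
  let bb : Module.Basis b F (ι → F) := Module.Basis.mk hli (by rw [Subtype.range_coe, hb])
  haveI : Fintype b := FiniteDimensional.fintypeBasisIndex bb
  let e : ι ≃ b := Fintype.equivOfCardEq (by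
    rw [← Module.finrank_fintype_fun_eq_card (R := F) (η := ι), Module.finrank_eq_card_basis bb])
  let M : Matrix ι ι F := (Matrix.of fun j => ((e j : b) : ι → F)).transpose
  have hu : IsUnit M := Matrix.linearIndependent_cols_iff_isUnit.1 (by
    show LinearIndependent F fun j => fun i => M i j
    exact hli.comp e e.injective)
  obtain ⟨B, hB⟩ := hu
  refine ⟨B, ?_⟩
  rw [eq_mul_inv_iff_mul_eq]
  refine Units.ext (Matrix.ext fun i j => ?_)
  rw [Units.val_mul, sm_val, hB]
  exact congrFun (hbsub (e j).2) i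

section Norm

variable [Fintype F]

/-- The twisted norm on the field. -/
def nrm (σ : F ≃+* F) (r : ℕ) (c : Fˣ) : Fˣ := ∏ i ∈ Finset.range r, Units.map (σ ^ i).toRingHom.toMonoidHom c

omit [Fintype F] in
theorem tw_sc (σ : F ≃+* F) (c : Fˣ) : tw σ (sc c : GL ι F) r = sc (nrm σ r c) := by
  have h1 : ∀ k, tw σ (1 : GL ι F) k = 1 := fun k => by
    induction k with
    | zero => rfl
    | succ k ih => rw [tw, ih, map_one, one_mul]
  simpa [nrm, h1] using tw_sc_mul σ c (1 : GL ι F) r

omit [Fintype F] in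
/-- Hilbert's Theorem 90. -/
theorem hilbert90 [Fact r.Prime] {σ : F ≃+* F} (hσ : orderOf σ = r) {c : Fˣ} (hc : nrm σ r c = 1) :
    ∃ d : Fˣ, c = d * (Units.map σ.toRingHom.toMonoidHom d)⁻¹ := by
  obtain ⟨B, hB⟩ := exists_eq_mul_inv (ι := Fin 1) hσ (sc c) (by rw [tw_sc, hc, map_one])
  rw [eq_mul_inv_iff_mul_eq] at hB
  have h1 := congrArg (fun g : GL (Fin 1) F => g.val 0 0) hB
  simp [Matrix.mul_apply, Matrix.diagonal_apply] at h1
  have hne : B.val 0 0 ≠ 0 := fun h0 => by
    have := congrFun (congrFun (Units.mul_inv B) 0) 0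
    rw [Matrix.mul_apply, Fin.sum_univ_one, h0, zero_mul, Matrix.one_apply_eq] at this
    exact one_ne_zero this.symm
  refine ⟨Units.mk0 _ hne, ?_⟩
  rw [eq_mul_inv_iff_mul_eq]
  exact Units.ext h1

/-- The norm to the fixed field is surjective. -/
theorem exists_nrm_eq [Fact r.Prime] {σ : F ≃+* F} (hσ : orderOf σ = r) {c : Fˣ} (hc : σ c = c) :
    ∃ d : Fˣ, nrm σ r d = c := by
  let σu : Fˣ →* Fˣ := Units.map σ.toRingHom.toMonoidHom
  let N : Fˣ →* Fˣ := MonoidHom.mk' (nrm σ r) fun a b => by simp [nrm, Finset.prod_mul_distrib]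
  let D : Fˣ →* Fˣ := MonoidHom.mk' (fun d => d * (σu d)⁻¹) fun a b => by
    rw [map_mul, _root_.mul_inv, mul_mul_mul_comm]
  have hle : N.ker ≤ D.range := fun a ha => by
    obtain ⟨d, hd⟩ := hilbert90 hσ (MonoidHom.mem_ker.1 ha)
    exact ⟨d, hd.symm⟩
  have hDker : ∀ a, a ∈ D.ker ↔ σ a = a := fun a => by
    rw [MonoidHom.mem_ker, MonoidHom.mk'_apply, mul_inv_eq_one, eq_comm, Units.ext_iff]
    rfl
  have hrange : N.range ≤ D.ker := by
    rintro _ ⟨a, rfl⟩
    rw [hDker]
    show σ ((nrm σ r a : Fˣ) : F) = ((nrm σ r a : Fˣ) : F)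
    simp only [nrm, Units.coe_prod, map_prod, Units.coe_map]
    obtain ⟨m, hm⟩ : ∃ m, r = m + 1 := ⟨r - 1, (Nat.sub_add_cancel (Fact.out : r.Prime).pos).symm⟩
    rw [hm, Finset.prod_range_succ' (fun i => ((σ ^ i).toRingHom.toMonoidHom) (a : F)),
      Finset.prod_range_succ (fun i => σ (((σ ^ i).toRingHom.toMonoidHom) (a : F)))]
    congr 1
    · exact Finset.prod_congr rfl fun i _ => by simp [pow_succ']
    · show σ ((σ ^ m) (a : F)) = (σ ^ 0) (a : F)
      show (σ * σ ^ m) (a : F) = (σ ^ 0) (a : F)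
      rw [← pow_succ', ← hm, ← hσ, pow_orderOf_eq_one, pow_zero]
  have hge : Nat.card D.ker ≤ Nat.card N.range := by
    have h1 := Subgroup.card_le_of_le hle
    have h2 := Subgroup.card_mul_index D.ker
    have h3 := Subgroup.card_mul_index N.ker
    rw [Subgroup.index_ker] at h2 h3
    by_contra hlt
    push Not at hlt
    have : Nat.card N.ker * Nat.card N.range < Nat.card D.range * Nat.card D.ker := by
      calc Nat.card N.ker * Nat.card N.range ≤ Nat.card D.range * Nat.card N.range := Nat.mul_le_mul_right _ h1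
        _ < _ := Nat.mul_lt_mul_of_pos_left hlt Nat.card_pos
    rw [h3, mul_comm, h2] at this
    exact lt_irrefl _ this
  have heq := Subgroup.eq_of_le_of_card_ge hrange hge
  have hcm : c ∈ D.ker := (hDker c).2 hc
  rw [← heq] at hcm
  exact hcm

omit [Fintype F] in
theorem sm_tw (σ : F ≃+* F) (A : GL ι F) {k : ℕ} (hk : σ ^ k = 1) : sm σ (tw σ A k) = A⁻¹ * tw σ A k * A := by
  have h : A * sm σ (tw σ A k) = tw σ A k * A := by
    rw [← tw, tw_succ', hk, sm_one]
  rw [mul_assoc, ← h, inv_mul_cancel_left]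

/-- A matrix with scalar twisted norm is a scalar times `B σ(B)⁻¹`. -/
theorem exists_sc_mul [Nonempty ι] [Fact r.Prime] {σ : F ≃+* F} (hσ : orderOf σ = r) (A : GL ι F) {c : Fˣ}
    (hA : tw σ A r = sc c) : ∃ (d : Fˣ) (B : GL ι F), A = sc d * (B * (sm σ B)⁻¹) := by
  have hc : σ c = c := by
    obtain ⟨i⟩ := (inferInstance : Nonempty ι)
    have h := sm_tw σ A (k := r) (by rw [← hσ, pow_orderOf_eq_one])
    rw [hA, sm_sc, mul_assoc, sc_comm c A, inv_mul_cancel_left] at h
    have h1 := congrArg (fun g : GL ι F => g.val i i) h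
    simpa [Matrix.diagonal_apply] using h1
  obtain ⟨d, hd⟩ := exists_nrm_eq hσ hc
  obtain ⟨B, hB⟩ := exists_eq_mul_inv hσ (sc d⁻¹ * A) (by
    have e : nrm σ r d⁻¹ = (nrm σ r d)⁻¹ := by simp [nrm]
    rw [tw_sc_mul, ← nrm, e, hd, hA, ← map_mul, inv_mul_cancel, map_one])
  exact ⟨d, B, by rw [← hB, ← mul_assoc, ← map_mul, mul_inv_cancel, map_one, one_mul]⟩

/-- A matrix with `σ(A) = c A` is a scalar times a matrix fixed by `σ`. -/
theorem exists_fixed [Nonempty ι] [Fact r.Prime] {σ : F ≃+* F} (hσ : orderOf σ = r) (A : GL ι F) {c : Fˣ}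
    (hA : sm σ A = sc c * A) : ∃ (d : Fˣ) (B : GL ι F), sm σ B = B ∧ A = sc d * B := by
  have hpow : ∀ k, sm (σ ^ k) A = sc (nrm σ k c) * A := by
    intro k
    induction k with
    | zero => simp [nrm, sm_one]
    | succ k ih =>
      rw [pow_succ, sm_mul, hA, map_mul, sm_sc, ih, ← mul_assoc, ← map_mul, nrm, nrm, Finset.prod_range_succ,
        mul_comm (∏ i ∈ Finset.range k, _)]
  have hc : nrm σ r c = 1 := by
    obtain ⟨i⟩ := (inferInstance : Nonempty ι)
    have h := hpow r
    rw [← hσ, pow_orderOf_eq_one, hσ, sm_one, eq_comm, mul_eq_right] at h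
    exact Units.ext (by simpa using congrArg (fun g : GL ι F => g.val i i) h)
  obtain ⟨e, he⟩ := hilbert90 hσ hc
  refine ⟨e⁻¹, sc e * A, ?_, by rw [← mul_assoc, ← map_mul, inv_mul_cancel, map_one, one_mul]⟩
  rw [map_mul, sm_sc, hA, ← mul_assoc, ← map_mul, he, mul_left_comm, mul_inv_cancel, mul_one]

theorem exists_norm {σ : F ≃+* F} (hσ : orderOf σ = 2) {a : F} (ha : a ≠ 0) (hfix : σ a = a) :
    ∃ x : F, x * σ x = a := by
  haveI : Fact (Nat.Prime 2) := ⟨Nat.prime_two⟩
  obtain ⟨d, hd⟩ := exists_nrm_eq (c := Units.mk0 a ha) hσ (by simpa using hfix)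
  refine ⟨d, ?_⟩
  have := congrArg Units.val hd
  simpa [nrm, Finset.prod_range_succ] using this

/-- An invertible Hermitian matrix is `B σ(B)ᵀ`. -/
theorem exists_hermitian {σ : F ≃+* F} (hσ : orderOf σ = 2) {n : ℕ} (A : GL (Fin n) F)
    (hA : (A.val.map σ).transpose = A.val) : ∃ B : GL (Fin n) F, A.val = B.val * (B.val.map σ).transpose := by
  have hσ2 : ∀ x, σ (σ x) = x := fun x => by
    have := pow_orderOf_eq_one σ
    rw [hσ] at this
    exact DFunLike.congr_fun this x
  let h : (Fin n → F) → (Fin n → F) → F := fun u v => u ⬝ᵥ (A.val *ᵥ fun i => σ (v i))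
  have hsymm : ∀ u v, h v u = σ (h u v) := by
    intro u v
    have hAij : ∀ i j, σ (A.val i j) = A.val j i := fun i j => congrFun (congrFun hA j) i
    simp only [h, dotProduct, Matrix.mulVec, map_sum, map_mul, hσ2, Finset.mul_sum, hAij]
    rw [Finset.sum_comm]
    exact Finset.sum_congr rfl fun i _ => Finset.sum_congr rfl fun j _ => by ring
  have hadd : ∀ u u' v, h (u + u') v = h u v + h u' v := fun u u' v => add_dotProduct _ _ _
  have hadd' : ∀ u v v', h u (v + v') = h u v + h u v' := fun u v v' => by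
    simp only [h, Pi.add_apply, map_add]; rw [← dotProduct_add, ← Matrix.mulVec_add]; rfl
  have hsmul : ∀ (c : F) u v, h (c • u) v = c * h u v := fun c u v => smul_dotProduct _ _ _
  have hsmul' : ∀ (c : F) u v, h u (c • v) = σ c * h u v := fun c u v => by
    simp only [h, Pi.smul_apply, smul_eq_mul, map_mul]
    rw [← smul_eq_mul (σ c), ← dotProduct_smul, ← Matrix.mulVec_smul]; rfl
  have hnd : ∀ u, (∀ v, h u v = 0) → u = 0 := by
    intro u hu
    refine funext fun i => ?_
    have h1 := hu fun k => σ.symm ((A⁻¹).val k i)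
    simp only [h, RingEquiv.apply_symm_apply] at h1
    rw [show (A.val *ᵥ fun k => (A⁻¹).val k i) = fun k => (1 : Matrix (Fin n) (Fin n) F) k i by
      funext k; rw [← Units.mul_inv A]; rfl] at h1
    simpa [dotProduct, Matrix.one_apply] using h1
  obtain ⟨c₀, hc₀⟩ : ∃ c : F, c + σ c ≠ 0 := by
    by_contra hc
    push Not at hc
    have h1 := hc 1
    rw [map_one] at h1
    have hid : σ = 1 := RingEquiv.ext fun x => by
      have := hc x
      show σ x = x
      linear_combination this - x * h1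
    rw [hid, orderOf_one] at hσ
    exact absurd hσ (by decide)
  -- orthonormal systems
  have key : ∀ k ≤ n, ∃ v : Fin k → Fin n → F, ∀ i j, h (v i) (v j) = if i = j then 1 else 0 := by
    intro k
    induction k with
    | zero => exact fun _ => ⟨Fin.elim0, fun i => i.elim0⟩
    | succ k ih =>
      intro hk
      obtain ⟨v, hv⟩ := ih (by omega)
      let L : (Fin n → F) →ₗ[F] Fin k → F :=
        { toFun := fun x i => h x (v i)
          map_add' := fun x y => funext fun i => hadd _ _ _
          map_smul' := fun c x => funext fun i => hsmul _ _ _ }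
      obtain ⟨w, hw, hw0⟩ : ∃ w ∈ LinearMap.ker L, w ≠ 0 := by
        refine Submodule.exists_mem_ne_zero_of_ne_bot fun hbot => ?_
        have := LinearMap.finrank_le_finrank_of_injective (LinearMap.ker_eq_bot.1 hbot)
        simp at this
        omega
      obtain ⟨u, hu, hu0⟩ : ∃ u ∈ LinearMap.ker L, h u u ≠ 0 := by
        by_contra hall
        push Not at hall
        have horth : ∀ x ∈ LinearMap.ker L, ∀ y ∈ LinearMap.ker L, h x y = 0 := by
          intro x hx y hy
          by_contra hxy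
          have hx' : (c₀ / h x y) • x ∈ LinearMap.ker L := Submodule.smul_mem _ _ hx
          have h1 := hall _ (add_mem hx' hy)
          rw [hadd, hadd', hadd', hall _ hx', hall _ hy, hsymm _ y, hsmul, zero_add, add_zero,
            div_mul_cancel₀ _ hxy] at h1
          exact hc₀ h1
        refine hw0 (hnd w fun y => ?_)
        have hy : y - ∑ i, h y (v i) • v i ∈ LinearMap.ker L := by
          refine LinearMap.mem_ker.2 (funext fun j => ?_)
          rw [map_sub, map_sum, Pi.sub_apply, Finset.sum_apply, Finset.sum_eq_single j]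
          · simp [L, hsmul, hv]
          · intro i _ hij; simp [L, hsmul, hv, hij]
          · simp
        have h2 : ∀ s : Finset (Fin k), h w (∑ i ∈ s, h y (v i) • v i) = 0 := by
          intro s
          induction s using Finset.induction_on with
          | empty =>
            simp only [h, Finset.sum_empty, Pi.zero_apply, map_zero]
            exact (congrArg (w ⬝ᵥ ·) (Matrix.mulVec_zero _)).trans (dotProduct_zero _)
          | insert a s ha ihs =>
            rw [Finset.sum_insert ha, hadd', hsmul', ihs, show h w (v a) = 0 from congrFun (LinearMap.mem_ker.1 hw) a,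
              mul_zero, add_zero]
        rw [← sub_add_cancel y (∑ i, h y (v i) • v i), hadd', horth w hw _ hy, h2, add_zero]
      have hfix : σ (h u u) = h u u := (hsymm u u).symm
      obtain ⟨x, hx⟩ := exists_norm hσ (inv_ne_zero hu0) (by rw [map_inv₀, hfix])
      refine ⟨Fin.cons (x • u) v, fun i j => ?_⟩
      have hu' : ∀ j, h u (v j) = 0 := fun j => congrFun (LinearMap.mem_ker.1 hu) j
      induction i using Fin.cases with
      | zero =>
        induction j using Fin.cases with
        | zero => rw [Fin.cons_zero, hsmul, hsmul', ← mul_assoc, hx, inv_mul_cancel₀ hu0, if_pos rfl]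
        | succ j => rw [Fin.cons_zero, Fin.cons_succ, hsmul, hu', mul_zero, if_neg (Fin.succ_ne_zero j).symm]
      | succ i =>
        induction j using Fin.cases with
        | zero => rw [Fin.cons_zero, Fin.cons_succ, hsymm, hsmul, hu', mul_zero, map_zero, if_neg (Fin.succ_ne_zero i)]
        | succ j => rw [Fin.cons_succ, Fin.cons_succ, hv]; simp [Fin.succ_inj]
  obtain ⟨v, hv⟩ := key n le_rfl
  have hV : Matrix.of v * A.val * ((Matrix.of v).map σ).transpose = 1 := by
    ext i j
    rw [Matrix.one_apply, ← hv i j, Matrix.mul_assoc]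
    rfl
  have hdet : IsUnit (Matrix.of v).det := by
    have h1 := congrArg Matrix.det hV
    rw [Matrix.det_mul, Matrix.det_mul, Matrix.det_one, mul_assoc] at h1
    exact IsUnit.of_mul_eq_one _ h1
  let V : GL (Fin n) F := GeneralLinearGroup.mk'' _ hdet
  refine ⟨V⁻¹, ?_⟩
  have h2 : (V.val.map σ).transpose * ((V⁻¹).val.map σ).transpose = 1 := by
    rw [← Matrix.transpose_mul, ← Matrix.map_mul, Units.inv_mul]
    simp
  have h3 : V.val * A.val * (V.val.map σ).transpose = 1 := hV
  calc A.val = (V⁻¹).val * (V.val * A.val * (V.val.map σ).transpose) * ((V⁻¹).val.map σ).transpose := by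
        rw [← mul_assoc, ← mul_assoc, Units.inv_mul, one_mul, mul_assoc, h2, mul_one]
    _ = (V⁻¹).val * ((V⁻¹).val.map σ).transpose := by rw [h3, mul_one]

end Norm

end Cfsg.Lib.Linear.Descent
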