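import Cfsg.Agent.Lib.Linear.AutPSL.Out
import Cfsg.Agent.Lib.Linear.AutPSL.Descent
import Cfsg.Agent.Lib.Linear.HermStandard

/-!
# Field and graph-field automorphisms of prime order of `PSL_n(q)`
-/

set_option autoImplicit false

namespace Cfsg.Lib.Linear.AutPSL

open Matrix Cfsg.Lib.Linear.Descent
open scoped MatrixGroups

section General

variable {X : Type*} [Group X]

theorem isConjUnder_conj {H : Subgroup X} {h : X} (hh : h ∈ H) {x y : X} :
    Cfsg.IsConjUnder H (h * x * h⁻¹) (h * y * h⁻¹) ↔ Cfsg.IsConjUnder H x y := by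
  constructor
  · rintro ⟨k, hk, e⟩
    refine ⟨h⁻¹ * k * h, mul_mem (mul_mem (inv_mem hh) hk) hh, ?_⟩
    calc y = h⁻¹ * (h * y * h⁻¹) * h := by group
      _ = _ := by rw [e]; group
  · rintro ⟨k, hk, rfl⟩
    exact ⟨h * k * h⁻¹, mul_mem (mul_mem hh hk) (inv_mem hh), by group⟩

theorem orderOf_conj (h x : X) : orderOf (h * x * h⁻¹) = orderOf x :=
  (orderOf_injective (MulAut.conj h).toMonoidHom (MulEquiv.injective _) x)

/-- The centralisers of conjugate elements are isomorphic. -/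
theorem centralizer_conj_equiv {H : Subgroup X} {h : X} (hh : h ∈ H) (x : X) :
    Nonempty (↥(H ⊓ Subgroup.centralizer {h * x * h⁻¹}) ≃* ↥(H ⊓ Subgroup.centralizer {x})) := by
  refine ⟨(((H ⊓ Subgroup.centralizer {x}).equivMapOfInjective (MulAut.conj h).toMonoidHom (MulEquiv.injective _)).trans
    (MulEquiv.subgroupCongr ?_)).symm⟩
  ext y
  simp only [Subgroup.mem_map, MulEquiv.coe_toMonoidHom, MulAut.conj_apply, Subgroup.mem_inf,
    Subgroup.mem_centralizer_singleton_iff]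
  constructor
  · rintro ⟨z, ⟨hz, hzx⟩, rfl⟩
    refine ⟨mul_mem (mul_mem hh hz) (inv_mem hh), ?_⟩
    calc h * z * h⁻¹ * (h * x * h⁻¹) = h * (z * x) * h⁻¹ := by group
      _ = _ := by rw [hzx]; group
  · rintro ⟨hy, hyx⟩
    refine ⟨h⁻¹ * y * h, ⟨mul_mem (mul_mem (inv_mem hh) hy) hh, ?_⟩, by group⟩
    calc h⁻¹ * y * h * x = h⁻¹ * (y * (h * x * h⁻¹)) * h := by group
      _ = _ := by rw [hyx]; group

theorem splitClassCount_conj {H K : Subgroup X} {h : X} (hh : h ∈ H) (x : X) :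
    Cfsg.splitClassCount H K (h * x * h⁻¹) = Cfsg.splitClassCount H K x := by
  have hiff : ∀ y, Cfsg.IsConjUnder H (h * x * h⁻¹) y ↔ Cfsg.IsConjUnder H x y := by
    intro y
    constructor
    · rintro ⟨k, hk, rfl⟩
      exact ⟨k * h, mul_mem hk hh, by group⟩
    · rintro ⟨k, hk, rfl⟩
      exact ⟨k * h⁻¹, mul_mem hk (inv_mem hh), by group⟩
  exact Nat.card_congr (Quot.congr (Equiv.subtypeEquivRight hiff) fun a b => Iff.rfl)

/-- The number of `K`-classes in an `H`-class, computed by a quotient of the parametrising group. -/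
theorem splitClassCount_eq {G Q : Type*} [Group G] [Group Q] (e : G →* X) (K : Subgroup X) [K.Normal]
    (hK : K ≤ e.range) (x : X) (f : G →* Q) (hf : Function.Surjective f)
    (hker : ∀ g, f g = 1 ↔ ∃ k ∈ K, ∃ c, e c * x = x * e c ∧ e g = k * e c) :
    Cfsg.splitClassCount e.range K x = Nat.card Q := by
  have hex : ∀ y : {y : X // Cfsg.IsConjUnder e.range x y}, ∃ g : G, y.1 = e g * x * (e g)⁻¹ := by
    rintro ⟨y, h, ⟨g, rfl⟩, hy⟩
    exact ⟨g, hy⟩
  choose g hg using hex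
  have key : ∀ a b : G, Cfsg.IsConjUnder K (e a * x * (e a)⁻¹) (e b * x * (e b)⁻¹) ↔ f a = f b := by
    intro a b
    rw [← inv_mul_eq_one (a := f a), ← map_inv f, ← map_mul f, hker]
    constructor
    · rintro ⟨k, hk, he⟩
      obtain ⟨k₀, hk₀⟩ := hK (inv_mem hk)
      refine ⟨(e a)⁻¹ * k * e a, by simpa using ‹K.Normal›.conj_mem k hk (e a)⁻¹, a⁻¹ * k₀ * b, ?_, ?_⟩
      · have h1 : e (a⁻¹ * k₀ * b) = (k * e a)⁻¹ * e b := by
          simp only [map_mul, map_inv, hk₀, _root_.mul_inv_rev]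
        rw [h1]
        calc (k * e a)⁻¹ * e b * x = (k * e a)⁻¹ * (e b * x * (e b)⁻¹) * e b := by group
          _ = _ := by rw [he]; group
      · simp only [map_mul, map_inv, hk₀]; group
    · rintro ⟨k, hk, c, hc, he⟩
      refine ⟨e a * k * (e a)⁻¹, ‹K.Normal›.conj_mem k hk (e a), ?_⟩
      have h1 : e b = e a * k * e c := by
        rw [map_mul, map_inv, inv_mul_eq_iff_eq_mul] at he
        rw [he, mul_assoc]
      rw [h1]
      calc e a * k * e c * x * (e a * k * e c)⁻¹ = e a * k * (e c * x) * (e c)⁻¹ * k⁻¹ * (e a)⁻¹ := by group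
        _ = _ := by rw [hc]; group
  rw [Cfsg.splitClassCount]
  refine Nat.card_eq_of_bijective (Quot.lift (fun y => f (g y)) fun y z h => ?_) ⟨?_, fun q => ?_⟩
  · exact (key _ _).1 (by rwa [← hg, ← hg])
  · intro y z h
    induction y using Quot.ind with | _ y => ?_
    induction z using Quot.ind with | _ z => ?_
    exact Quot.sound (by rw [hg y, hg z]; exact (key _ _).2 h)
  · obtain ⟨a, rfl⟩ := hf q
    refine ⟨Quot.mk _ ⟨e a * x * (e a)⁻¹, e a, ⟨a, rfl⟩, rfl⟩, (key _ _).1 ?_⟩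
    rw [← hg]
    exact ⟨1, one_mem _, by simp⟩

end General

section Classes

variable {n : ℕ} {F : Type*} [Field F]

local notation "PSLn" => Matrix.ProjectiveSpecialLinearGroup (Fin n) F

theorem innd_sc (c : Fˣ) : (innd (sc c : GL (Fin n) F) : MulAut PSLn) = 1 := innd_scalar ⟨c, rfl⟩

theorem innd_eq_one_iff (hn : 2 ≤ n) {A : GL (Fin n) F} :
    (innd A : MulAut PSLn) = 1 ↔ ∃ c : Fˣ, A = sc c := by
  haveI : Nontrivial (Fin n) := Fin.nontrivial_iff_two_le.2 hn
  refine ⟨fun h => ?_, fun ⟨c, hc⟩ => hc ▸ innd_sc c⟩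
  obtain ⟨r, hr⟩ := innd_eq_one h
  have hr0 : r ≠ 0 := by
    rintro rfl
    have h1 := congrArg Matrix.det (Units.mul_inv A)
    rw [← hr, map_zero, Matrix.zero_mul, Matrix.det_one, Matrix.det_zero] at h1
    exact one_ne_zero h1.symm
  exact ⟨Units.mk0 r hr0, Units.ext hr.symm⟩

theorem innd_eq_innd (hn : 2 ≤ n) {A B : GL (Fin n) F} :
    (innd A : MulAut PSLn) = innd B ↔ ∃ c : Fˣ, A = sc c * B := by
  rw [← mul_inv_eq_one, ← map_inv, ← map_mul, innd_eq_one_iff hn]
  simp only [mul_inv_eq_iff_eq_mul]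

theorem fld_injective (hn : 2 ≤ n) : Function.Injective (fld : (F ≃+* F) →* MulAut PSLn) := fun σ τ h =>
  fld_eq_of_eq (n := n) (g := 1) (g' := 1) hn (by rw [map_one, one_mul, one_mul, h])

theorem fld_mul_innd' (σ : F ≃+* F) (A : GL (Fin n) F) :
    (fld σ : MulAut PSLn) * innd A = innd (sm σ A) * fld σ := fld_mul_innd σ A

theorem innd_fld_pow (σ : F ≃+* F) (A : GL (Fin n) F) (k : ℕ) :
    ((innd A * fld σ : MulAut PSLn)) ^ k = innd (tw σ A k) * fld (σ ^ k) := by
  induction k with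
  | zero => simp [tw]
  | succ k ih =>
    rw [pow_succ', ih, tw, pow_succ' σ, map_mul, map_mul fld, mul_assoc, ← mul_assoc (fld σ), fld_mul_innd']
    simp only [mul_assoc]

theorem gr_commute_fld (σ : F ≃+* F) : Commute (gr : MulAut PSLn) (fld σ) := gr_mul_fld σ

variable [Fintype F] {p f : ℕ} [Fact p.Prime]

theorem ringEquiv_comm (hf : 1 ≤ f) (hF : Fintype.card F = p ^ f) (σ τ : F ≃+* F) : σ * τ = τ * σ := by
  obtain ⟨E⟩ := exists_galEquiv hf hF
  exact E.injective (by rw [map_mul, map_mul, mul_comm])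

theorem orderOf_dvd_exp (hf : 1 ≤ f) (hF : Fintype.card F = p ^ f) (σ : F ≃+* F) : orderOf σ ∣ f := by
  obtain ⟨E⟩ := exists_galEquiv hf hF
  have : Nat.card (F ≃+* F) = f := by
    rw [Nat.card_congr E.toEquiv, Nat.card_congr Multiplicative.toAdd, Nat.card_zmod]
  exact orderOf_dvd_natCard σ |>.trans this.dvd

/-- Every conjugate of `θ = fld σ` (possibly times the graph automorphism) is a conjugate under `Inndiag`. -/
theorem exists_inndiag_conj (hn : 2 ≤ n) (hf : 1 ≤ f) (hF : Fintype.card F = p ^ f)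
    (θ : MulAut PSLn) (hgr : Commute gr θ) (hfld : ∀ τ, Commute (fld τ) θ)
    {x α : MulAut PSLn} (h : α * x * α⁻¹ = θ) :
    ∃ g : GL (Fin n) F, x = innd g * θ * (innd g)⁻¹ := by
  haveI := charP_of_card hf hF
  obtain ⟨g, τ, hα | hα⟩ := exists_decomp (p := p) hn α⁻¹
  · refine ⟨g, ?_⟩
    calc x = α⁻¹ * (α * x * α⁻¹) * α⁻¹⁻¹ := by group
      _ = innd g * (fld τ * θ) * (fld τ)⁻¹ * (innd g)⁻¹ := by rw [h, hα]; group
      _ = innd g * θ * (innd g)⁻¹ := by rw [(hfld τ).eq]; group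
  · refine ⟨g, ?_⟩
    calc x = α⁻¹ * (α * x * α⁻¹) * α⁻¹⁻¹ := by group
      _ = innd g * fld τ * (gr * θ) * gr⁻¹ * (fld τ)⁻¹ * (innd g)⁻¹ := by rw [h, hα]; group
      _ = innd g * (fld τ * θ) * (fld τ)⁻¹ * (innd g)⁻¹ := by rw [hgr.eq]; group
      _ = innd g * θ * (innd g)⁻¹ := by rw [(hfld τ).eq]; group

/-- A field automorphism of prime order is, up to `Inndiag`-conjugation, standard. -/
theorem field_class (hn : 2 ≤ n) (hf : 1 ≤ f) (hF : Fintype.card F = p ^ f) {x : MulAut PSLn}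
    (hx : Cfsg.IsFieldAutClassPSL x) :
    ∃ (σ : F ≃+* F) (g : GL (Fin n) F), x = innd g * fld σ * (innd g)⁻¹ ∧ orderOf σ = orderOf x := by
  obtain ⟨α, σ, -, hstd⟩ := hx
  rw [isStdField_iff] at hstd
  have hfld : ∀ τ, Commute (fld τ : MulAut PSLn) (fld σ) := fun τ => by
    rw [commute_iff_eq, ← map_mul, ← map_mul, ringEquiv_comm hf hF]
  obtain ⟨g, hg⟩ := exists_inndiag_conj hn hf hF (fld σ) (gr_mul_fld σ) hfld hstd
  exact ⟨σ, g, hg, by rw [hg, orderOf_conj, orderOf_injective _ (fld_injective hn)]⟩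

/-- A graph-field automorphism of prime order is an involution, standard up to `Inndiag`-conjugation. -/
theorem graphField_class (hn : 3 ≤ n) (hf : 1 ≤ f) (hF : Fintype.card F = p ^ f) {x : MulAut PSLn}
    (hx : Cfsg.IsGraphFieldAutClassPSL x) (hr : (orderOf x).Prime) :
    ∃ (σ : F ≃+* F) (g : GL (Fin n) F), x = innd g * (fld σ * gr) * (innd g)⁻¹ ∧ orderOf σ = 2 ∧ orderOf x = 2 := by
  obtain ⟨-, α, φ, γ, σ, hσ1, hφ, hγ, hα⟩ := hx
  rw [isStdField_iff] at hφ
  rw [isInverseTranspose_iff] at hγ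
  subst hφ hγ
  have hfld : ∀ τ, Commute (fld τ : MulAut PSLn) (fld σ * gr) := fun τ =>
    Commute.mul_right (by rw [commute_iff_eq, ← map_mul, ← map_mul, ringEquiv_comm hf hF]) (gr_mul_fld τ).symm
  obtain ⟨g, hg⟩ := exists_inndiag_conj (by omega) hf hF (fld σ * gr)
    ((gr_commute_fld σ).mul_right (Commute.refl _)) hfld hα
  have hord : orderOf x = orderOf (fld σ * gr : MulAut PSLn) := by rw [hg, orderOf_conj]
  have hgr2 : (gr : MulAut PSLn) ^ 2 = 1 := by rw [sq, gr_mul_gr]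
  have hpow : (fld σ * gr : MulAut PSLn) ^ orderOf x = 1 := by rw [hord, pow_orderOf_eq_one]
  rw [(gr_commute_fld σ).symm.mul_pow, ← map_pow] at hpow
  rcases Nat.even_or_odd (orderOf x) with he | ho
  · have h2 : orderOf x = 2 := (hr.even_iff).1 he
    rw [h2, hgr2, mul_one] at hpow
    refine ⟨σ, g, hg, ?_, h2⟩
    exact orderOf_eq_prime (fld_injective (n := n) (by omega) (by rw [hpow, map_one])) hσ1
  · obtain ⟨m, hm⟩ := ho
    have hgo : (gr : MulAut PSLn) ^ (2 * m + 1) = gr := by rw [pow_succ, pow_mul, hgr2, one_pow, one_mul]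
    rw [hm, hgo] at hpow
    exact absurd (by simp only [map_one, one_mul]; exact hpow.symm :
      (innd 1 * fld 1 : MulAut PSLn) = innd 1 * fld (σ ^ (2 * m + 1)) * gr) (ne_mul_gr hn 1 1 _ _)

/-- Elements of prime order in the coset of a standard field automorphism. -/
theorem field_coset (hn : 2 ≤ n) {σ : F ≃+* F} {r : ℕ} (hr : r.Prime) (hσ : orderOf σ = r) (A : GL (Fin n) F) :
    orderOf (innd A * fld σ : MulAut PSLn) = r ↔
      Cfsg.IsConjUnder (innd : GL (Fin n) F →* MulAut PSLn).range (fld σ) (innd A * fld σ) := by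
  haveI : Fact r.Prime := ⟨hr⟩
  haveI : Nonempty (Fin n) := ⟨⟨0, by omega⟩⟩
  constructor
  · intro h
    have h1 : (innd A * fld σ : MulAut PSLn) ^ r = 1 := by rw [← h, pow_orderOf_eq_one]
    rw [innd_fld_pow, ← hσ, pow_orderOf_eq_one, map_one, mul_one, hσ, innd_eq_one_iff hn] at h1
    obtain ⟨c, hc⟩ := h1
    obtain ⟨d, B, hB⟩ := exists_sc_mul hσ A hc
    refine ⟨innd B, ⟨B, rfl⟩, ?_⟩
    rw [← map_inv, mul_assoc, fld_mul_innd', hB, map_mul, innd_sc, one_mul, map_mul]
    simp only [map_inv, mul_assoc]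
  · rintro ⟨h, -, e⟩
    rw [e, orderOf_conj, orderOf_injective _ (fld_injective hn), hσ]

theorem fldgr_mul_innd (σ : F ≃+* F) (A : GL (Fin n) F) :
    (fld σ * gr : MulAut PSLn) * innd A = innd (sm σ (dual A)) * (fld σ * gr) := by
  rw [mul_assoc, gr_mul_innd, ← mul_assoc, fld_mul_innd', mul_assoc]

theorem fldgr_sq {σ : F ≃+* F} (hσ : orderOf σ = 2) : (fld σ * gr : MulAut PSLn) * (fld σ * gr) = 1 := by
  rw [mul_assoc, ← mul_assoc gr, gr_mul_fld, mul_assoc, gr_mul_gr, mul_one, ← map_mul, ← sq, ← hσ,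
    pow_orderOf_eq_one, map_one]

/-- `A σ(A)⁻ᵀ` scalar, in terms of the transpose. -/
theorem eq_smul_iff (σ : F ≃+* F) (A : GL (Fin n) F) (c : Fˣ) :
    A * sm σ (dual A) = sc c ↔ A.val = (c : F) • (A.val.map σ).transpose := by
  have h2 : (A.val.map σ).transpose * (sm σ (dual A)).val = 1 := by
    show (A.val.map σ).transpose * ((A⁻¹).val.transpose.map σ) = 1
    rw [Matrix.transpose_map, ← Matrix.transpose_mul, ← Matrix.map_mul, Units.inv_mul]
    simp
  constructor
  · intro h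
    have h1 := congrArg Units.val h
    rw [Units.val_mul, sc_val] at h1
    calc A.val = A.val * ((sm σ (dual A)).val * (A.val.map σ).transpose) := by
          rw [mul_eq_one_comm.1 h2, mul_one]
      _ = _ := by rw [← mul_assoc, h1, smul_mul_assoc, one_mul]
  · intro h
    refine Units.ext ?_
    rw [Units.val_mul, sc_val]
    conv_lhs => arg 1; rw [h]
    rw [smul_mul_assoc, h2]

omit [Fintype F] in
theorem transpose_map_smul (σ : F ≃+* F) (c : F) (M : Matrix (Fin n) (Fin n) F) :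
    ((c • M).map σ).transpose = σ c • (M.map σ).transpose :=
  Matrix.ext fun i j => by simp

/-- Elements of order two in the coset of a standard graph-field automorphism. -/
theorem graphField_coset (hn : 3 ≤ n) {σ : F ≃+* F} (hσ : orderOf σ = 2) (A : GL (Fin n) F) :
    orderOf (innd A * (fld σ * gr) : MulAut PSLn) = 2 ↔
      Cfsg.IsConjUnder (innd : GL (Fin n) F →* MulAut PSLn).range (fld σ * gr) (innd A * (fld σ * gr)) := by
  haveI : Fact (Nat.Prime 2) := ⟨Nat.prime_two⟩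
  haveI : Nonempty (Fin n) := ⟨⟨0, by omega⟩⟩
  have hσ2 : ∀ x, σ (σ x) = x := fun x => by
    have := pow_orderOf_eq_one σ
    rw [hσ] at this
    exact DFunLike.congr_fun this x
  have hθ1 : (fld σ * gr : MulAut PSLn) ≠ 1 := fun h =>
    (ne_mul_gr hn 1 1 1 σ) (by rw [map_one, one_mul, map_one, one_mul, h])
  constructor
  · intro h
    have h1 : (innd A * (fld σ * gr) : MulAut PSLn) ^ 2 = 1 := by rw [← h, pow_orderOf_eq_one]
    rw [sq, mul_assoc, ← mul_assoc (fld σ * gr), fldgr_mul_innd, mul_assoc, fldgr_sq hσ, mul_one, ← map_mul,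
      innd_eq_one_iff (by omega)] at h1
    obtain ⟨c, hc⟩ := h1
    rw [eq_smul_iff] at hc
    have hcc : (c : F) * σ c = 1 := by
      have h2 := hc
      conv_rhs at h2 => rw [hc, transpose_map_smul, smul_smul,
        show ((((A.val.map σ).transpose).map σ)).transpose = A.val from Matrix.ext fun i j => by simp [hσ2]]
      by_contra hne
      have h3 : ((c : F) * σ c - 1) • A.val = 0 := by rw [sub_smul, one_smul, ← h2, sub_self]
      have h4 := (smul_eq_zero.1 h3).resolve_left (sub_ne_zero.2 hne)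
      have h5 := congrArg Matrix.det (Units.mul_inv A)
      rw [h4, Matrix.zero_mul, Matrix.det_one, Matrix.det_zero] at h5
      exact one_ne_zero h5.symm
    obtain ⟨e, he⟩ := hilbert90 (c := c) hσ (Units.ext (by simpa [nrm, Finset.prod_range_succ] using hcc))
    have hce : (c : F) * σ e = e := by
      rw [eq_mul_inv_iff_mul_eq] at he
      simpa using congrArg Units.val he
    obtain ⟨B, hB⟩ := exists_hermitian hσ (sc e⁻¹ * A) (by
      rw [Units.val_mul, sc_val, smul_mul_assoc, one_mul, transpose_map_smul]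
      conv_rhs => rw [hc, smul_smul]
      congr 1
      rw [Units.val_inv_eq_inv_val, map_inv₀]
      have : σ (e : F) ≠ 0 := (map_ne_zero σ).2 e.ne_zero
      field_simp
      linear_combination -hce)
    refine ⟨innd B, ⟨B, rfl⟩, ?_⟩
    have hA : (innd A : MulAut PSLn) = innd (sc e⁻¹ * A) := by rw [map_mul, innd_sc, one_mul]
    have hBA : sc e⁻¹ * A = B * sm σ (dual B⁻¹) := Units.ext (by
      rw [hB, Units.val_mul]
      congr 1)
    rw [← map_inv, mul_assoc, fldgr_mul_innd, hA, hBA, map_mul, mul_assoc]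
  · rintro ⟨h, -, e⟩
    rw [e, orderOf_conj]
    exact orderOf_eq_prime (by rw [sq, fldgr_sq hσ]) hθ1

end Classes

end Cfsg.Lib.Linear.AutPSL
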