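import Cfsg.Agent.Lib.Linear.AutPSL.GraphForms

/-!
# Graph automorphisms of `PSL_n(q)`, `q` odd: the standard forms
-/

set_option autoImplicit false

namespace Cfsg.Lib.Linear.AutPSL.GForms

open Matrix Cfsg.Lib.Linear.AutPSL
open Cfsg.Lib.Linear.Descent (sc sc_val sc_comm)
open scoped MatrixGroups

section Quad

variable {ι : Type} [Fintype ι] [DecidableEq ι] {F : Type*} [Field F]

omit [DecidableEq ι] in
theorem dot_add (M : Matrix ι ι F) (hs : M.transpose = M) (u v : ι → F) :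
    (u + v) ⬝ᵥ (M *ᵥ (u + v)) = u ⬝ᵥ (M *ᵥ u) + v ⬝ᵥ (M *ᵥ v) + 2 * (u ⬝ᵥ (M *ᵥ v)) := by
  have h : v ⬝ᵥ (M *ᵥ u) = u ⬝ᵥ (M *ᵥ v) := by
    rw [dotProduct_mulVec, ← Matrix.mulVec_transpose, hs, dotProduct_comm]
  rw [Matrix.mulVec_add, add_dotProduct, dotProduct_add, dotProduct_add, h]
  ring

theorem eq_of_diag (h2 : (2 : F) ≠ 0) {M N : Matrix ι ι F} (hM : M.transpose = M) (hN : N.transpose = N)
    (h : ∀ v, v ⬝ᵥ (M *ᵥ v) = v ⬝ᵥ (N *ᵥ v)) : M = N := by
  refine Matrix.toBilin'.injective (LinearMap.ext₂ fun u v => ?_)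
  rw [Matrix.toBilin'_apply', Matrix.toBilin'_apply']
  have e := h (u + v)
  rw [dot_add M hM, dot_add N hN, h u, h v] at e
  exact mul_left_cancel₀ h2 (by linear_combination e)

theorem dot_congr (A M : Matrix ι ι F) (v : ι → F) :
    v ⬝ᵥ ((A.transpose * M * A) *ᵥ v) = (A *ᵥ v) ⬝ᵥ (M *ᵥ (A *ᵥ v)) := by
  rw [← Matrix.toBilin'_apply', toBilin'_congr, Matrix.toBilin'_apply']

/-- In odd characteristic the similitudes of a quadratic form are those of its matrix. -/
theorem mem_sim_iff (h2 : (2 : F) ≠ 0) {Q : (ι → F) → F} {M : Matrix ι ι F} (hs : M.transpose = M)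
    (hQ : ∀ v, v ⬝ᵥ (M *ᵥ v) = 2 * Q v) (g : GL ι F) :
    g ∈ Cfsg.Geo.quadSimilarityGroup (F := F) Q ↔
      ∃ c : Fˣ, g.val.transpose * M * g.val = (c : F) • M := by
  refine exists_congr fun c => ?_
  constructor
  · intro h
    refine eq_of_diag h2 (self_transpose_congr hs _) (by rw [Matrix.transpose_smul, hs]) fun v => ?_
    rw [dot_congr, Matrix.smul_mulVec, dotProduct_smul, hQ, hQ, h, smul_eq_mul]
    ring
  · intro h v
    have e := dot_congr g.val M v
    rw [h, Matrix.smul_mulVec, dotProduct_smul, hQ, hQ, smul_eq_mul] at e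
    exact mul_left_cancel₀ h2 (by linear_combination -e)

end Quad

section Std

variable (F : Type*) [Field F]

/-- The matrix of the hyperbolic form. -/
def hypM (m : ℕ) : Matrix (Fin m ⊕ Fin m) (Fin m ⊕ Fin m) F := Matrix.fromBlocks 0 1 1 0

/-- The matrix of the odd-dimensional form. -/
def oddM (m : ℕ) : Matrix (Unit ⊕ (Fin m ⊕ Fin m)) (Unit ⊕ (Fin m ⊕ Fin m)) F :=
  Matrix.fromBlocks (Matrix.diagonal fun _ => 2) 0 0 (hypM F m)

/-- The matrix of the elliptic form with binary part `z₁² - α z₂²`. -/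
def minM (m : ℕ) (α : F) : Matrix ((Fin m ⊕ Fin m) ⊕ Fin 2) ((Fin m ⊕ Fin m) ⊕ Fin 2) F :=
  Matrix.fromBlocks (hypM F m) 0 0 (Matrix.diagonal ![2, -(2 * α)])

theorem hypM_symm (m : ℕ) : (hypM F m).transpose = hypM F m := by
  simp [hypM, Matrix.fromBlocks_transpose]

theorem oddM_symm (m : ℕ) : (oddM F m).transpose = oddM F m := by
  rw [oddM, Matrix.fromBlocks_transpose, Matrix.diagonal_transpose, hypM_symm, Matrix.transpose_zero,
    Matrix.transpose_zero]

theorem minM_symm (m : ℕ) (α : F) : (minM F m α).transpose = minM F m α := by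
  rw [minM, Matrix.fromBlocks_transpose, Matrix.diagonal_transpose, hypM_symm, Matrix.transpose_zero,
    Matrix.transpose_zero]

theorem hypM_det (m : ℕ) : (hypM F m).det = (-1) ^ m := by
  have h1 : hypM F m * Matrix.fromBlocks 1 0 1 1 = Matrix.fromBlocks 1 1 1 0 := by
    rw [hypM, Matrix.fromBlocks_multiply]; simp
  have h2 := congrArg Matrix.det h1
  rw [Matrix.det_mul, Matrix.det_fromBlocks_one₁₁, Matrix.det_fromBlocks_one₁₁] at h2
  simpa [Matrix.det_neg] using h2

theorem oddM_det (m : ℕ) : (oddM F m).det = 2 * (-1) ^ m := by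
  rw [oddM, Matrix.det_fromBlocks_zero₂₁, hypM_det, Matrix.det_diagonal]
  simp

theorem minM_det (m : ℕ) (α : F) : (minM F m α).det = (-1) ^ (m + 1) * (4 * α) := by
  rw [minM, Matrix.det_fromBlocks_zero₂₁, hypM_det, Matrix.det_diagonal, Fin.prod_univ_two]
  simp only [Matrix.cons_val_zero, Matrix.cons_val_one]
  ring

theorem hypM_dot (m : ℕ) (v : Fin m ⊕ Fin m → F) :
    v ⬝ᵥ (hypM F m *ᵥ v) = 2 * Cfsg.quadFormPlus m F v := by
  rw [hypM, Matrix.fromBlocks_mulVec, Cfsg.quadFormPlus, Finset.mul_sum]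
  simp only [dotProduct, Fintype.sum_sum_type, Sum.elim_inl, Sum.elim_inr, Matrix.zero_mulVec, zero_add,
    add_zero, Matrix.one_mulVec, Function.comp_apply, ← Finset.sum_add_distrib]
  exact Finset.sum_congr rfl fun i _ => by ring

theorem oddM_dot (m : ℕ) (v : Unit ⊕ (Fin m ⊕ Fin m) → F) :
    v ⬝ᵥ (oddM F m *ᵥ v) = 2 * Cfsg.quadFormOdd m F v := by
  have h := hypM_dot F m (v ∘ Sum.inr)
  rw [oddM, Matrix.fromBlocks_mulVec, Cfsg.quadFormOdd]
  simp only [dotProduct, Cfsg.quadFormPlus, Function.comp_apply] at h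
  simp only [dotProduct, Fintype.sum_sum_type (α₁ := Unit), Sum.elim_inl, Sum.elim_inr, Matrix.zero_mulVec, zero_add,
    add_zero, Matrix.mulVec_diagonal, Function.comp_apply, Fintype.univ_ofSubsingleton, Finset.sum_singleton]
  rw [h]
  ring

theorem minM_dot (m : ℕ) (α : F) (v : (Fin m ⊕ Fin m) ⊕ Fin 2 → F) :
    v ⬝ᵥ (minM F m α *ᵥ v) = 2 * Cfsg.quadFormMinus m F 0 (-α) v := by
  have h := hypM_dot F m (v ∘ Sum.inl)
  rw [minM, Matrix.fromBlocks_mulVec, Cfsg.quadFormMinus]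
  simp only [dotProduct, Cfsg.quadFormPlus, Function.comp_apply] at h
  simp only [dotProduct, Fintype.sum_sum_type (α₁ := Fin m ⊕ Fin m) (α₂ := Fin 2), Sum.elim_inl, Sum.elim_inr,
    Matrix.zero_mulVec, zero_add, add_zero, Matrix.mulVec_diagonal, Function.comp_apply, Fin.sum_univ_two,
    Matrix.cons_val_zero, Matrix.cons_val_one]
  rw [h]
  ring

theorem aniso {α : F} (hα : ¬ IsSquare α) :
    ∀ z₁ z₂ : F, z₁ ^ 2 + 0 * z₁ * z₂ + -α * z₂ ^ 2 = 0 → z₁ = 0 ∧ z₂ = 0 := by
  intro a b h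
  by_cases hb : b = 0
  · subst hb; exact ⟨by simpa using h, rfl⟩
  · exact absurd ⟨a / b, by field_simp; linear_combination -h⟩ hα

end Std

section Square

variable {F : Type*} [Field F]

theorem isSquare_of_two {a b : F} (hb : b ≠ 0) (h : IsSquare (a * b ^ 2)) : IsSquare a := by
  obtain ⟨s, hs⟩ := h
  exact ⟨s / b, by field_simp; linear_combination hs⟩

variable [Fintype F]

theorem ringChar_ne_two (hodd : Odd (Fintype.card F)) : ringChar F ≠ 2 := fun h =>
  Nat.not_even_iff_odd.2 hodd (FiniteField.even_card_iff_char_two.1 h |> Nat.even_iff.2)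

theorem two_ne_zero' (hodd : Odd (Fintype.card F)) : (2 : F) ≠ 0 :=
  Ring.two_ne_zero (ringChar_ne_two hodd)

theorem isSquare_mul_of_not (hodd : Odd (Fintype.card F)) {a b : F} (ha : ¬ IsSquare a) (hb : ¬ IsSquare b) :
    IsSquare (a * b) := by
  classical
  have hc := ringChar_ne_two hodd
  have ha' := (quadraticChar_neg_one_iff_not_isSquare).2 ha
  have hb' := (quadraticChar_neg_one_iff_not_isSquare).2 hb
  have ha0 : a ≠ 0 := fun h => ha (h ▸ IsSquare.zero)
  have hb0 : b ≠ 0 := fun h => hb (h ▸ IsSquare.zero)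
  rw [← quadraticChar_one_iff_isSquare (mul_ne_zero ha0 hb0), map_mul, ha', hb']
  ring

theorem exists_nonsquare' (hodd : Odd (Fintype.card F)) : ∃ α : F, ¬ IsSquare α :=
  FiniteField.exists_nonsquare (ringChar_ne_two hodd)

end Square

section OddDim

variable {n m : ℕ} {F : Type*} [Field F] [Fintype F]

local notation "PSLn" => Matrix.ProjectiveSpecialLinearGroup (Fin n) F

/-- The standard involutory graph automorphism in odd dimension. -/
theorem odd_dim (hodd : Odd (Fintype.card F)) (hn : 3 ≤ n) (hnm : n = 2 * m + 1) :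
    ∃ M₀ : GL (Fin n) F, Nonempty (↥((innd : GL (Fin n) F →* MulAut PSLn).range ⊓
        Subgroup.centralizer {grOf M₀}) ≃* Cfsg.PGO F (Cfsg.quadFormOdd m F)) ∧
      ∀ γ : MulAut PSLn, Cfsg.IsGraphAutClassPSL γ → orderOf γ = 2 →
        Cfsg.IsConjUnder (innd : GL (Fin n) F →* MulAut PSLn).range (grOf M₀) γ := by
  have h2 := two_ne_zero' hodd
  let e : Unit ⊕ (Fin m ⊕ Fin m) ≃ Fin n := Fintype.equivFinOfCardEq (by simp; omega)
  have hd : (oddM F m).det ≠ 0 := by
    rw [oddM_det]; exact mul_ne_zero h2 (pow_ne_zero _ (neg_ne_zero.2 one_ne_zero))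
  let M₀ : GL (Unit ⊕ (Fin m ⊕ Fin m)) F := GeneralLinearGroup.mkOfDetNeZero (oddM F m) hd
  refine ⟨gix e M₀, ?_, fun γ h1 h2' => ?_⟩
  · exact centralizer_sim e (by omega) M₀ _ fun g => mem_sim_iff h2 (oddM_symm F m) (oddM_dot F m) g
  obtain ⟨M, rfl, c, hc⟩ := (graph_iff hn γ).1 ⟨h1, h2'⟩
  obtain ⟨N, rfl⟩ := gix_surjective e M
  have hsym : N.val.transpose = N.val := by
    rcases scale_iff (val_ne_zero (by omega) (gix e N)) hc with h | h
    · rw [gix_val, Matrix.transpose_reindex] at h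
      exact (Matrix.reindex e e).injective h
    · exfalso
      have hdet := congrArg Matrix.det h
      rw [Matrix.det_transpose, Matrix.det_neg, Fintype.card_fin, Odd.neg_one_pow ⟨m, hnm⟩] at hdet
      exact (GeneralLinearGroup.det (gix e N)).ne_zero
        ((mul_eq_zero.1 (show (2 : F) * (gix e N).val.det = 0 by linear_combination hdet)).resolve_left h2)
  have hN : N.val.det ≠ 0 := (GeneralLinearGroup.det N).ne_zero
  let k : F := (oddM F m).det * N.val.det
  have hk : k ≠ 0 := mul_ne_zero hd hN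
  obtain ⟨C, hC⟩ := congr_of_det h2 (M := oddM F m) (M' := k • N.val) (oddM_symm F m)
    (by rw [Matrix.transpose_smul, hsym]) hd
    (by rw [Matrix.det_smul]; exact mul_ne_zero (pow_ne_zero _ hk) hN) (by
      rw [Matrix.det_smul, show Fintype.card (Unit ⊕ (Fin m ⊕ Fin m)) = 2 * m + 1 by simp; omega]
      exact ⟨k ^ (m + 1), by simp only [k]; ring⟩)
  exact conj_of_congr e (by omega) (C := C) (c := Units.mk0 k hk) hC

end OddDim

section EvenDim

variable {n m : ℕ} {F : Type*} [Field F] [Fintype F]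

local notation "PSLn" => Matrix.ProjectiveSpecialLinearGroup (Fin n) F

/-- Skew symmetric matrices give the symplectic class. -/
theorem conj_skew (h2 : (2 : F) ≠ 0) (hn : 2 ≤ n) (e : Fin m ⊕ Fin m ≃ Fin n) (M : GL (Fin n) F)
    (h : M.val.transpose = -M.val) :
    Cfsg.IsConjUnder (innd : GL (Fin n) F →* MulAut PSLn).range (grOf M) (grOf (gix e (gJ m F))) := by
  obtain ⟨N, rfl⟩ := gix_surjective e M
  rw [gix_val, Matrix.transpose_reindex] at h
  have hs : N.val.transpose = -N.val := (Matrix.reindex e e).injective (h.trans (by rfl))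
  obtain ⟨C, hC⟩ := congr_J N fun v => by
    have e1 : v ⬝ᵥ (N.val *ᵥ v) = -(v ⬝ᵥ (N.val *ᵥ v)) := by
      conv_lhs => rw [dotProduct_mulVec, ← Matrix.mulVec_transpose, hs, Matrix.neg_mulVec, neg_dotProduct,
        dotProduct_comm]
    rw [Matrix.toBilin'_apply']
    exact (mul_eq_zero.1 (show (2 : F) * (v ⬝ᵥ (N.val *ᵥ v)) = 0 by linear_combination e1)).resolve_left h2
  exact conj_of_congr e hn (C := C) (c := 1) (by rw [hC, Units.val_one, one_smul]; rfl)

/-- Symmetric matrices with the same discriminant are conjugate. -/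
theorem conj_symm (h2 : (2 : F) ≠ 0) (hn : 2 ≤ n) {ι₀ : Type} [Fintype ι₀] [DecidableEq ι₀] (e : ι₀ ≃ Fin n)
    (M : GL (Fin n) F) (N : GL ι₀ F) (hs : M.val.transpose = M.val) (hN : N.val.transpose = N.val)
    (hsq : IsSquare (M.val.det * N.val.det)) :
    Cfsg.IsConjUnder (innd : GL (Fin n) F →* MulAut PSLn).range (grOf (gix e N)) (grOf M) := by
  obtain ⟨K, rfl⟩ := gix_surjective e M
  rw [gix_val, Matrix.transpose_reindex] at hs
  rw [gix_val, Matrix.det_reindex_self, mul_comm] at hsq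
  obtain ⟨C, hC⟩ := congr_of_det h2 hN ((Matrix.reindex e e).injective hs)
    (GeneralLinearGroup.det N).ne_zero (GeneralLinearGroup.det K).ne_zero hsq
  exact conj_of_congr e hn (C := C) (c := 1) (by rw [hC, Units.val_one, one_smul])

theorem not_conj_skew (h2 : (2 : F) ≠ 0) (hn : 2 ≤ n) {A B : GL (Fin n) F} (hA : A.val.transpose = -A.val)
    (hB : B.val.transpose = B.val) :
    ¬ Cfsg.IsConjUnder (innd : GL (Fin n) F →* MulAut PSLn).range (grOf A) (grOf B) := fun h => by
  obtain ⟨C, c, hC⟩ := (conj_iff hn).1 h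
  have e1 := congrArg Matrix.transpose hC
  rw [Matrix.transpose_mul, Matrix.transpose_mul, Matrix.transpose_transpose, hA, Matrix.transpose_smul, hB,
    Matrix.neg_mul, Matrix.mul_neg, ← mul_assoc, hC] at e1
  have e2 : ((2 : F) * c) • B.val = 0 := by
    rw [mul_smul, two_smul]
    calc (c : F) • B.val + (c : F) • B.val = -((c : F) • B.val) + (c : F) • B.val := by rw [e1]
      _ = 0 := neg_add_cancel _
  exact val_ne_zero (by omega) B ((smul_eq_zero.1 e2).resolve_left (mul_ne_zero h2 c.ne_zero))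

theorem not_conj_det (hn : 2 ≤ n) (hnm : n = 2 * m) {A B : GL (Fin n) F}
    (h : ¬ IsSquare (A.val.det * B.val.det)) :
    ¬ Cfsg.IsConjUnder (innd : GL (Fin n) F →* MulAut PSLn).range (grOf A) (grOf B) := fun h' => h (by
  obtain ⟨C, c, hC⟩ := (conj_iff hn).1 h'
  have e1 := congrArg Matrix.det hC
  rw [det_congr, Matrix.det_smul, Fintype.card_fin] at e1
  have hp : (c : F) ^ n = ((c : F) ^ m) ^ 2 := by rw [← pow_mul, hnm, mul_comm]
  rw [hp] at e1
  exact isSquare_of_two (GeneralLinearGroup.det C).ne_zero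
    ⟨(c : F) ^ m * B.val.det, by
      show A.val.det * B.val.det * C.val.det ^ 2 = _
      linear_combination B.val.det * e1⟩)

/-- The three standard involutory graph automorphisms in even dimension, with centralisers and classification. -/
theorem even_dim (hodd : Odd (Fintype.card F)) (hm : 2 ≤ m) (hnm : n = 2 * m) {α : F} (hα : ¬ IsSquare α) :
    ∃ (M₁ M₂ M₃ : GL (Fin n) F), M₁.val.transpose = -M₁.val ∧
      M₂.val.transpose = M₂.val ∧ IsSquare ((-1) ^ m * M₂.val.det) ∧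
      M₃.val.transpose = M₃.val ∧ ¬ IsSquare ((-1) ^ m * M₃.val.det) ∧
      Nonempty (↥((innd : GL (Fin n) F →* MulAut PSLn).range ⊓ Subgroup.centralizer {grOf M₁}) ≃*
        Cfsg.PGSp m F) ∧
      Nonempty (↥((innd : GL (Fin n) F →* MulAut PSLn).range ⊓ Subgroup.centralizer {grOf M₂}) ≃*
        Cfsg.PGO F (Cfsg.quadFormPlus m F)) ∧
      Nonempty (↥((innd : GL (Fin n) F →* MulAut PSLn).range ⊓ Subgroup.centralizer {grOf M₃}) ≃*
        Cfsg.PGO F (Cfsg.quadFormMinus (m - 1) F 0 (-α))) ∧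
      ∀ M : GL (Fin n) F,
        (M.val.transpose = -M.val →
          Cfsg.IsConjUnder (innd : GL (Fin n) F →* MulAut PSLn).range (grOf M₁) (grOf M)) ∧
        (M.val.transpose = M.val → IsSquare ((-1) ^ m * M.val.det) →
          Cfsg.IsConjUnder (innd : GL (Fin n) F →* MulAut PSLn).range (grOf M₂) (grOf M)) ∧
        (M.val.transpose = M.val → ¬ IsSquare ((-1) ^ m * M.val.det) →
          Cfsg.IsConjUnder (innd : GL (Fin n) F →* MulAut PSLn).range (grOf M₃) (grOf M)) := by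
  have h2 := two_ne_zero' hodd
  have hα0 : α ≠ 0 := fun h => hα (h ▸ IsSquare.zero)
  let e : Fin m ⊕ Fin m ≃ Fin n := Fintype.equivFinOfCardEq (by simp; omega)
  let e' : (Fin (m - 1) ⊕ Fin (m - 1)) ⊕ Fin 2 ≃ Fin n := Fintype.equivFinOfCardEq (by simp; omega)
  have hdP : (hypM F m).det ≠ 0 := by rw [hypM_det]; exact pow_ne_zero _ (neg_ne_zero.2 one_ne_zero)
  have hdM : (minM F (m - 1) α).det ≠ 0 := by
    rw [minM_det]
    exact mul_ne_zero (pow_ne_zero _ (neg_ne_zero.2 one_ne_zero))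
      (mul_ne_zero (by rw [show (4 : F) = 2 * 2 by norm_num]; exact mul_ne_zero h2 h2) hα0)
  let P : GL (Fin m ⊕ Fin m) F := GeneralLinearGroup.mkOfDetNeZero _ hdP
  let R : GL ((Fin (m - 1) ⊕ Fin (m - 1)) ⊕ Fin 2) F := GeneralLinearGroup.mkOfDetNeZero _ hdM
  have hsq : IsSquare ((-1 : F) ^ m * P.val.det) :=
    ⟨(-1) ^ m, by show _ * (hypM F m).det = _; rw [hypM_det]⟩
  have hnsq : ¬ IsSquare ((-1 : F) ^ m * R.val.det) := fun h => hα (by
    refine isSquare_of_two (show (2 : F) * (-1) ^ m ≠ 0 from mul_ne_zero h2 (pow_ne_zero _ (neg_ne_zero.2 one_ne_zero))) ?_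
    convert h using 1
    show _ = _ * (minM F (m - 1) α).det
    rw [minM_det, show m - 1 + 1 = m by omega]
    ring)
  have hJ : (gix e (gJ m F)).val.transpose = -(gix e (gJ m F)).val := by
    rw [gix_val, Matrix.transpose_reindex, gJ_val, Matrix.J_transpose]; rfl
  refine ⟨gix e (gJ m F), gix e P, gix e' R, hJ, ?_, ?_, ?_, ?_, ?_, ?_, ?_, fun M => ⟨fun h => ?_, fun h h' => ?_,
    fun h h' => ?_⟩⟩
  · rw [gix_val, Matrix.transpose_reindex]; exact congrArg _ (hypM_symm F m)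
  · rw [gix_val, Matrix.det_reindex_self]; exact hsq
  · rw [gix_val, Matrix.transpose_reindex]; exact congrArg _ (minM_symm F _ α)
  · rw [gix_val, Matrix.det_reindex_self]; exact hnsq
  · exact centralizer_sim e (by omega) _ _ mem_GSp_iff'
  · exact centralizer_sim e (by omega) _ _ fun g => mem_sim_iff h2 (hypM_symm F m) (hypM_dot F m) g
  · exact centralizer_sim e' (by omega) _ _ fun g => mem_sim_iff h2 (minM_symm F _ α) (minM_dot F _ α) g
  · obtain ⟨k, hk, hk'⟩ := conj_skew h2 (by omega) e M h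
    exact ⟨k⁻¹, inv_mem hk, by rw [hk']; group⟩
  · refine conj_symm h2 (by omega) e M P h (hypM_symm F m) ?_
    obtain ⟨r, hr⟩ := h'.mul hsq
    exact isSquare_of_two (pow_ne_zero m (neg_ne_zero.2 (one_ne_zero (α := F)))) ⟨r, by linear_combination hr⟩
  · refine conj_symm h2 (by omega) e' M R h (minM_symm F _ α) ?_
    obtain ⟨r, hr⟩ := isSquare_mul_of_not hodd h' hnsq
    exact isSquare_of_two (pow_ne_zero m (neg_ne_zero.2 (one_ne_zero (α := F)))) ⟨r, by linear_combination hr⟩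

end EvenDim

end Cfsg.Lib.Linear.AutPSL.GForms
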