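import Cfsg.Agent.Lib.Linear.AutPSL.FieldCentralizer
import Cfsg.Agent.Lib.Linear.FormsNormal
import Cfsg.Agent.Lib.Linear.AutPSp.Field

/-!
# Graph automorphisms of `PSL_n` and bilinear forms

A graph automorphism is `gr * innd M`; it is an involution when `M` is symmetric or skew symmetric, conjugacy under
`Inndiag` is congruence up to scalars and the centraliser is the group of similitudes of `M` modulo scalars.
-/

set_option autoImplicit false

namespace Cfsg.Lib.Linear.AutPSL.GForms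

open Matrix Cfsg.Lib.Linear.AutPSL
open Cfsg.Lib.Linear.Descent (sc sc_val sc_comm)
open scoped MatrixGroups

section Auto

variable {n : ℕ} {F : Type*} [Field F]

local notation "PSLn" => Matrix.ProjectiveSpecialLinearGroup (Fin n) F

/-- The graph automorphism attached to an invertible matrix. -/
def grOf (M : GL (Fin n) F) : MulAut PSLn := gr * innd M

theorem grOf_one : (grOf (1 : GL (Fin n) F) : MulAut PSLn) = gr := by rw [grOf, map_one, mul_one]

theorem dual_val (g : GL (Fin n) F) : (dual g).val = (g⁻¹).val.transpose := rfl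

theorem dual_dual (g : GL (Fin n) F) : dual (dual g) = g := Units.ext (Matrix.transpose_transpose _)

theorem innd_mul_gr (g : GL (Fin n) F) : (innd g : MulAut PSLn) * gr = gr * innd (dual g) := by
  rw [gr_mul_innd, dual_dual]

theorem conj_grOf (h M : GL (Fin n) F) :
    (innd h : MulAut PSLn) * grOf M * (innd h)⁻¹ = grOf (dual h * M * h⁻¹) := by
  rw [grOf, grOf, ← mul_assoc, innd_mul_gr, map_mul, map_mul, map_inv]
  group

theorem smul_iff {A B : GL (Fin n) F} {c : Fˣ} : A = sc c * B ↔ A.val = (c : F) • B.val := by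
  rw [Units.ext_iff, Units.val_mul, sc_val, smul_mul_assoc, one_mul]

theorem grOf_eq_iff (hn : 2 ≤ n) {M M' : GL (Fin n) F} :
    (grOf M : MulAut PSLn) = grOf M' ↔ ∃ c : Fˣ, M.val = (c : F) • M'.val := by
  rw [grOf, grOf, mul_right_inj, innd_eq_innd hn]
  exact exists_congr fun c => smul_iff

theorem grOf_sq_iff (hn : 2 ≤ n) (M : GL (Fin n) F) :
    (grOf M : MulAut PSLn) * grOf M = 1 ↔ ∃ c : Fˣ, M.val = (c : F) • M.val.transpose := by
  have h : (grOf M : MulAut PSLn) * grOf M = innd (dual M * M) := by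
    show gr * innd M * (gr * innd M) = _
    rw [← mul_assoc]
    conv_lhs => arg 1; arg 1; rw [gr_mul_innd]
    rw [mul_assoc (innd (dual M)) gr gr, gr_mul_gr, mul_one, ← map_mul]
  rw [h, innd_eq_one_iff hn]
  refine exists_congr fun c => ?_
  have ht : M.val.transpose * (dual M).val = 1 := by
    rw [dual_val, ← Matrix.transpose_mul, Units.inv_mul, Matrix.transpose_one]
  rw [Units.ext_iff, Units.val_mul, sc_val]
  constructor
  · intro e
    calc M.val = M.val.transpose * (dual M).val * M.val := by rw [ht, one_mul]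
      _ = _ := by rw [mul_assoc, e, mul_smul_comm, mul_one]
  · intro e
    rw [e, mul_smul_comm, mul_eq_one_comm.1 ht]

theorem grOf_ne_one (hn : 3 ≤ n) (M : GL (Fin n) F) : (grOf M : MulAut PSLn) ≠ 1 := fun h => by
  have h1 : (gr : MulAut PSLn) = innd M⁻¹ * fld 1 := by
    rw [map_one, mul_one, map_inv]; exact eq_inv_of_mul_eq_one_left h
  exact gr_ne (by simpa using hn) M⁻¹ 1 h1

/-- The involutory graph automorphisms. -/
theorem graph_iff (hn : 3 ≤ n) (γ : MulAut PSLn) :
    (Cfsg.IsGraphAutClassPSL γ ∧ orderOf γ = 2) ↔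
      ∃ M : GL (Fin n) F, γ = grOf M ∧ ∃ c : Fˣ, M.val = (c : F) • M.val.transpose := by
  constructor
  · rintro ⟨⟨-, δ, ι, hδ, hι, rfl⟩, h2⟩
    obtain ⟨g, rfl⟩ := (isInnerDiagonal_iff δ).1 hδ
    obtain rfl := (isInverseTranspose_iff ι).1 hι
    have he : (innd g : MulAut PSLn) * gr = grOf (dual g) := innd_mul_gr g
    refine ⟨dual g, he, (grOf_sq_iff (by omega) _).1 ?_⟩
    rw [← he, ← sq, ← h2, pow_orderOf_eq_one]
  · rintro ⟨M, rfl, hM⟩
    refine ⟨⟨hn, innd (dual M), gr, (isInnerDiagonal_iff _).2 ⟨_, rfl⟩, (isInverseTranspose_iff _).2 rfl, ?_⟩, ?_⟩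
    · rw [innd_mul_gr, dual_dual]; rfl
    · haveI : Fact (Nat.Prime 2) := ⟨Nat.prime_two⟩
      exact orderOf_eq_prime (by rw [sq]; exact (grOf_sq_iff (by omega) M).2 hM) (grOf_ne_one hn M)

theorem conj_iff (hn : 2 ≤ n) {M M' : GL (Fin n) F} :
    Cfsg.IsConjUnder (innd : GL (Fin n) F →* MulAut PSLn).range (grOf M) (grOf M') ↔
      ∃ (C : GL (Fin n) F) (c : Fˣ), C.val.transpose * M.val * C.val = (c : F) • M'.val := by
  constructor
  · rintro ⟨_, ⟨h, rfl⟩, e⟩
    rw [conj_grOf, eq_comm, grOf_eq_iff hn] at e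
    obtain ⟨c, hc⟩ := e
    exact ⟨h⁻¹, c, hc⟩
  · rintro ⟨C, c, hc⟩
    refine ⟨innd C⁻¹, ⟨C⁻¹, rfl⟩, ?_⟩
    rw [conj_grOf, eq_comm, grOf_eq_iff hn]
    refine ⟨c, ?_⟩
    rw [Units.val_mul, Units.val_mul, dual_val, inv_inv]
    exact hc

theorem comm_iff (hn : 2 ≤ n) {A M : GL (Fin n) F} :
    (innd A : MulAut PSLn) * grOf M = grOf M * innd A ↔
      ∃ c : Fˣ, A.val.transpose * M.val * A.val = (c : F) • M.val := by
  have h : (innd A : MulAut PSLn) * grOf M = grOf M * innd A ↔
      innd A⁻¹ * grOf M * (innd A⁻¹)⁻¹ = grOf M := by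
    rw [map_inv, inv_inv, mul_assoc, inv_mul_eq_iff_eq_mul, eq_comm]
  rw [h, conj_grOf, grOf_eq_iff hn]
  refine exists_congr fun c => ?_
  rw [Units.val_mul, Units.val_mul, dual_val, inv_inv]

/-- The centraliser, as the image of a group of similitudes. -/
theorem centralizer_iso (hn : 2 ≤ n) (M : GL (Fin n) F) {H : Type*} [Group H] (φ : H →* GL (Fin n) F)
    (K : Subgroup H) [K.Normal]
    (h1 : ∀ h, ∃ c : Fˣ, (φ h).val.transpose * M.val * (φ h).val = (c : F) • M.val)
    (h2 : ∀ (A : GL (Fin n) F) (c : Fˣ), A.val.transpose * M.val * A.val = (c : F) • M.val →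
      ∃ (h : H) (d : Fˣ), A = sc d * φ h)
    (hK : ∀ h, h ∈ K ↔ ∃ d : Fˣ, φ h = sc d) :
    Nonempty (↥((innd : GL (Fin n) F →* MulAut PSLn).range ⊓ Subgroup.centralizer {grOf M}) ≃* H ⧸ K) := by
  let ψ : H →* ↥((innd : GL (Fin n) F →* MulAut PSLn).range ⊓ Subgroup.centralizer {grOf M}) :=
    ((innd : GL (Fin n) F →* MulAut PSLn).comp φ).codRestrict _ fun h =>
      Subgroup.mem_inf.2 ⟨⟨_, rfl⟩, Subgroup.mem_centralizer_singleton_iff.2 ((comm_iff hn).2 (h1 h))⟩
  have hψ : Function.Surjective ψ := by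
    rintro ⟨_, ⟨A, rfl⟩, hA⟩
    obtain ⟨c, hc⟩ := (comm_iff hn).1 (Subgroup.mem_centralizer_singleton_iff.1 hA)
    obtain ⟨h, d, rfl⟩ := h2 A c hc
    exact ⟨h, Subtype.ext (by show innd _ = innd _; rw [map_mul innd, innd_sc, one_mul])⟩
  have hker : ψ.ker = K := by
    ext h
    rw [MonoidHom.mem_ker, Subtype.ext_iff, hK]
    exact innd_eq_one_iff hn
  exact ⟨((QuotientGroup.quotientMulEquivOfEq hker.symm).trans
    (QuotientGroup.quotientKerEquivOfSurjective ψ hψ)).symm⟩

theorem scale_iff {M : Matrix (Fin n) (Fin n) F} (hM : M ≠ 0) {c : Fˣ} (h : M = (c : F) • M.transpose) :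
    M.transpose = M ∨ M.transpose = -M := by
  have h2 : M = ((c : F) * c) • M := by
    conv_lhs => rw [h]
    rw [mul_smul]
    congr 1
    conv_lhs => rw [h, Matrix.transpose_smul, Matrix.transpose_transpose]
  have hc : (c : F) * c = 1 := by
    by_contra hne
    refine hM ((smul_eq_zero.1 (show ((c : F) * c - 1) • M = 0 by
      rw [sub_smul, one_smul, ← h2, sub_self])).resolve_left (sub_ne_zero.2 hne))
  have h3 : M.transpose = (c : F) • M := by
    conv_rhs => rw [h, smul_smul, hc, one_smul]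
  rcases mul_self_eq_one_iff.1 hc with hc | hc
  · left; rw [h3, hc, one_smul]
  · right; rw [h3, hc, neg_one_smul]

theorem val_ne_zero (hn : 0 < n) (M : GL (Fin n) F) : M.val ≠ 0 := fun h => by
  have h1 := Units.mul_inv M
  rw [h, zero_mul] at h1
  have := congrFun (congrFun h1 ⟨0, hn⟩) ⟨0, hn⟩
  simp at this

end Auto

section Reindex

variable {n : ℕ} {ι₀ : Type} [Fintype ι₀] [DecidableEq ι₀] {F : Type*} [Field F] (e : ι₀ ≃ Fin n)

/-- Reindexing of invertible matrices. -/
noncomputable def gix : GL ι₀ F →* GL (Fin n) F :=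
  Units.map (Matrix.reindexAlgEquiv F F e : Matrix ι₀ ι₀ F →* Matrix (Fin n) (Fin n) F)

theorem gix_val (g : GL ι₀ F) : (gix e g).val = Matrix.reindex e e g.val := rfl

theorem rix_mul (A B : Matrix ι₀ ι₀ F) :
    Matrix.reindex e e (A * B) = Matrix.reindex e e A * Matrix.reindex e e B :=
  (Matrix.reindexAlgEquiv F F e).map_mul A B

theorem rix_congr (C : GL ι₀ F) (M : Matrix ι₀ ι₀ F) :
    Matrix.reindex e e (C.val.transpose * M * C.val) =
      (gix e C).val.transpose * Matrix.reindex e e M * (gix e C).val := by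
  rw [rix_mul, rix_mul, gix_val, Matrix.transpose_reindex]

theorem rix_smul (c : F) (M : Matrix ι₀ ι₀ F) : Matrix.reindex e e (c • M) = c • Matrix.reindex e e M := rfl

theorem gix_surjective (A : GL (Fin n) F) : ∃ g : GL ι₀ F, gix e g = A :=
  ⟨Units.map ((Matrix.reindexAlgEquiv F F e).symm : Matrix (Fin n) (Fin n) F →* Matrix ι₀ ι₀ F) A,
    Units.ext ((Matrix.reindexAlgEquiv F F e).apply_symm_apply _)⟩

theorem gix_eq_sc {g : GL ι₀ F} {d : Fˣ} :
    gix e g = sc d ↔ g.val = (d : F) • (1 : Matrix ι₀ ι₀ F) := by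
  have h1 : Matrix.reindex e e (1 : Matrix ι₀ ι₀ F) = 1 := by simp
  rw [Units.ext_iff, gix_val, sc_val]
  constructor
  · intro h
    apply (Matrix.reindex e e).injective
    rw [h, rix_smul, h1]
  · intro h
    rw [h, rix_smul, h1]

/-- Congruences carried to `Fin n`. -/
theorem conj_of_congr (hn : 2 ≤ n) {M M' : GL ι₀ F} {C : GL ι₀ F} {c : Fˣ}
    (h : C.val.transpose * M.val * C.val = (c : F) • M'.val) :
    Cfsg.IsConjUnder (innd : GL (Fin n) F →* MulAut (Matrix.ProjectiveSpecialLinearGroup (Fin n) F)).range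
      (grOf (gix e M)) (grOf (gix e M')) :=
  (conj_iff hn).2 ⟨gix e C, c, by rw [gix_val e M, ← rix_congr, h, rix_smul]; rfl⟩

/-- The centraliser is the projective similitude group. -/
theorem centralizer_sim (hn : 2 ≤ n) (M : GL ι₀ F) (H : Subgroup (GL ι₀ F))
    (hH : ∀ g : GL ι₀ F, g ∈ H ↔ ∃ c : Fˣ, g.val.transpose * M.val * g.val = (c : F) • M.val) :
    Nonempty (↥((innd : GL (Fin n) F →* MulAut (Matrix.ProjectiveSpecialLinearGroup (Fin n) F)).range ⊓
      Subgroup.centralizer {grOf (gix e M)}) ≃* Cfsg.projQuot H) := by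
  refine centralizer_iso hn (gix e M) ((gix e).comp H.subtype) _ (fun h => ?_) (fun A c hc => ?_) fun h => ?_
  · obtain ⟨c, hc⟩ := (hH h.1).1 h.2
    refine ⟨c, ?_⟩
    show (gix e h.1).val.transpose * (gix e M).val * (gix e h.1).val = _
    rw [gix_val e M, ← rix_congr, hc]
    rfl
  · obtain ⟨g, rfl⟩ := gix_surjective e A
    rw [gix_val e M, ← rix_congr, ← rix_smul] at hc
    refine ⟨⟨g, (hH g).2 ⟨c, (Matrix.reindex e e).injective hc⟩⟩, 1, ?_⟩
    rw [map_one, one_mul]
    rfl
  · rw [Subgroup.mem_subgroupOf, Cfsg.Geo.mem_scalars_iff]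
    exact exists_congr fun d => (gix_eq_sc e).symm

end Reindex

section Congruence

variable {ι : Type} [Fintype ι] [DecidableEq ι] {F : Type*} [Field F]

theorem entry_congr (C M : Matrix ι ι F) (i j : ι) :
    (C.transpose * M * C) i j = Matrix.toBilin' M (fun r => C r i) (fun r => C r j) := by
  simp only [Matrix.toBilin'_apply, Matrix.mul_apply, Matrix.transpose_apply, Finset.sum_mul]
  exact Finset.sum_comm

theorem toBilin'_symm {M : Matrix ι ι F} (hs : M.transpose = M) (u v : ι → F) :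
    Matrix.toBilin' M u v = Matrix.toBilin' M v u := by
  rw [Matrix.toBilin'_apply', Matrix.toBilin'_apply', dotProduct_mulVec, ← Matrix.mulVec_transpose, hs,
    dotProduct_comm]

theorem toBilin'_congr (C M : Matrix ι ι F) (u v : ι → F) :
    Matrix.toBilin' (C.transpose * M * C) u v = Matrix.toBilin' M (C *ᵥ u) (C *ᵥ v) := by
  rw [Matrix.toBilin'_apply', Matrix.toBilin'_apply', ← Matrix.mulVec_mulVec, ← Matrix.mulVec_mulVec,
    dotProduct_mulVec, Matrix.vecMul_transpose]

theorem self_transpose_congr {M : Matrix ι ι F} (hs : M.transpose = M) (C : Matrix ι ι F) :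
    (C.transpose * M * C).transpose = C.transpose * M * C := by
  rw [Matrix.transpose_mul, Matrix.transpose_mul, Matrix.transpose_transpose, hs, mul_assoc]

theorem det_congr (C M : Matrix ι ι F) : (C.transpose * M * C).det = C.det ^ 2 * M.det := by
  rw [Matrix.det_mul, Matrix.det_mul, Matrix.det_transpose]; ring

variable [Finite F]

theorem exists_congr_diag (h2 : (2 : F) ≠ 0) {α : F} (hα : ¬ IsSquare α) {M : Matrix ι ι F}
    (hs : M.transpose = M) (hd : M.det ≠ 0) (i₀ : ι) :
    ∃ (C : GL ι F) (δ : F), (δ = 1 ∨ δ = α) ∧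
      C.val.transpose * M * C.val = Matrix.diagonal (Function.update 1 i₀ δ) := by
  classical
  obtain ⟨N, hN⟩ : ∃ N, Fintype.card ι = N + 1 :=
    Nat.exists_eq_succ_of_ne_zero (haveI : Nonempty ι := ⟨i₀⟩; Fintype.card_ne_zero)
  let e0 : ι ≃ Fin (N + 1) := (Fintype.equivFinOfCardEq hN)
  let e : ι ≃ Fin (N + 1) := e0.trans (Equiv.swap (e0 i₀) (Fin.last N))
  have he : e i₀ = Fin.last N := by simp [e]
  obtain ⟨b, ho, h1, hl⟩ := Forms.exists_normal_basis h2 (Matrix.toBilin' M) (toBilin'_symm hs)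
    (Matrix.Nondegenerate.toBilin' (Matrix.nondegenerate_of_det_ne_zero hd)).1
    (n := N) (by rw [Module.finrank_pi, hN]) α hα
  obtain ⟨δ, hδ⟩ : ∃ δ, δ = Matrix.toBilin' M (b (Fin.last N)) (b (Fin.last N)) := ⟨_, rfl⟩
  let C : Matrix ι ι F := Matrix.of fun r i => b (e i) r
  have hC : C.transpose * M * C = Matrix.diagonal (Function.update 1 i₀ δ) := by
    ext i j
    rw [entry_congr]
    show Matrix.toBilin' M (b (e i)) (b (e j)) = _
    rcases eq_or_ne i j with rfl | hij
    · rw [Matrix.diagonal_apply_eq]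
      rcases eq_or_ne i i₀ with rfl | hi
      · rw [he, Function.update_self, hδ]
      · rw [Function.update_of_ne hi, h1 _ fun h => hi (e.injective (h.trans he.symm))]
        rfl
    · rw [Matrix.diagonal_apply_ne _ hij, ho _ _ fun h => hij (e.injective h)]
  have hδ' : δ = 1 ∨ δ = α := hδ ▸ hl
  have hCd : C.det ≠ 0 := fun h => by
    have h' := congrArg Matrix.det hC
    rw [det_congr, h, Matrix.det_diagonal, Finset.prod_update_of_mem (Finset.mem_univ _)] at h'
    simp at h'
    rcases hδ' with h'' | h'' <;> rw [h''] at h'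
    · exact one_ne_zero h'.symm
    · exact hα (h'.symm ▸ IsSquare.zero)
  exact ⟨GeneralLinearGroup.mkOfDetNeZero C hCd, δ, hδ', hC⟩

/-- Symmetric matrices are congruent when the product of the determinants is a square. -/
theorem congr_of_det (h2 : (2 : F) ≠ 0) {M M' : Matrix ι ι F} (hs : M.transpose = M) (hs' : M'.transpose = M')
    (hd : M.det ≠ 0) (hd' : M'.det ≠ 0) (hsq : IsSquare (M.det * M'.det)) :
    ∃ C : GL ι F, C.val.transpose * M * C.val = M' := by
  classical
  rcases isEmpty_or_nonempty ι with hι | ⟨⟨i₀⟩⟩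
  · exact ⟨1, Matrix.ext fun i => (IsEmpty.false i).elim⟩
  haveI := Fintype.ofFinite F
  obtain ⟨α, hα⟩ := FiniteField.exists_nonsquare (F := F) (fun h => h2 (by
    haveI := ringChar.charP F
    have := CharP.cast_eq_zero F (ringChar F)
    rw [h] at this
    exact_mod_cast this))
  obtain ⟨C, δ, hδ, hC⟩ := exists_congr_diag h2 hα hs hd i₀
  obtain ⟨C', δ', hδ', hC'⟩ := exists_congr_diag h2 hα hs' hd' i₀
  have key : IsSquare (δ * δ') := by
    have e1 := congrArg Matrix.det hC
    have e2 := congrArg Matrix.det hC'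
    rw [det_congr, Matrix.det_diagonal, Finset.prod_update_of_mem (Finset.mem_univ _)] at e1 e2
    simp at e1 e2
    obtain ⟨s, hs⟩ := hsq
    exact ⟨C.val.det * C'.val.det * s, by
      rw [← e1, ← e2]; linear_combination (C.val.det ^ 2 * C'.val.det ^ 2) * hs⟩
  have heq : δ = δ' := by
    rcases hδ with rfl | rfl <;> rcases hδ' with rfl | rfl
    · rfl
    · exact absurd (by simpa using key) hα
    · exact absurd (by simpa using key) hα
    · rfl
  subst heq
  refine ⟨C * C'⁻¹, ?_⟩
  have h1 : C'.val * (C'⁻¹).val = 1 := Units.mul_inv _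
  calc (C * C'⁻¹).val.transpose * M * (C * C'⁻¹).val
      = (C'⁻¹).val.transpose * (C.val.transpose * M * C.val) * (C'⁻¹).val := by
        rw [Units.val_mul, Matrix.transpose_mul]; simp only [mul_assoc]
    _ = (C'.val * (C'⁻¹).val).transpose * M' * (C'.val * (C'⁻¹).val) := by
        rw [hC, ← hC', Matrix.transpose_mul]; simp only [mul_assoc]
    _ = M' := by rw [h1, Matrix.transpose_one, one_mul, mul_one]

end Congruence

section Alternating

variable {m : ℕ} {F : Type*} [Field F]

/-- An alternating invertible matrix is congruent to `J`. -/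
theorem congr_J (M : GL (Fin m ⊕ Fin m) F) (hA : ∀ v, Matrix.toBilin' M.val v v = 0) :
    ∃ C : GL (Fin m ⊕ Fin m) F, C.val.transpose * M.val * C.val = Matrix.J (Fin m) F := by
  obtain ⟨C, hC⟩ := AutPSp.exists_std_coords (ω := Matrix.toBilin' M.val) hA
    (Matrix.Nondegenerate.toBilin' (Matrix.nondegenerate_of_det_ne_zero
      (GeneralLinearGroup.det M).ne_zero))
  exact ⟨C, Matrix.toBilin'.injective (LinearMap.ext₂ fun u v => by rw [toBilin'_congr, hC]; rfl)⟩

theorem mem_GSp_iff' (g : GL (Fin m ⊕ Fin m) F) :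
    g ∈ Cfsg.GSp m F ↔
      ∃ c : Fˣ, g.val.transpose * Matrix.J (Fin m) F * g.val = (c : F) • Matrix.J (Fin m) F := by
  refine exists_congr fun c => ?_
  constructor
  · intro h
    refine Matrix.toBilin'.injective (LinearMap.ext₂ fun u v => ?_)
    rw [toBilin'_congr, map_smul, LinearMap.smul_apply, LinearMap.smul_apply, Matrix.toBilin'_apply',
      Matrix.toBilin'_apply', smul_eq_mul]
    exact h u v
  · intro h u v
    show g.val *ᵥ u ⬝ᵥ (Matrix.J (Fin m) F *ᵥ (g.val *ᵥ v)) = (c : F) * (u ⬝ᵥ (Matrix.J (Fin m) F *ᵥ v))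
    rw [← Matrix.toBilin'_apply', ← toBilin'_congr, h, map_smul, LinearMap.smul_apply, LinearMap.smul_apply,
      Matrix.toBilin'_apply', smul_eq_mul]

/-- `J` as an invertible matrix. -/
noncomputable def gJ (m : ℕ) (F : Type*) [Field F] : GL (Fin m ⊕ Fin m) F :=
  GeneralLinearGroup.mkOfDetNeZero (Matrix.J (Fin m) F) (Matrix.isUnit_det_J (Fin m) F).ne_zero

theorem gJ_val : (gJ m F).val = Matrix.J (Fin m) F := rfl

/-- The determinant of a similitude of `J`. -/
theorem det_similitude {A : Matrix (Fin m ⊕ Fin m) (Fin m ⊕ Fin m) F} {c : Fˣ}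
    (h : A.transpose * Matrix.J (Fin m) F * A = (c : F) • Matrix.J (Fin m) F) : A.det = (c : F) ^ m := by
  classical
  set S : Matrix (Fin m ⊕ Fin m) (Fin m ⊕ Fin m) F :=
    Matrix.fromBlocks (((c⁻¹ : Fˣ) : F) • 1) 0 0 1 with hS
  have hSJ : S.transpose * Matrix.J (Fin m) F * S = ((c⁻¹ : Fˣ) : F) • Matrix.J (Fin m) F := by
    rw [hS, Matrix.J, Matrix.fromBlocks_transpose, Matrix.fromBlocks_multiply, Matrix.fromBlocks_multiply,
      Matrix.fromBlocks_smul]
    simp
  have hmem : A * S ∈ Matrix.symplecticGroup (Fin m) F := by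
    rw [SymplecticGroup.mem_iff', Matrix.transpose_mul]
    calc S.transpose * A.transpose * Matrix.J (Fin m) F * (A * S)
        = S.transpose * (A.transpose * Matrix.J (Fin m) F * A) * S := by simp only [mul_assoc]
      _ = _ := by
        rw [h, mul_smul_comm, smul_mul_assoc, hSJ, smul_smul, ← Units.val_mul, mul_inv_cancel, Units.val_one,
          one_smul]
  have hd := SymplecticGroup.det_eq_one hmem
  rw [Matrix.det_mul, hS, Matrix.det_fromBlocks_zero₂₁, Matrix.det_smul, Matrix.det_one,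
    Fintype.card_fin, mul_one, mul_one, Units.val_inv_eq_inv_val, inv_pow] at hd
  exact (mul_inv_eq_one₀ (pow_ne_zero _ c.ne_zero)).1 hd

end Alternating

end Cfsg.Lib.Linear.AutPSL.GForms
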