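import Cfsg.Agent.Lib.Linear.AutPSL.GraphTwo

/-!
# Centralisers of involutory graph automorphisms of `PSL_n(2^f)`
-/

set_option autoImplicit false

namespace Cfsg.Lib.Linear.AutPSL.GForms

open Matrix Module Cfsg.Lib.Linear.AutPSL
open Cfsg.Lib.Linear.Descent (sc sc_val sc_comm)
open scoped MatrixGroups

section Scale

variable {ι : Type} [Fintype ι] [DecidableEq ι] {F : Type*} [Field F] [CharP F 2] [Finite F]

omit [DecidableEq ι] in
theorem eq_one_of_sq {c : F} (h : c * c = 1) : c = 1 := by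
  rcases mul_self_eq_one_iff.1 h with h | h
  · exact h
  · rw [h, CharTwo.neg_eq]

/-- Every similitude is a scalar multiple of an isometry. -/
theorem exists_normalise {M : Matrix ι ι F} (A : GL ι F) (c : Fˣ)
    (h : A.val.transpose * M * A.val = (c : F) • M) :
    ∃ (d : Fˣ) (B : GL ι F), A.val = (d : F) • B.val ∧ B.val.transpose * M * B.val = M := by
  obtain ⟨r, hr⟩ := exists_sqrt (c : F)
  have hr0 : r ≠ 0 := fun h0 => c.ne_zero (by rw [← hr, h0, zero_pow two_ne_zero])
  refine ⟨Units.mk0 r hr0, GeneralLinearGroup.mkOfDetNeZero (r⁻¹ • A.val) (by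
    rw [Matrix.det_smul]; exact mul_ne_zero (pow_ne_zero _ (inv_ne_zero hr0)) (GeneralLinearGroup.det A).ne_zero),
    ?_, ?_⟩
  · show A.val = r • (r⁻¹ • A.val)
    rw [smul_smul, mul_inv_cancel₀ hr0, one_smul]
  · show (r⁻¹ • A.val).transpose * M * (r⁻¹ • A.val) = M
    rw [Matrix.transpose_smul, smul_mul_assoc, smul_mul_assoc, mul_smul_comm, h, smul_smul, smul_smul, ← hr]
    conv_rhs => rw [← one_smul F M]
    congr 1
    field_simp

end Scale

section OddDim

variable {m n : ℕ} {F : Type*} [Field F] [CharP F 2]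

local notation "ιo" => Unit ⊕ (Fin m ⊕ Fin m)

/-- Symplectic matrices fixing an added non-degenerate line. -/
def blockHom (m : ℕ) (F : Type*) [Field F] :
    Matrix.symplecticGroup (Fin m) F →* Matrix (Unit ⊕ (Fin m ⊕ Fin m)) (Unit ⊕ (Fin m ⊕ Fin m)) F where
  toFun g := Matrix.fromBlocks 1 0 0 g.1
  map_one' := Matrix.fromBlocks_one
  map_mul' g h := by
    rw [Matrix.fromBlocks_multiply]
    simp

omit [CharP F 2] in
theorem blockHom_isometry (g : Matrix.symplecticGroup (Fin m) F) :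
    (blockHom m F g).transpose * twoM m F * blockHom m F g = twoM m F := by
  show (Matrix.fromBlocks 1 0 0 g.1).transpose * _ * _ = _
  rw [twoM, Matrix.fromBlocks_transpose, Matrix.fromBlocks_multiply,
    show blockHom m F g = Matrix.fromBlocks 1 0 0 g.1 from rfl, Matrix.fromBlocks_multiply]
  simp [SymplecticGroup.mem_iff'.1 g.2]

variable [Finite F]

theorem isometry_block {A : Matrix ιo ιo F} (h : A.transpose * twoM m F * A = twoM m F) :
    ∃ g : Matrix.symplecticGroup (Fin m) F, A = Matrix.fromBlocks 1 0 0 g.1 := by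
  classical
  have hrow : ∀ v : ιo → F, (A *ᵥ v) (Sum.inl ()) = v (Sum.inl ()) := fun v => sq_inj (by
    rw [← twoM_dot, ← twoM_dot, ← Matrix.toBilin'_apply', ← toBilin'_congr, h, Matrix.toBilin'_apply'])
  have hrow' : ∀ a, A (Sum.inl ()) a = if a = Sum.inl () then 1 else 0 := fun a => by
    have := hrow (Pi.single a 1)
    rw [Matrix.mulVec_single_one] at this
    rw [show A (Sum.inl ()) a = A.col a (Sum.inl ()) from rfl, this, Pi.single_apply]
    simp [eq_comm]
  have h11 : A.toBlocks₁₁ = 1 := Matrix.ext fun ⟨⟩ ⟨⟩ => by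
    show A (Sum.inl ()) (Sum.inl ()) = _
    rw [hrow', if_pos rfl, Matrix.one_apply_eq]
  have h12 : A.toBlocks₁₂ = 0 := Matrix.ext fun ⟨⟩ a => by
    show A (Sum.inl ()) (Sum.inr a) = _
    rw [hrow', if_neg Sum.inr_ne_inl, Matrix.zero_apply]
  rw [← Matrix.fromBlocks_toBlocks A, h11, h12, twoM, Matrix.fromBlocks_transpose, Matrix.fromBlocks_multiply,
    Matrix.fromBlocks_multiply, Matrix.fromBlocks_inj] at h
  simp only [Matrix.transpose_one, Matrix.transpose_zero, Matrix.mul_zero, Matrix.zero_mul, Matrix.mul_one,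
    Matrix.one_mul, zero_add, add_zero] at h
  obtain ⟨-, -, h21, h22⟩ := h
  have hD : A.toBlocks₂₂ ∈ Matrix.symplecticGroup (Fin m) F := SymplecticGroup.mem_iff'.2 h22
  refine ⟨⟨_, hD⟩, ?_⟩
  have hu : IsUnit (A.toBlocks₂₂.transpose * Matrix.J (Fin m) F).det := by
    rw [Matrix.det_mul, Matrix.det_transpose]
    exact (SymplecticGroup.symplectic_det hD).mul (Matrix.isUnit_det_J (Fin m) F)
  have hP : A.toBlocks₂₁ = 0 := by
    calc A.toBlocks₂₁ = (A.toBlocks₂₂.transpose * Matrix.J (Fin m) F)⁻¹ *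
          (A.toBlocks₂₂.transpose * Matrix.J (Fin m) F * A.toBlocks₂₁) := by
          rw [← Matrix.mul_assoc, Matrix.nonsing_inv_mul _ hu, Matrix.one_mul]
      _ = 0 := by rw [h21, Matrix.mul_zero]
  conv_lhs => rw [← Matrix.fromBlocks_toBlocks A, h11, h12, hP]

omit [Finite F] in
theorem twoM_symm : (twoM m F).transpose = twoM m F := by
  rw [twoM, Matrix.fromBlocks_transpose, Matrix.transpose_one, J_symm, Matrix.transpose_zero,
    Matrix.transpose_zero]

/-- `PGO_{2m+1}(q) ≅ Sp_{2m}(q)` for even `q`. -/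
theorem pgo_odd_equiv [Fintype F] (m : ℕ) :
    Nonempty (Cfsg.PGO F (Cfsg.quadFormOdd m F) ≃* ↥(Matrix.symplecticGroup (Fin m) F)) := by
  classical
  obtain ⟨e⟩ := Cfsg.Agent.S0304.result (F := F) m
  let H := Cfsg.Geo.quadSimilarityGroup (F := F) (Cfsg.quadFormOdd m F)
  have hmem : ∀ g : Cfsg.isometryGroup F (Cfsg.quadFormOdd m F), g.1 ∈ H := fun g =>
    ⟨1, fun v => by rw [Units.val_one, one_mul]; exact g.2 v v⟩
  let Φ : Cfsg.isometryGroup F (Cfsg.quadFormOdd m F) →* Cfsg.PGO F (Cfsg.quadFormOdd m F) :=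
    (QuotientGroup.mk' ((Cfsg.Geo.scalars _ F).subgroupOf H)).comp
      ((Cfsg.isometryGroup F (Cfsg.quadFormOdd m F)).subtype.codRestrict H hmem)
  let v₀ : Unit ⊕ (Fin m ⊕ Fin m) → F := Pi.single (Sum.inl ()) 1
  have hv₀ : Cfsg.quadFormOdd m F v₀ = 1 := by simp [v₀, Cfsg.quadFormOdd, Pi.single_apply]
  have hQs : ∀ (c : F) v, Cfsg.quadFormOdd m F (c • v) = c ^ 2 * Cfsg.quadFormOdd m F v := fun c v => by
    simp only [Cfsg.quadFormOdd, Pi.smul_apply, smul_eq_mul, mul_add, Finset.mul_sum]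
    congr 1
    · ring
    · exact Finset.sum_congr rfl fun i _ => by ring
  have hbij : Function.Bijective Φ := by
    refine ⟨(injective_iff_map_eq_one Φ).2 fun g hg => ?_, fun x => ?_⟩
    · have hg' := (QuotientGroup.eq_one_iff _).1 hg
      rw [Subgroup.mem_subgroupOf, Cfsg.Geo.mem_scalars_iff] at hg'
      obtain ⟨c, hc⟩ := hg'
      have h := g.2 v₀ v₀
      change g.1.val = (c : F) • 1 at hc
      change Cfsg.quadFormOdd m F (g.1.val *ᵥ v₀) = Cfsg.quadFormOdd m F v₀ at h
      rw [hc, Matrix.smul_mulVec, Matrix.one_mulVec, hQs, hv₀, mul_one, sq] at h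
      exact Subtype.ext (Units.ext (by rw [hc, eq_one_of_sq (c := (c : F)) h, one_smul]; rfl))
    · obtain ⟨⟨g, c, hc⟩, rfl⟩ := QuotientGroup.mk_surjective x
      obtain ⟨r, hr⟩ := exists_sqrt (c : F)
      have hr0 : r ≠ 0 := fun h0 => c.ne_zero (by rw [← hr, h0, zero_pow two_ne_zero])
      have hd : (r⁻¹ • g.val).det ≠ 0 := by
        rw [Matrix.det_smul]; exact mul_ne_zero (pow_ne_zero _ (inv_ne_zero hr0)) (GeneralLinearGroup.det g).ne_zero
      let g' : GL (Unit ⊕ (Fin m ⊕ Fin m)) F := GeneralLinearGroup.mkOfDetNeZero _ hd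
      have hg' : g' ∈ Cfsg.isometryGroup F (Cfsg.quadFormOdd m F) := fun v _ => by
        show Cfsg.quadFormOdd m F ((r⁻¹ • g.val) *ᵥ v) = _
        rw [Matrix.smul_mulVec, hQs, hc, ← hr]
        field_simp
      refine ⟨⟨g', hg'⟩, QuotientGroup.eq.2 ?_⟩
      rw [Subgroup.mem_subgroupOf, Cfsg.Geo.mem_scalars_iff]
      refine ⟨Units.mk0 r hr0, ?_⟩
      show (g'⁻¹).val * g.val = r • (1 : Matrix _ _ F)
      have : g.val = r • g'.val := by
        show g.val = r • (r⁻¹ • g.val)
        rw [smul_smul, mul_inv_cancel₀ hr0, one_smul]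
      rw [this, mul_smul_comm, Units.inv_mul]
  exact ⟨(MulEquiv.ofBijective Φ hbij).symm.trans e⟩

local notation "PSLn" => Matrix.ProjectiveSpecialLinearGroup (Fin n) F

/-- The standard involutory graph automorphism in odd dimension. -/
theorem odd_dim_two [Fintype F] (hn : 3 ≤ n) (hnm : n = 2 * m + 1) :
    ∃ M₀ : GL (Fin n) F, Nonempty (↥((innd : GL (Fin n) F →* MulAut PSLn).range ⊓
        Subgroup.centralizer {grOf M₀}) ≃* Cfsg.PGO F (Cfsg.quadFormOdd m F)) ∧
      ∀ γ : MulAut PSLn, Cfsg.IsGraphAutClassPSL γ → orderOf γ = 2 →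
        Cfsg.IsConjUnder (innd : GL (Fin n) F →* MulAut PSLn).range (grOf M₀) γ := by
  classical
  let e : ιo ≃ Fin n := Fintype.equivFinOfCardEq (by simp; omega)
  let M₀ : GL ιo F := GeneralLinearGroup.mkOfDetNeZero (twoM m F) twoM_det_ne
  refine ⟨gix e M₀, ?_, fun γ h1 h2' => ?_⟩
  · obtain ⟨ep⟩ := pgo_odd_equiv (F := F) m
    let φ : Matrix.symplecticGroup (Fin m) F →* GL (Fin n) F := (gix e).comp (blockHom m F).toHomUnits
    obtain ⟨ec⟩ := centralizer_iso (by omega) (gix e M₀) φ ⊥ (fun g => ⟨1, by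
        show (gix e ((blockHom m F).toHomUnits g)).val.transpose * (gix e M₀).val * (gix e ((blockHom m F).toHomUnits g)).val = _
        rw [gix_val e M₀, ← rix_congr, Units.val_one, one_smul]
        exact congrArg _ (blockHom_isometry g)⟩)
      (fun A c hc => by
        obtain ⟨K, rfl⟩ := gix_surjective e A
        rw [gix_val e M₀, ← rix_congr, ← rix_smul] at hc
        obtain ⟨d, B, hKB, hB⟩ := exists_normalise K c ((Matrix.reindex e e).injective hc)
        obtain ⟨g, hg⟩ := isometry_block hB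
        refine ⟨g, d, smul_iff.2 ?_⟩
        show (gix e K).val = (d : F) • (gix e ((blockHom m F).toHomUnits g)).val
        rw [gix_val, gix_val, ← rix_smul, hKB, hg]
        rfl)
      (fun g => by
        rw [Subgroup.mem_bot]
        constructor
        · rintro rfl; exact ⟨1, by rw [map_one, map_one]⟩
        · rintro ⟨d, hd⟩
          have h := (gix_eq_sc e).1 hd
          change Matrix.fromBlocks 1 0 0 g.1 = _ at h
          have hd1 : (d : F) = 1 := by
            have := congrFun (congrFun h (Sum.inl ())) (Sum.inl ())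
            simpa using this.symm
          rw [hd1, one_smul, ← Matrix.fromBlocks_one, Matrix.fromBlocks_inj] at h
          exact Subtype.ext h.2.2.2)
    exact ⟨(ec.trans QuotientGroup.quotientBot).trans ep.symm⟩
  obtain ⟨M, rfl, c, hc⟩ := (graph_iff hn γ).1 ⟨h1, h2'⟩
  obtain ⟨N, rfl⟩ := gix_surjective e M
  have hneg : -(gix e N).val = (gix e N).val := Matrix.ext fun a b => CharTwo.neg_eq _
  have hsym : (gix e N).val.transpose = (gix e N).val :=
    (scale_iff (val_ne_zero (by omega) (gix e N)) hc).elim id fun h => h.trans hneg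
  rw [gix_val, Matrix.transpose_reindex] at hsym
  obtain ⟨C, hC⟩ := congr_twoM N ((Matrix.reindex e e).injective hsym)
  obtain ⟨k, hk, hk'⟩ := conj_of_congr e (by omega) (M := N) (M' := M₀) (C := C) (c := 1)
    (by rw [hC, Units.val_one, one_smul]; rfl)
  exact ⟨k⁻¹, inv_mem hk, by rw [hk']; group⟩

end OddDim

section EvenDim

variable {m n : ℕ} {F : Type*} [Field F] [CharP F 2]

local notation "PSLn" => Matrix.ProjectiveSpecialLinearGroup (Fin n) F

/-- The non-alternating form in even dimension. -/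
def naM (m : ℕ) (F : Type*) [Field F] : Matrix (Fin m ⊕ Fin m) (Fin m ⊕ Fin m) F :=
  Matrix.J (Fin m) F + Matrix.vecMulVec (s₀ m F) (s₀ m F)

omit [CharP F 2] in
theorem naM_dot (v : Fin m ⊕ Fin m → F) : v ⬝ᵥ (naM m F *ᵥ v) = (s₀ m F ⬝ᵥ v) ^ 2 := by
  rw [naM, Matrix.add_mulVec, dotProduct_add, J_dot_self, zero_add, Matrix.vecMulVec_mulVec, op_smul_eq_smul,
    dotProduct_smul, smul_eq_mul, dotProduct_comm v, sq]

/-- The transvection of the non-alternating form. -/
noncomputable def naT (m : ℕ) (F : Type*) [Field F] [CharP F 2] : Matrix.symplecticGroup (Fin m) F :=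
  ⟨Cfsg.sympTransvection m (Matrix.J (Fin m) F *ᵥ s₀ m F) 1, Symp.sympTransvection_mem _ _⟩

theorem J_sq : Matrix.J (Fin m) F * Matrix.J (Fin m) F = 1 := by
  rw [Matrix.J_squared]; exact Matrix.ext fun a b => CharTwo.neg_eq _

theorem naT_val : (naT m F).1 =
    1 + Matrix.vecMulVec (Matrix.J (Fin m) F *ᵥ s₀ m F) (s₀ m F) := by
  show Cfsg.sympTransvection m _ 1 = _
  rw [Cfsg.sympTransvection, one_smul, Matrix.mulVec_mulVec, J_sq, Matrix.one_mulVec]

theorem J_mul_naT : Matrix.J (Fin m) F * (naT m F).1 = naM m F := by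
  rw [naT_val, naM, Matrix.mul_add, Matrix.mul_one, Matrix.mul_vecMulVec, Matrix.mulVec_mulVec, J_sq,
    Matrix.one_mulVec]

theorem naT_isTransvection (hm : 1 ≤ m) : Cfsg.IsTransvection (naT m F).1 := by
  have e : (naT m F).1 - 1 = Matrix.vecMulVec (Matrix.J (Fin m) F *ᵥ s₀ m F) (s₀ m F) := by
    rw [naT_val, add_sub_cancel_left]
  refine ⟨le_antisymm (by rw [e]; exact Matrix.rank_vecMulVec_le _ _) (Nat.one_le_iff_ne_zero.2 fun h => ?_), ?_⟩
  · rw [e] at h
    have h0 : Matrix.vecMulVec (Matrix.J (Fin m) F *ᵥ s₀ m F) (s₀ m F) = 0 := by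
      rw [Matrix.rank, Submodule.finrank_eq_zero, LinearMap.range_eq_bot] at h
      exact Matrix.ext fun a b => by
        have := congrFun (LinearMap.congr_fun h (Pi.single b 1)) a
        simpa using this
    have h1 : Matrix.J (Fin m) F *ᵥ s₀ m F = 0 := funext fun a => by
      simpa [Matrix.vecMulVec_apply, s₀] using congrFun (congrFun h0 a) (Sum.inl ⟨0, by omega⟩)
    have h2 := congrArg (Matrix.J (Fin m) F *ᵥ ·) h1
    simp only [Matrix.mulVec_mulVec, J_sq, Matrix.one_mulVec, Matrix.mulVec_zero] at h2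
    exact one_ne_zero (congrFun h2 (Sum.inl ⟨0, by omega⟩))
  · rw [e, Matrix.vecMulVec_mul_vecMulVec, J_dot_self]
    simp

variable [Finite F]

/-- The symplectic group inside `GL`. -/
def spHom (m : ℕ) (F : Type*) [Field F] : Matrix.symplecticGroup (Fin m) F →* GL (Fin m ⊕ Fin m) F :=
  (Matrix.symplecticGroup (Fin m) F).subtype.toHomUnits

omit [CharP F 2] [Finite F] in
theorem spHom_eq_sc (hm : 1 ≤ m) {g : Matrix.symplecticGroup (Fin m) F} {d : F} (h : g.1 = d • 1) :
    d * d = 1 := by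
  have h1 := SymplecticGroup.mem_iff'.1 g.2
  rw [h, Matrix.transpose_smul, Matrix.transpose_one, smul_mul_assoc, smul_mul_assoc, mul_smul_comm,
    Matrix.one_mul, Matrix.mul_one, smul_smul] at h1
  have h2 := congrFun (congrFun h1 (Sum.inr ⟨0, by omega⟩)) (Sum.inl ⟨0, by omega⟩)
  simpa [Matrix.J] using h2

theorem naM_isometry_iff {A : Matrix (Fin m ⊕ Fin m) (Fin m ⊕ Fin m) F}
    (h : A.transpose * naM m F * A = naM m F) :
    A ∈ Matrix.symplecticGroup (Fin m) F ∧ A * (naT m F).1 = (naT m F).1 * A := by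
  have hdot : ∀ v, s₀ m F ⬝ᵥ (A *ᵥ v) = s₀ m F ⬝ᵥ v := fun v => sq_inj (by
    rw [← naM_dot, ← naM_dot, ← Matrix.toBilin'_apply', ← toBilin'_congr, h, Matrix.toBilin'_apply'])
  have hs : s₀ m F ᵥ* A = s₀ m F := funext fun i => by
    have := hdot (Pi.single i 1)
    rw [dotProduct_mulVec] at this
    simpa using this
  have hJ : A.transpose * Matrix.J (Fin m) F * A = Matrix.J (Fin m) F := by
    have h' := h
    rw [naM, Matrix.mul_add, Matrix.add_mul, Matrix.mul_vecMulVec, Matrix.vecMulVec_mul, Matrix.mulVec_transpose,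
      hs] at h'
    exact add_right_cancel h'
  have hA : A ∈ Matrix.symplecticGroup (Fin m) F := SymplecticGroup.mem_iff'.2 hJ
  refine ⟨hA, ?_⟩
  have hu : IsUnit (A.transpose * Matrix.J (Fin m) F).det := by
    rw [Matrix.det_mul, Matrix.det_transpose]
    exact (SymplecticGroup.symplectic_det hA).mul (Matrix.isUnit_det_J (Fin m) F)
  refine ((Matrix.isUnit_iff_isUnit_det _).2 hu).mul_left_cancel ?_
  rw [← mul_assoc, hJ, J_mul_naT, ← mul_assoc, mul_assoc A.transpose, J_mul_naT, h]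

/-- The two standard involutory graph automorphisms in even dimension and even characteristic. -/
theorem even_dim_two [Fintype F] (hm : 2 ≤ m) (hnm : n = 2 * m) :
    ∃ (M₁ M₃ : GL (Fin n) F), (∀ i, M₁.val i i = 0) ∧ (∃ i, M₃.val i i ≠ 0) ∧
      M₁.val.transpose = M₁.val ∧ M₃.val.transpose = M₃.val ∧
      Nonempty (↥((innd : GL (Fin n) F →* MulAut PSLn).range ⊓ Subgroup.centralizer {grOf M₁}) ≃*
        ↥(Matrix.symplecticGroup (Fin m) F)) ∧
      Nonempty (↥((innd : GL (Fin n) F →* MulAut PSLn).range ⊓ Subgroup.centralizer {grOf M₃}) ≃*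
        ↥(Subgroup.centralizer ({naT m F} : Set ↥(Matrix.symplecticGroup (Fin m) F)))) ∧
      ¬ Cfsg.IsConjUnder (innd : GL (Fin n) F →* MulAut PSLn).range (grOf M₁) (grOf M₃) ∧
      ∀ γ : MulAut PSLn, Cfsg.IsGraphAutClassPSL γ → orderOf γ = 2 →
        Cfsg.IsConjUnder (innd : GL (Fin n) F →* MulAut PSLn).range (grOf M₁) γ ∨
        Cfsg.IsConjUnder (innd : GL (Fin n) F →* MulAut PSLn).range (grOf M₃) γ := by
  classical
  let e : Fin m ⊕ Fin m ≃ Fin n := Fintype.equivFinOfCardEq (by simp; omega)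
  have hd : (naM m F).det ≠ 0 := by
    rw [← J_mul_naT, Matrix.det_mul, SymplecticGroup.det_eq_one (naT m F).2, mul_one]
    exact (Matrix.isUnit_det_J (Fin m) F).ne_zero
  let N₃ : GL (Fin m ⊕ Fin m) F := GeneralLinearGroup.mkOfDetNeZero (naM m F) hd
  have hJd : ∀ i, Matrix.J (Fin m) F i i = 0 := fun i => by rcases i with i | i <;> simp [Matrix.J]
  have hdiag : ∀ i, (gix e (gJ m F)).val i i = 0 := fun i => by
    rw [gix_val, gJ_val]; exact hJd _
  refine ⟨gix e (gJ m F), gix e N₃, hdiag, ⟨e (Sum.inl ⟨0, by omega⟩), ?_⟩, ?_, ?_, ?_, ?_, ?_,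
    fun γ hγ hγ2 => ?_⟩
  · rw [gix_val]
    show naM m F (e.symm _) (e.symm _) ≠ 0
    rw [Equiv.symm_apply_apply, naM, Matrix.add_apply, hJd, zero_add, Matrix.vecMulVec_apply]
    simp [s₀]
  · rw [gix_val, Matrix.transpose_reindex]; exact congrArg _ J_symm
  · rw [gix_val, Matrix.transpose_reindex]
    refine congrArg _ ?_
    show (naM m F).transpose = naM m F
    rw [naM, Matrix.transpose_add, J_symm, Matrix.transpose_vecMulVec]
  · obtain ⟨ec⟩ := centralizer_iso (by omega) (gix e (gJ m F)) ((gix e).comp (spHom m F)) ⊥ (fun g => ⟨1, by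
        show (gix e (spHom m F g)).val.transpose * (gix e (gJ m F)).val * (gix e (spHom m F g)).val = _
        rw [gix_val e (gJ m F), ← rix_congr, Units.val_one, one_smul]
        exact congrArg _ (SymplecticGroup.mem_iff'.1 g.2)⟩)
      (fun A c hc => by
        obtain ⟨K, rfl⟩ := gix_surjective e A
        rw [gix_val e (gJ m F), ← rix_congr, ← rix_smul] at hc
        obtain ⟨d, B, hKB, hB⟩ := exists_normalise K c ((Matrix.reindex e e).injective hc)
        refine ⟨⟨B.val, SymplecticGroup.mem_iff'.2 hB⟩, d, smul_iff.2 ?_⟩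
        show (gix e K).val = (d : F) • (gix e (spHom m F _)).val
        rw [gix_val, gix_val, ← rix_smul, hKB]
        rfl)
      (fun g => by
        rw [Subgroup.mem_bot]
        refine ⟨fun h => ⟨1, by rw [h, map_one, map_one]⟩, fun ⟨d, hd⟩ => ?_⟩
        have h : g.1 = (d : F) • 1 := (gix_eq_sc e).1 hd
        exact Subtype.ext (by rw [h, eq_one_of_sq (spHom_eq_sc (by omega) h), one_smul]; rfl))
    exact ⟨ec.trans QuotientGroup.quotientBot⟩
  · let H := Subgroup.centralizer ({naT m F} : Set ↥(Matrix.symplecticGroup (Fin m) F))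
    obtain ⟨ec⟩ := centralizer_iso (by omega) (gix e N₃) ((gix e).comp ((spHom m F).comp H.subtype)) ⊥
      (fun g => ⟨1, by
        show (gix e (spHom m F g.1)).val.transpose * (gix e N₃).val * (gix e (spHom m F g.1)).val = _
        rw [gix_val e N₃, ← rix_congr, Units.val_one, one_smul]
        refine congrArg _ ?_
        show g.1.1.transpose * naM m F * g.1.1 = naM m F
        have hcomm := congrArg Subtype.val (Subgroup.mem_centralizer_singleton_iff.1 g.2)
        simp only [Submonoid.coe_mul] at hcomm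
        calc g.1.1.transpose * naM m F * g.1.1
            = g.1.1.transpose * Matrix.J (Fin m) F * ((naT m F).1 * g.1.1) := by
              rw [← J_mul_naT]; simp only [mul_assoc]
          _ = g.1.1.transpose * Matrix.J (Fin m) F * g.1.1 * (naT m F).1 := by rw [← hcomm, ← mul_assoc]
          _ = naM m F := by rw [SymplecticGroup.mem_iff'.1 g.1.2, J_mul_naT]⟩)
      (fun A c hc => by
        obtain ⟨K, rfl⟩ := gix_surjective e A
        rw [gix_val e N₃, ← rix_congr, ← rix_smul] at hc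
        obtain ⟨d, B, hKB, hB⟩ := exists_normalise K c ((Matrix.reindex e e).injective hc)
        obtain ⟨hB1, hB2⟩ := naM_isometry_iff hB
        refine ⟨⟨⟨B.val, hB1⟩, Subgroup.mem_centralizer_singleton_iff.2 (Subtype.ext hB2)⟩, d, smul_iff.2 ?_⟩
        show (gix e K).val = (d : F) • (gix e (spHom m F _)).val
        rw [gix_val, gix_val, ← rix_smul, hKB]
        rfl)
      (fun g => by
        rw [Subgroup.mem_bot]
        refine ⟨fun h => ⟨1, by rw [h, map_one, map_one]⟩, fun ⟨d, hd⟩ => ?_⟩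
        have h : g.1.1 = (d : F) • 1 := (gix_eq_sc e).1 hd
        exact Subtype.ext (Subtype.ext (by rw [h, eq_one_of_sq (spHom_eq_sc (by omega) h), one_smul]; rfl)))
    exact ⟨ec.trans QuotientGroup.quotientBot⟩
  · intro h
    obtain ⟨C, c, hC⟩ := (conj_iff (by omega)).1 h
    have hJdot : ∀ v, v ⬝ᵥ ((gix e (gJ m F)).val *ᵥ v) = 0 :=
      alt_of_diag (by rw [gix_val, Matrix.transpose_reindex]; exact congrArg _ J_symm) hdiag
    have h1 := hJdot (C.val *ᵥ Pi.single (e (Sum.inl ⟨0, by omega⟩)) 1)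
    rw [← Matrix.toBilin'_apply', ← toBilin'_congr, hC, map_smul, LinearMap.smul_apply, LinearMap.smul_apply,
      Matrix.toBilin'_single, gix_val] at h1
    have h2 : naM m F (Sum.inl ⟨0, by omega⟩) (Sum.inl ⟨0, by omega⟩) = 1 := by
      rw [naM, Matrix.add_apply, hJd, zero_add, Matrix.vecMulVec_apply]; simp [s₀]
    change (c : F) • naM m F (e.symm _) (e.symm _) = 0 at h1
    rw [Equiv.symm_apply_apply, h2, smul_eq_mul, mul_one] at h1
    exact c.ne_zero h1
  obtain ⟨M, rfl, c, hc⟩ := (graph_iff (by omega) γ).1 ⟨hγ, hγ2⟩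
  obtain ⟨N, rfl⟩ := gix_surjective e M
  have hneg : -(gix e N).val = (gix e N).val := Matrix.ext fun a b => CharTwo.neg_eq _
  have hsym : (gix e N).val.transpose = (gix e N).val :=
    (scale_iff (val_ne_zero (by omega) (gix e N)) hc).elim id fun h => h.trans hneg
  rw [gix_val, Matrix.transpose_reindex] at hsym
  obtain ⟨C, hC | hC⟩ := congr_even (by omega) N ((Matrix.reindex e e).injective hsym)
  · obtain ⟨k, hk, hk'⟩ := conj_of_congr e (by omega) (M := N) (M' := gJ m F) (C := C) (c := 1)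
      (by rw [hC, Units.val_one, one_smul]; rfl)
    exact Or.inl ⟨k⁻¹, inv_mem hk, by rw [hk']; group⟩
  · obtain ⟨k, hk, hk'⟩ := conj_of_congr e (by omega) (M := N) (M' := N₃) (C := C) (c := 1)
      (by rw [hC, Units.val_one, one_smul]; rfl)
    exact Or.inr ⟨k⁻¹, inv_mem hk, by rw [hk']; group⟩

end EvenDim

end Cfsg.Lib.Linear.AutPSL.GForms
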