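import Cfsg.Agent.Lib.Linear.AutPSL.GraphOdd
import Cfsg.Agent.Lib.Linear.AutPSL.GraphTwoCent
import Cfsg.Agent.Lib.Linear.OrthOrderStd
import Cfsg.Agent.S0245

/-!
# Splitting of the classes of involutory graph automorphisms of `PSL_n(q)`
-/

set_option autoImplicit false

namespace Cfsg.Lib.Linear.AutPSL.GForms

open Matrix Cfsg.Lib.Linear.AutPSL
open Cfsg.Lib.Linear.Descent (sc sc_val sc_comm)
open scoped MatrixGroups

section Count

variable {n : ℕ} {F : Type*} [Field F] [Fintype F]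

local notation "PSLn" => Matrix.ProjectiveSpecialLinearGroup (Fin n) F
set_option quotPrecheck false in
local notation "SC" γ => Cfsg.splitClassCount (innd : GL (Fin n) F →* MulAut PSLn).range
  (Cfsg.Inn PSLn) γ

omit [Fintype F] in
theorem det_sq_eq {A M : GL (Fin n) F} {c : Fˣ} (h : A.val.transpose * M.val * A.val = (c : F) • M.val) :
    A.val.det ^ 2 = (c : F) ^ n := by
  have e := congrArg Matrix.det h
  rw [det_congr, Matrix.det_smul, Fintype.card_fin] at e
  exact mul_right_cancel₀ (GeneralLinearGroup.det M).ne_zero e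

theorem card_units' : Nat.card Fˣ = Fintype.card F - 1 := by
  classical
  rw [Nat.card_eq_fintype_card, Fintype.card_units]

/-- Odd dimension or characteristic two. -/
theorem split_bot (hn : 2 ≤ n) (M : GL (Fin n) F) (h : Odd n ∨ CharP F 2) :
    (SC grOf M) = Nat.gcd n (Fintype.card F - 1) := by
  rw [splitClassCount_det hn (grOf M) ⊥ (fun A hA => ?_)
    (fun b hb => ⟨1, by rw [map_one, one_mul, mul_one], by rw [map_one, Subgroup.mem_bot.1 hb]⟩),
    Subgroup.index_bot, card_units']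
  obtain ⟨c, hc⟩ := (comm_iff hn).1 hA
  have hsq := det_sq_eq hc
  have hd : A.val.det ≠ 0 := (GeneralLinearGroup.det A).ne_zero
  rcases h with ⟨k, hk⟩ | h
  · refine ⟨GeneralLinearGroup.det A / c ^ k, 1, Units.ext ?_⟩
    rw [OneMemClass.coe_one, mul_one, Units.val_pow_eq_pow_val, Units.val_div_eq_div_val, Units.val_pow_eq_pow_val,
      div_pow, eq_div_iff (pow_ne_zero _ (pow_ne_zero _ c.ne_zero))]
    show A.val.det * ((c : F) ^ k) ^ n = A.val.det ^ n
    rw [← pow_mul, mul_comm k n, pow_mul, ← hsq, ← pow_mul, ← pow_succ']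
    exact congrArg (A.val.det ^ ·) hk.symm
  · obtain ⟨r, hr⟩ := exists_sqrt (c : F)
    have hr0 : r ≠ 0 := fun h0 => c.ne_zero (by rw [← hr, h0, zero_pow two_ne_zero])
    refine ⟨Units.mk0 r hr0, 1, Units.ext ?_⟩
    rw [OneMemClass.coe_one, mul_one, Units.val_pow_eq_pow_val, Units.val_mk0]
    exact sq_inj (show A.val.det ^ 2 = (r ^ n) ^ 2 by rw [hsq, ← hr, ← pow_mul, ← pow_mul, mul_comm])

variable {m : ℕ}

/-- The symplectic class. -/
theorem split_skew (hn : 2 ≤ n) (hnm : n = 2 * m) (h2 : (2 : F) ≠ 0) (M : GL (Fin n) F)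
    (hM : M.val.transpose = -M.val) : (SC grOf M) = Nat.gcd m (Fintype.card F - 1) := by
  let e : Fin m ⊕ Fin m ≃ Fin n := Fintype.equivFinOfCardEq (by simp; omega)
  obtain ⟨k, hk, hk'⟩ := conj_skew h2 hn e M hM
  rw [← splitClassCount_conj hk, ← hk', splitClassCount_det hn _ (powMonoidHom m : Fˣ →* Fˣ).range
    (fun A hA => ?_) fun b hb => ?_, IsCyclic.index_powMonoidHom_range, card_units']
  · rw [Nat.gcd_comm (Fintype.card F - 1) m, ← Nat.gcd_assoc, Nat.gcd_eq_right (Dvd.intro_left _ hnm.symm)]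
  · obtain ⟨K, rfl⟩ := gix_surjective e A
    obtain ⟨c, hc⟩ := (comm_iff hn).1 hA
    rw [gix_val e (gJ m F), ← rix_congr, ← rix_smul] at hc
    have hd := det_similitude ((Matrix.reindex e e).injective hc)
    refine ⟨1, ⟨c ^ m, c, rfl⟩, Units.ext ?_⟩
    rw [one_pow, one_mul]
    show (Matrix.reindex e e K.val).det = _
    rw [Matrix.det_reindex_self, hd, Units.val_pow_eq_pow_val]
  · obtain ⟨x, rfl⟩ := hb
    have hS : (Matrix.fromBlocks ((x : F) • (1 : Matrix (Fin m) (Fin m) F)) 0 0 (1 : Matrix (Fin m) (Fin m) F)).det = (x : F) ^ m := by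
      rw [Matrix.det_fromBlocks_zero₂₁, Matrix.det_smul, Matrix.det_one, Fintype.card_fin, mul_one, mul_one]
    let S : GL (Fin m ⊕ Fin m) F := GeneralLinearGroup.mkOfDetNeZero _ (by rw [hS]; exact pow_ne_zero _ x.ne_zero)
    refine ⟨gix e S, (comm_iff hn).2 ⟨x, ?_⟩, Units.ext ?_⟩
    · rw [gix_val e (gJ m F), ← rix_congr, ← rix_smul]
      refine congrArg _ ?_
      show S.val.transpose * Matrix.J (Fin m) F * S.val = _
      rw [show S.val = Matrix.fromBlocks ((x : F) • (1 : Matrix (Fin m) (Fin m) F)) 0 0 (1 : Matrix (Fin m) (Fin m) F) from rfl]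
      rw [Matrix.J, Matrix.fromBlocks_transpose, Matrix.fromBlocks_multiply, Matrix.fromBlocks_multiply, gJ_val,
        Matrix.J, Matrix.fromBlocks_smul]
      simp
    · show (Matrix.reindex e e (Matrix.fromBlocks ((x : F) • (1 : Matrix (Fin m) (Fin m) F)) 0 0 (1 : Matrix (Fin m) (Fin m) F))).det = _
      rw [Matrix.det_reindex_self, hS]
      rfl

/-- The orthogonal classes. -/
theorem split_symm (hn : 2 ≤ n) (hnm : n = 2 * m) (hodd : Odd (Fintype.card F)) (M : GL (Fin n) F)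
    (hM : M.val.transpose = M.val) : (SC grOf M) = Nat.gcd n (Fintype.card F - 1) / 2 := by
  classical
  have h2 := two_ne_zero' hodd
  have hd : M.val.det ≠ 0 := (GeneralLinearGroup.det M).ne_zero
  have hidx : ((powMonoidHom n : Fˣ →* Fˣ).range.comap (powMonoidHom 2)).index * 2 =
      Nat.gcd n (Fintype.card F - 1) := by
    have hle : (powMonoidHom n : Fˣ →* Fˣ).range ≤ (powMonoidHom 2 : Fˣ →* Fˣ).range := by
      rintro _ ⟨x, rfl⟩
      exact ⟨x ^ m, by rw [powMonoidHom_apply, powMonoidHom_apply, ← pow_mul, hnm, mul_comm]⟩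
    have h := Subgroup.relIndex_mul_index hle
    rw [← Subgroup.index_comap, IsCyclic.index_powMonoidHom_range, IsCyclic.index_powMonoidHom_range, card_units',
      show Nat.gcd (Fintype.card F - 1) 2 = 2 from Nat.gcd_eq_right (by
        obtain ⟨k, hk⟩ := hodd; exact ⟨k, by omega⟩), Nat.gcd_comm] at h
    exact h
  rw [splitClassCount_det hn (grOf M) ((powMonoidHom n : Fˣ →* Fˣ).range.comap (powMonoidHom 2))
    (fun A hA => ?_) fun b hb => ?_]
  · rw [← hidx, Nat.mul_div_cancel _ two_pos]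
    exact Nat.gcd_eq_right ((Dvd.intro 2 hidx).trans (Nat.gcd_dvd_left _ _))
  · obtain ⟨c, hc⟩ := (comm_iff hn).1 hA
    exact ⟨1, ⟨GeneralLinearGroup.det A, c, Units.ext (det_sq_eq hc).symm⟩, by rw [one_pow, one_mul]⟩
  · obtain ⟨x, hx⟩ := hb
    have hx' : (x : F) ^ n = (b : F) ^ 2 := congrArg Units.val hx
    obtain ⟨C, hC⟩ := congr_of_det h2 (M' := (x : F) • M.val) hM (by rw [Matrix.transpose_smul, hM]) hd
      (by rw [Matrix.det_smul]; exact mul_ne_zero (pow_ne_zero _ x.ne_zero) hd) (by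
        rw [Matrix.det_smul, Fintype.card_fin]
        refine ⟨(b : F) * M.val.det, ?_⟩
        rw [hx']; ring)
    have hCd : C.val.det = b ∨ C.val.det = -b := sq_eq_sq_iff_eq_or_eq_neg.1 (by rw [det_sq_eq hC, hx'])
    rcases hCd with h | h
    · exact ⟨C, (comm_iff hn).2 ⟨x, hC⟩, Units.ext h⟩
    -- multiply by a reflection
    obtain ⟨α, hα⟩ := exists_nonsquare' hodd
    obtain ⟨C₁, δ, -, hC₁⟩ := exists_congr_diag h2 hα hM hd ⟨0, by omega⟩
    let d : Fin n → F := Function.update 1 ⟨0, by omega⟩ (-1)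
    have hE : (Matrix.diagonal d).det = -1 := by
      rw [Matrix.det_diagonal, Finset.prod_update_of_mem (Finset.mem_univ _)]; simp
    let E : GL (Fin n) F := GeneralLinearGroup.mkOfDetNeZero (Matrix.diagonal d)
      (by rw [hE]; exact neg_ne_zero.2 one_ne_zero)
    have hEE : E.val.transpose * (C₁.val.transpose * M.val * C₁.val) * E.val = C₁.val.transpose * M.val * C₁.val := by
      rw [hC₁]
      show (Matrix.diagonal d).transpose * _ * Matrix.diagonal d = _
      rw [Matrix.diagonal_transpose, Matrix.diagonal_mul_diagonal, Matrix.diagonal_mul_diagonal]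
      congr 1
      funext i
      rcases eq_or_ne i ⟨0, by omega⟩ with rfl | hi
      · simp [d]
      · simp [d, Function.update_of_ne hi]
    have hR : (C₁ * E * C₁⁻¹).val.transpose * M.val * (C₁ * E * C₁⁻¹).val = M.val := by
      have h1 : C₁.val * (C₁⁻¹).val = 1 := Units.mul_inv _
      calc (C₁ * E * C₁⁻¹).val.transpose * M.val * (C₁ * E * C₁⁻¹).val
          = (C₁⁻¹).val.transpose * (E.val.transpose * (C₁.val.transpose * M.val * C₁.val) * E.val) * (C₁⁻¹).val := by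
            simp only [Units.val_mul, Matrix.transpose_mul, mul_assoc]
        _ = (C₁.val * (C₁⁻¹).val).transpose * M.val * (C₁.val * (C₁⁻¹).val) := by
            rw [hEE, Matrix.transpose_mul]; simp only [mul_assoc]
        _ = M.val := by rw [h1, Matrix.transpose_one, one_mul, mul_one]
    refine ⟨C * (C₁ * E * C₁⁻¹), (comm_iff hn).2 ⟨x, ?_⟩, Units.ext ?_⟩
    · rw [Units.val_mul, Matrix.transpose_mul]
      calc _ = (C₁ * E * C₁⁻¹).val.transpose * (C.val.transpose * M.val * C.val) * (C₁ * E * C₁⁻¹).val := by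
            simp only [mul_assoc]
        _ = _ := by rw [hC, mul_smul_comm, smul_mul_assoc, hR]
    · show (C * (C₁ * E * C₁⁻¹)).val.det = _
      rw [Units.val_mul, Matrix.det_mul, Units.val_mul, Units.val_mul, Matrix.det_units_conj, h]
      show -(b : F) * (Matrix.diagonal d).det = b
      rw [hE]; ring

end Count

section Orders

variable {F : Type*} [Field F] [Fintype F]

theorem scalars_card (ι : Type) [Fintype ι] [DecidableEq ι] [Nonempty ι] :
    Nat.card ↥(Cfsg.Geo.scalars ι F) = Nat.card Fˣ := by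
  refine (Nat.card_congr (MonoidHom.ofInjective (f := Units.map (Matrix.scalar ι : F →+* Matrix ι ι F).toMonoidHom)
    ?_).toEquiv).symm
  exact Units.map_injective fun _ _ h => Matrix.scalar_inj.1 h

/-- `|PGO(Q)|` divides `|O(Q)|`. -/
theorem card_PGO_dvd {ι : Type} [Fintype ι] [DecidableEq ι] [Nonempty ι] (Q : (ι → F) → F)
    (hQ : ∀ (c : F) v, Q (c • v) = c ^ 2 * Q v) {v₀ : ι → F} (hv₀ : Q v₀ ≠ 0) :
    Nat.card (Cfsg.PGO F Q) ∣ Nat.card ↥(Cfsg.isometryGroup F Q) := by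
  classical
  let H := Cfsg.Geo.quadSimilarityGroup (F := F) Q
  have hsim : ∀ (g : ↥H) v, Q (g.1.val *ᵥ v) = Q (g.1.val *ᵥ v₀) / Q v₀ * Q v := by
    rintro ⟨g, c, hc⟩ v
    rw [hc, hc, mul_div_assoc, div_self hv₀, mul_one]
  have hne : ∀ g : ↥H, Q (g.1.val *ᵥ v₀) / Q v₀ ≠ 0 := by
    rintro ⟨g, c, hc⟩
    rw [hc, mul_div_assoc, div_self hv₀, mul_one]
    exact c.ne_zero
  let μ : ↥H →* Fˣ := MonoidHom.mk' (fun g => Units.mk0 _ (hne g)) fun g h => Units.ext (by
    show Q ((g.1 * h.1).val *ᵥ v₀) / Q v₀ = Q (g.1.val *ᵥ v₀) / Q v₀ * (Q (h.1.val *ᵥ v₀) / Q v₀)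
    rw [Units.val_mul, ← Matrix.mulVec_mulVec, hsim g, mul_div_assoc])
  have hker : Nat.card μ.ker = Nat.card ↥(Cfsg.isometryGroup F Q) := by
    refine Nat.card_congr
      { toFun := fun g => ⟨g.1.1, fun v _ => by
          show Q (g.1.1.val *ᵥ v) = Q v
          have := congrArg Units.val g.2
          rw [hsim g.1]
          change Q (g.1.1.val *ᵥ v₀) / Q v₀ = 1 at this
          rw [this, one_mul]⟩
        invFun := fun g => ⟨⟨g.1, 1, fun v => by rw [Units.val_one, one_mul]; exact g.2 v v⟩, Units.ext (by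
          show Q (g.1.val *ᵥ v₀) / Q v₀ = 1
          rw [show Q (g.1.val *ᵥ v₀) = Q v₀ from g.2 v₀ v₀, div_self hv₀])⟩
        left_inv := fun g => rfl
        right_inv := fun g => rfl }
  have hle : Cfsg.Geo.scalars ι F ≤ H := by
    intro g hg
    obtain ⟨c, hc⟩ := (Cfsg.Geo.mem_scalars_iff g).1 hg
    exact ⟨c * c, fun v => by rw [hc, Matrix.smul_mulVec, Matrix.one_mulVec, hQ, Units.val_mul, sq]⟩
  have hK : Nat.card ↥((Cfsg.Geo.scalars ι F).subgroupOf H) = Nat.card Fˣ := by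
    rw [Nat.card_congr (Subgroup.subgroupOfEquivOfLe hle).toEquiv, scalars_card]
  obtain ⟨k, hk⟩ := Subgroup.card_subgroup_dvd_card μ.range
  have h1 := Subgroup.card_eq_card_quotient_mul_card_subgroup ((Cfsg.Geo.scalars ι F).subgroupOf H)
  have h3 := Subgroup.card_eq_card_quotient_mul_card_subgroup μ.ker
  rw [h3, hK, Nat.card_congr (QuotientGroup.quotientKerEquivRange μ).toEquiv, hker, hk] at h1
  refine ⟨k, Nat.eq_of_mul_eq_mul_left (Nat.card_pos (α := μ.range)) ?_⟩
  show Nat.card μ.range * _ = _ * (Nat.card (↥H ⧸ (Cfsg.Geo.scalars ι F).subgroupOf H) * k)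
  rw [h1]; ring

/-- `q^(m²)` divides `|PGSp_2m(q)|`. -/
theorem dvd_card_PGSp (m : ℕ) : Fintype.card F ^ (m ^ 2) ∣ Nat.card (Cfsg.PGSp m F) := by
  classical
  let j : Matrix.symplecticGroup (Fin m) F →* ↥(Cfsg.GSp m F) := (spHom m F).codRestrict _ fun g =>
    (mem_GSp_iff' _).2 ⟨1, by rw [Units.val_one, one_smul]; exact SymplecticGroup.mem_iff'.1 g.2⟩
  have hj : Function.Injective j := fun a b h =>
    Subtype.ext (congrArg (fun g : ↥(Cfsg.GSp m F) => g.1.val) h)
  have h1 : Fintype.card F ^ (m ^ 2) ∣ Nat.card ↥(Cfsg.GSp m F) :=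
    (Dvd.intro _ (Cfsg.Agent.S0245.result rfl m).symm).trans (Subgroup.card_dvd_of_injective j hj)
  rw [Subgroup.card_eq_card_quotient_mul_card_subgroup ((Cfsg.Geo.scalars _ F).subgroupOf (Cfsg.GSp m F))] at h1
  refine Nat.Coprime.dvd_of_dvd_mul_right (Nat.Coprime.pow_left _ ?_) h1
  refine Nat.Coprime.coprime_dvd_right (?_ : _ ∣ Fintype.card F - 1)
    ((Nat.coprime_self_sub_right Fintype.card_pos).2 (Nat.coprime_one_right _))
  rw [← card_units']
  refine (Subgroup.card_comap_dvd_of_injective _ _ (Subgroup.subtype_injective _)).trans ?_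
  exact Subgroup.card_range_dvd _

theorem not_iso {ι : Type} [Fintype ι] [DecidableEq ι] [Nonempty ι] {m : ℕ} (hm : 1 ≤ m) (Q : (ι → F) → F)
    (hQ : ∀ (c : F) v, Q (c • v) = c ^ 2 * Q v) {v₀ : ι → F} (hv₀ : Q v₀ ≠ 0) (R : ℤ)
    (hcard : (Nat.card ↥(Cfsg.isometryGroup F Q) : ℤ) = (Nat.card F : ℤ) ^ (m * (m - 1)) * R)
    (hR : (R : F) ≠ 0) : ¬ Nonempty (Cfsg.PGSp m F ≃* Cfsg.PGO F Q) := by
  rintro ⟨e⟩
  have h := (dvd_card_PGSp (F := F) m).trans (Nat.card_congr e.toEquiv ▸ card_PGO_dvd Q hQ hv₀)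
  have h' := Int.natCast_dvd_natCast.2 h
  rw [hcard, Nat.card_eq_fintype_card, Nat.cast_pow,
    show m ^ 2 = m * (m - 1) + m by obtain ⟨k, rfl⟩ : ∃ k, m = k + 1 := ⟨m - 1, by omega⟩; simp; ring, pow_add] at h'
  have h'' := Int.dvd_of_mul_dvd_mul_left (a := _) (pow_ne_zero _ (by exact_mod_cast Fintype.card_ne_zero)) h'
  obtain ⟨t, ht⟩ := h''
  refine hR ?_
  rw [ht]
  push_cast
  rw [FiniteField.cast_card_eq_zero, zero_pow (by omega), zero_mul]

theorem not_iso_plus (hodd : Odd (Fintype.card F)) {m : ℕ} (hm : 1 ≤ m) :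
    ¬ Nonempty (Cfsg.PGSp m F ≃* Cfsg.PGO F (Cfsg.quadFormPlus m F)) := by
  haveI : Nonempty (Fin m ⊕ Fin m) := ⟨Sum.inl ⟨0, hm⟩⟩
  have h2 := two_ne_zero' hodd
  refine not_iso hm _ (fun c v => ?_) (v₀ := Pi.single (Sum.inl ⟨0, hm⟩) 1 + Pi.single (Sum.inr ⟨0, hm⟩) 1) ?_ _ (Orth.counts_plus (F := F) m).2 ?_
  · simp only [Cfsg.quadFormPlus, Pi.smul_apply, smul_eq_mul, Finset.mul_sum]
    exact Finset.sum_congr rfl fun i _ => by ring
  · simp [Cfsg.quadFormPlus, Pi.single_apply]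
  · push_cast
    rw [Finset.prod_ne_zero_iff]
    intro i _
    rw [Nat.card_eq_fintype_card, FiniteField.cast_card_eq_zero, zero_pow (Nat.succ_ne_zero i), zero_sub]
    refine mul_ne_zero (neg_ne_zero.2 one_ne_zero) ?_
    rcases Nat.eq_zero_or_pos i with rfl | hi
    · rw [show 0 + 0 = 0 from rfl, pow_zero, one_add_one_eq_two]; exact h2
    · rw [zero_pow (by omega), zero_add]; exact one_ne_zero

theorem not_iso_minus (hodd : Odd (Fintype.card F)) {m : ℕ} (hm : 1 ≤ m) {a b : F}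
    (hab : ∀ z₁ z₂ : F, z₁ ^ 2 + a * z₁ * z₂ + b * z₂ ^ 2 = 0 → z₁ = 0 ∧ z₂ = 0) :
    ¬ Nonempty (Cfsg.PGSp m F ≃* Cfsg.PGO F (Cfsg.quadFormMinus (m - 1) F a b)) := by
  obtain ⟨k, rfl⟩ : ∃ k, m = k + 1 := ⟨m - 1, by omega⟩
  rw [Nat.add_sub_cancel]
  have h2 := two_ne_zero' hodd
  refine not_iso hm _ (fun c v => ?_) (v₀ := Pi.single (Sum.inr 0) 1) ?_ _ ((Orth.counts_minus (F := F) k hab).2.2.trans (by
    rw [show (k + 1) * (k + 1 - 1) = 2 * k + k * (k - 1) by cases k <;> simp; ring, mul_assoc])) ?_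
  · simp only [Cfsg.quadFormMinus, Pi.smul_apply, smul_eq_mul, mul_add, Finset.mul_sum]
    congr 1
    · exact Finset.sum_congr rfl fun i _ => by ring
    · ring
  · simp [Cfsg.quadFormMinus]
  · push_cast
    refine mul_ne_zero (Finset.prod_ne_zero_iff.2 fun i _ => ?_) ?_
    · rw [Nat.card_eq_fintype_card, FiniteField.cast_card_eq_zero, zero_pow (Nat.succ_ne_zero i), zero_sub,
        zero_pow (by omega), zero_add, mul_one]
      exact neg_ne_zero.2 one_ne_zero
    · rw [Nat.card_eq_fintype_card, FiniteField.cast_card_eq_zero, zero_add, one_mul]; exact h2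

end Orders

end Cfsg.Lib.Linear.AutPSL.GForms
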