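import Cfsg.Agent.Lib.Linear.AutPSL.GraphForms
import Cfsg.Agent.Lib.Linear.SympInvolution
import Cfsg.Agent.S0304

/-!
# Graph automorphisms of `PSL_n(2^f)`: symmetric bilinear forms in characteristic two
-/

set_option autoImplicit false

namespace Cfsg.Lib.Linear.AutPSL.GForms

open Matrix Module Cfsg.Lib.Linear.AutPSL
open Cfsg.Lib.Linear.Descent (sc sc_val sc_comm)
open scoped MatrixGroups

section Sqrt

variable {ι : Type} [Fintype ι] [DecidableEq ι] {F : Type*} [Field F] [CharP F 2]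

omit [DecidableEq ι] in
/-- In characteristic two a symmetric matrix with zero diagonal is alternating. -/
theorem alt_of_diag {M : Matrix ι ι F} (hs : M.transpose = M) (hd : ∀ i, M i i = 0) (v : ι → F) :
    v ⬝ᵥ (M *ᵥ v) = 0 := by
  classical
  simp only [dotProduct, Matrix.mulVec, Finset.mul_sum]
  rw [← Finset.sum_product']
  refine Finset.sum_involution (fun p _ => (p.2, p.1)) ?_ ?_ (fun p _ => Finset.mem_univ _) (fun p _ => rfl)
  · intro p _
    have hsym : M p.2 p.1 = M p.1 p.2 := congrFun (congrFun hs p.1) p.2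
    show v p.1 * (M p.1 p.2 * v p.2) + v p.2 * (M p.2 p.1 * v p.1) = 0
    rw [hsym]
    linear_combination (v p.1 * v p.2 * M p.1 p.2) * (CharTwo.two_eq_zero : (2 : F) = 0)
  · intro p _ hne h
    have h' : p.2 = p.1 := congrArg Prod.fst h
    apply hne
    show v p.1 * (M p.1 p.2 * v p.2) = 0
    rw [h', hd, zero_mul, mul_zero]

variable [Finite F]

omit [Fintype ι] [DecidableEq ι] in
theorem exists_sqrt (x : F) : ∃ r : F, r ^ 2 = x := by
  obtain ⟨r, hr⟩ := FiniteField.isSquare_of_char_two (ringChar.eq F 2) x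
  exact ⟨r, by rw [hr, sq]⟩

omit [Fintype ι] [DecidableEq ι] in
theorem sq_inj {x y : F} (h : x ^ 2 = y ^ 2) : x = y := by
  have : (x + y) ^ 2 = 0 := by rw [CharTwo.add_sq, h, CharTwo.add_self_eq_zero]
  exact CharTwo.add_eq_zero.1 (pow_eq_zero_iff two_ne_zero |>.1 this)

omit [DecidableEq ι] in
/-- The square root of the quadratic values of a symmetric matrix is linear. -/
theorem exists_root_vec {M : Matrix ι ι F} (hs : M.transpose = M) :
    ∃ s : ι → F, (M + Matrix.vecMulVec s s).transpose = M + Matrix.vecMulVec s s ∧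
      (∀ i, (M + Matrix.vecMulVec s s) i i = 0) ∧ ∀ v, v ⬝ᵥ (M *ᵥ v) = (s ⬝ᵥ v) ^ 2 := by
  choose s hs' using fun i => exists_sqrt (M i i)
  have h1 : (M + Matrix.vecMulVec s s).transpose = M + Matrix.vecMulVec s s := by
    rw [Matrix.transpose_add, hs, Matrix.transpose_vecMulVec]
  have h2 : ∀ i, (M + Matrix.vecMulVec s s) i i = 0 := fun i => by
    rw [Matrix.add_apply, Matrix.vecMulVec_apply, ← sq, hs', CharTwo.add_self_eq_zero]
  refine ⟨s, h1, h2, fun v => ?_⟩
  have h := alt_of_diag h1 h2 v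
  rw [Matrix.add_mulVec, dotProduct_add, Matrix.vecMulVec_mulVec, op_smul_eq_smul, dotProduct_smul,
    smul_eq_mul, dotProduct_comm v s, ← sq] at h
  exact CharTwo.add_eq_zero.1 h

/-- The vector representing the square root functional. -/
theorem exists_radical {M : Matrix ι ι F} (hd : M.det ≠ 0) {s : ι → F}
    (hq : ∀ v, v ⬝ᵥ (M *ᵥ v) = (s ⬝ᵥ v) ^ 2) :
    ∃ j : ι → F, M *ᵥ j = s ∧ (s ⬝ᵥ j = 0 ∨ s ⬝ᵥ j = 1) := by
  refine ⟨M⁻¹ *ᵥ s, ?_, ?_⟩
  · rw [Matrix.mulVec_mulVec, Matrix.mul_nonsing_inv _ (isUnit_iff_ne_zero.2 hd), Matrix.one_mulVec]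
  · have h := hq (M⁻¹ *ᵥ s)
    rw [Matrix.mulVec_mulVec, Matrix.mul_nonsing_inv _ (isUnit_iff_ne_zero.2 hd), Matrix.one_mulVec,
      dotProduct_comm] at h
    rcases eq_or_ne (s ⬝ᵥ (M⁻¹ *ᵥ s)) 0 with h0 | h0
    · exact Or.inl h0
    · exact Or.inr (mul_left_cancel₀ h0 (by rw [mul_one, ← sq]; exact h.symm))

theorem mulVec_eq_zero {M : Matrix ι ι F} (hd : M.det ≠ 0) {v : ι → F} (h : M *ᵥ v = 0) : v = 0 := by
  have := congrArg (M⁻¹ *ᵥ ·) h
  simpa [Matrix.mulVec_mulVec, Matrix.nonsing_inv_mul _ (isUnit_iff_ne_zero.2 hd)] using this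

omit [DecidableEq ι] in
theorem symm_dot {M : Matrix ι ι F} (hs : M.transpose = M) (u v : ι → F) :
    u ⬝ᵥ (M *ᵥ v) = v ⬝ᵥ (M *ᵥ u) := by
  rw [dotProduct_mulVec, ← Matrix.mulVec_transpose, hs, dotProduct_comm]

/-- The kernel of the alternating companion. -/
theorem companion_ker {M : Matrix ι ι F} (hd : M.det ≠ 0) {s j : ι → F} (hj : M *ᵥ j = s) {w : ι → F}
    (h : (M + Matrix.vecMulVec s s) *ᵥ w = 0) : w = (s ⬝ᵥ w) • j := by
  rw [Matrix.add_mulVec, Matrix.vecMulVec_mulVec, op_smul_eq_smul] at h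
  have h' : M *ᵥ w = M *ᵥ ((s ⬝ᵥ w) • j) := by
    rw [Matrix.mulVec_smul, hj]
    funext i
    exact CharTwo.add_eq_zero.1 (congrFun h i)
  exact sub_eq_zero.1 (mulVec_eq_zero hd (by rw [Matrix.mulVec_sub, h', sub_self]))

/-- Away from the radical vector the form is alternating of even dimension. -/
theorem kernel_split {M : Matrix ι ι F} (hs : M.transpose = M) (hd : M.det ≠ 0) {s j : ι → F}
    (hq : ∀ v, v ⬝ᵥ (M *ᵥ v) = (s ⬝ᵥ v) ^ 2) (hj : M *ᵥ j = s) (h1 : s ⬝ᵥ j = 1) :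
    ∃ W : Submodule F (ι → F), (∀ w, w ∈ W ↔ s ⬝ᵥ w = 0) ∧ finrank F W + 1 = Fintype.card ι ∧
      Even (finrank F W) ∧ (∀ w ∈ W, w ⬝ᵥ (M *ᵥ w) = 0) ∧
      ∀ w ∈ W, (∀ x ∈ W, w ⬝ᵥ (M *ᵥ x) = 0) → w = 0 := by
  let φ : (ι → F) →ₗ[F] F :=
    { toFun := fun v => s ⬝ᵥ v
      map_add' := fun u v => dotProduct_add _ _ _
      map_smul' := fun c v => dotProduct_smul _ _ _ }
  have hW : ∀ w, w ∈ LinearMap.ker φ ↔ s ⬝ᵥ w = 0 := fun w => LinearMap.mem_ker
  have halt : ∀ w ∈ LinearMap.ker φ, w ⬝ᵥ (M *ᵥ w) = 0 := fun w hw => by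
    rw [hq, (hW w).1 hw, zero_pow two_ne_zero]
  have hnd : ∀ w ∈ LinearMap.ker φ, (∀ x ∈ LinearMap.ker φ, w ⬝ᵥ (M *ᵥ x) = 0) → w = 0 := by
    intro w hw h
    refine mulVec_eq_zero hd (funext fun i => ?_)
    have h0 : ∀ v, v ⬝ᵥ (M *ᵥ w) = 0 := by
      intro v
      have hv : v - (s ⬝ᵥ v) • j ∈ LinearMap.ker φ := (hW _).2 (by
        rw [dotProduct_sub, dotProduct_smul, h1, smul_eq_mul, mul_one, sub_self])
      have e := h _ hv
      rw [symm_dot hs, sub_dotProduct, smul_dotProduct, sub_eq_zero] at e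
      rw [e, symm_dot hs j w, hj, dotProduct_comm w s, (hW w).1 hw, smul_zero]
    simpa using h0 (Pi.single i 1)
  have hsurj : Function.Surjective φ := fun c => ⟨c • j, by
    show s ⬝ᵥ (c • j) = c
    rw [dotProduct_smul, h1, smul_eq_mul, mul_one]⟩
  refine ⟨LinearMap.ker φ, hW, ?_, ?_, halt, hnd⟩
  · have := LinearMap.finrank_range_add_finrank_ker φ
    rw [LinearMap.range_eq_top.2 hsurj, finrank_top, Module.finrank_self, Module.finrank_pi] at this
    omega
  · refine SympInv.even_finrank (Matrix.toBilin' M) _ _ le_rfl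
      (fun w hw => by rw [Matrix.toBilin'_apply']; exact halt w hw) fun w hw hw0 => ?_
    by_contra hc
    push_neg at hc
    exact hw0 (hnd w hw fun x hx => by rw [← Matrix.toBilin'_apply']; exact hc x hx)

end Sqrt

section Forms

variable {m : ℕ} {F : Type*} [Field F] [CharP F 2] [Finite F]

/-- The symmetric nondegenerate form in odd dimension. -/
def twoM (m : ℕ) (F : Type*) [Field F] : Matrix (Unit ⊕ (Fin m ⊕ Fin m)) (Unit ⊕ (Fin m ⊕ Fin m)) F :=
  Matrix.fromBlocks 1 0 0 (Matrix.J (Fin m) F)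

omit [CharP F 2] [Finite F] in
theorem J_dot_self (v : Fin m ⊕ Fin m → F) : v ⬝ᵥ (Matrix.J (Fin m) F *ᵥ v) = 0 := by
  rw [← Matrix.toBilin'_apply']; exact Symp.spB_isAlt m F v

omit [Finite F] in
theorem J_symm : (Matrix.J (Fin m) F).transpose = Matrix.J (Fin m) F := by
  rw [Matrix.J_transpose]
  exact Matrix.ext fun a b => CharTwo.neg_eq _

omit [Finite F] in
theorem twoM_dot (v : Unit ⊕ (Fin m ⊕ Fin m) → F) : v ⬝ᵥ (twoM m F *ᵥ v) = v (Sum.inl ()) ^ 2 := by
  have h := J_dot_self (F := F) (v ∘ Sum.inr)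
  rw [twoM, Matrix.fromBlocks_mulVec]
  simp only [dotProduct, Function.comp_apply] at h
  simp only [dotProduct, Fintype.sum_sum_type (α₁ := Unit), Sum.elim_inl, Sum.elim_inr, Matrix.zero_mulVec,
    zero_add, add_zero, Matrix.one_mulVec, Function.comp_apply, Fintype.univ_ofSubsingleton, Finset.sum_singleton]
  rw [h, add_zero, sq]

omit [CharP F 2] [Finite F] in
theorem twoM_det_ne : (twoM m F).det ≠ 0 := by
  rw [twoM, Matrix.det_fromBlocks_zero₂₁, Matrix.det_one, one_mul]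
  exact (Matrix.isUnit_det_J (Fin m) F).ne_zero

/-- Symmetric matrices of odd size in characteristic two are congruent. -/
theorem congr_twoM (M : GL (Unit ⊕ (Fin m ⊕ Fin m)) F) (hs : M.val.transpose = M.val) :
    ∃ C : GL (Unit ⊕ (Fin m ⊕ Fin m)) F, C.val.transpose * M.val * C.val = twoM m F := by
  classical
  have hd : M.val.det ≠ 0 := (GeneralLinearGroup.det M).ne_zero
  obtain ⟨s, hNs, hNd, hq⟩ := exists_root_vec hs
  obtain ⟨j, hj, hj01⟩ := exists_radical hd hq
  have h1 : s ⬝ᵥ j = 1 := by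
    refine hj01.resolve_left fun h0 => ?_
    have heven : Even (finrank F (⊤ : Submodule F (Unit ⊕ (Fin m ⊕ Fin m) → F))) := by
      refine SympInv.even_finrank (Matrix.toBilin' (M.val + Matrix.vecMulVec s s)) _ ⊤ le_rfl
        (fun w _ => by rw [Matrix.toBilin'_apply']; exact alt_of_diag hNs hNd w) fun w _ hw => ?_
      by_contra hc
      push_neg at hc
      have hNw : (M.val + Matrix.vecMulVec s s) *ᵥ w = 0 := funext fun i => by
        have := hc (Pi.single i 1) trivial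
        rw [Matrix.toBilin'_apply', symm_dot hNs] at this
        simpa using this
      have hw' := companion_ker hd hj hNw
      have hc' : s ⬝ᵥ w = 0 := by rw [hw', dotProduct_smul, h0, smul_zero]
      exact hw (by rw [hw', hc', zero_smul])
    rw [finrank_top, Module.finrank_pi] at heven
    simp [Fintype.card_sum, parity_simps] at heven
  obtain ⟨W, hW, hWd, -, halt, hnd⟩ := kernel_split hs hd hq hj h1
  let L : (Fin m ⊕ Fin m → F) ≃ₗ[F] W := LinearEquiv.ofFinrankEq _ _ (by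
    rw [Module.finrank_pi]; simp at hWd ⊢; omega)
  let ω : LinearMap.BilinForm F (Fin m ⊕ Fin m → F) :=
    (Matrix.toBilin' M.val).compl₁₂ (W.subtype ∘ₗ L.toLinearMap) (W.subtype ∘ₗ L.toLinearMap)
  have hωe : ∀ u v, ω u v = (L u : Unit ⊕ (Fin m ⊕ Fin m) → F) ⬝ᵥ (M.val *ᵥ (L v : Unit ⊕ (Fin m ⊕ Fin m) → F)) :=
    fun u v => by
      show Matrix.toBilin' M.val _ _ = _
      rw [Matrix.toBilin'_apply']; rfl
  have hnz : ∀ u, (∀ v, ω u v = 0) → u = 0 := fun u h => by
    refine L.injective (Subtype.ext ?_)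
    rw [map_zero]
    refine hnd _ (L u).2 fun x hx => ?_
    obtain ⟨v, hv⟩ := L.surjective ⟨x, hx⟩
    rw [← show (L v : Unit ⊕ (Fin m ⊕ Fin m) → F) = x from congrArg Subtype.val hv, ← hωe]
    exact h v
  obtain ⟨C', hC'⟩ := AutPSp.exists_std_coords (ω := ω)
    (fun u => by rw [hωe]; exact halt _ (L u).2)
    ⟨hnz, fun v hv => hnz v fun u => by rw [hωe, symm_dot hs, ← hωe]; exact hv u⟩
  let col : Unit ⊕ (Fin m ⊕ Fin m) → (Unit ⊕ (Fin m ⊕ Fin m) → F) :=
    Sum.elim (fun _ => j) fun a => (L (C'.val *ᵥ Pi.single a 1) : Unit ⊕ (Fin m ⊕ Fin m) → F)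
  have hC : (Matrix.of fun r a => col a r).transpose * M.val * (Matrix.of fun r a => col a r) = twoM m F := by
    ext a b
    rw [entry_congr, Matrix.toBilin'_apply']
    show col a ⬝ᵥ (M.val *ᵥ col b) = _
    rcases a with ⟨⟩ | a <;> rcases b with ⟨⟩ | b <;>
      simp only [col, twoM, Sum.elim_inl, Sum.elim_inr, Matrix.fromBlocks_apply₁₁, Matrix.fromBlocks_apply₁₂,
        Matrix.fromBlocks_apply₂₁, Matrix.fromBlocks_apply₂₂, Matrix.one_apply_eq, Matrix.zero_apply]
    · rw [hj, dotProduct_comm, h1]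
    · rw [symm_dot hs, hj, dotProduct_comm]; exact (hW _).1 (L _).2
    · rw [hj, dotProduct_comm]; exact (hW _).1 (L _).2
    · rw [← hωe, hC', Symp.spB, Matrix.toBilin'_single]
  have hCd : (Matrix.of fun r a => col a r).det ≠ 0 := fun h => twoM_det_ne (F := F) (m := m) (by
    rw [← hC, det_congr, h]; ring)
  exact ⟨GeneralLinearGroup.mkOfDetNeZero _ hCd, hC⟩

/-- A nonzero vector. -/
def s₀ (m : ℕ) (F : Type*) [Field F] : Fin m ⊕ Fin m → F := fun _ => 1

/-- Symmetric matrices of even size in characteristic two fall into two congruence classes. -/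
theorem congr_even (hm : 1 ≤ m) (M : GL (Fin m ⊕ Fin m) F) (hs : M.val.transpose = M.val) :
    ∃ C : GL (Fin m ⊕ Fin m) F, C.val.transpose * M.val * C.val = Matrix.J (Fin m) F ∨
      C.val.transpose * M.val * C.val = Matrix.J (Fin m) F + Matrix.vecMulVec (s₀ m F) (s₀ m F) := by
  classical
  have hd : M.val.det ≠ 0 := (GeneralLinearGroup.det M).ne_zero
  obtain ⟨s, hNs, hNd, hq⟩ := exists_root_vec hs
  obtain ⟨j, hj, hj01⟩ := exists_radical hd hq
  rcases eq_or_ne s 0 with rfl | hs0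
  · obtain ⟨C, hC⟩ := congr_J M fun v => by
      rw [Matrix.toBilin'_apply', hq, zero_dotProduct, zero_pow two_ne_zero]
    exact ⟨C, Or.inl hC⟩
  have h0 : s ⬝ᵥ j = 0 := by
    refine hj01.resolve_right fun h1 => ?_
    obtain ⟨W, -, hWd, ⟨k, hk⟩, -, -⟩ := kernel_split hs hd hq hj h1
    rw [Fintype.card_sum, Fintype.card_fin, hk] at hWd
    omega
  have hN : (M.val + Matrix.vecMulVec s s).det ≠ 0 := fun h => by
    obtain ⟨w, hw, hNw⟩ := Matrix.exists_mulVec_eq_zero_iff.2 h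
    have hw' := companion_ker hd hj hNw
    have hc' : s ⬝ᵥ w = 0 := by rw [hw', dotProduct_smul, h0, smul_zero]
    exact hw (by rw [hw', hc', zero_smul])
  obtain ⟨C, hC⟩ := congr_J (GeneralLinearGroup.mkOfDetNeZero _ hN) fun v => by
    rw [Matrix.toBilin'_apply']; exact alt_of_diag hNs hNd v
  replace hC : C.val.transpose * (M.val + Matrix.vecMulVec s s) * C.val = Matrix.J (Fin m) F := hC
  obtain ⟨t, ht⟩ : ∃ t, t = C.val.transpose *ᵥ s := ⟨_, rfl⟩
  have hCM : C.val.transpose * M.val * C.val = Matrix.J (Fin m) F + Matrix.vecMulVec t t := by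
    rw [Matrix.mul_add, Matrix.add_mul, Matrix.mul_vecMulVec, Matrix.vecMulVec_mul, ← ht,
      ← Matrix.mulVec_transpose, ← ht] at hC
    rw [← hC, add_assoc]
    ext a b
    simp [CharTwo.add_self_eq_zero]
  have ht0 : t ≠ 0 := fun h => hs0 (by
    have h' := congrArg ((C⁻¹).val.transpose *ᵥ ·) (ht.symm.trans h)
    simpa [Matrix.mulVec_mulVec, ← Matrix.transpose_mul] using h')
  have hs00 : s₀ m F ≠ 0 := fun h => one_ne_zero (congrFun h (Sum.inl ⟨0, by omega⟩))
  obtain ⟨g, hg, he⟩ := Symp.exists_iso_vec (Symp.spB_nondegenerate m F) (Symp.spB_isAlt m F) ht0 hs00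
  let D : Matrix.symplecticGroup (Fin m) F := Symp.spEquiv.symm ⟨g, Symp.T_le_iso (Symp.spB_isAlt m F) ⊥ hg⟩
  have hDv : D.1 *ᵥ t = s₀ m F := by
    have h := Symp.spEquiv_apply D t
    simp only [D, MulEquiv.apply_symm_apply] at h
    rw [← he, h]
  have hDt : D.1.transpose ∈ Matrix.symplecticGroup (Fin m) F := SymplecticGroup.transpose_mem D.2
  have hdd : D.1.transpose.det ≠ 0 := (SymplecticGroup.symplectic_det hDt).ne_zero
  refine ⟨C * GeneralLinearGroup.mkOfDetNeZero _ hdd, Or.inr ?_⟩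
  calc (C * GeneralLinearGroup.mkOfDetNeZero _ hdd).val.transpose * M.val *
        (C * GeneralLinearGroup.mkOfDetNeZero _ hdd).val
      = D.1.transpose.transpose * (C.val.transpose * M.val * C.val) * D.1.transpose := by
        rw [Units.val_mul, Matrix.transpose_mul]; simp only [mul_assoc]; rfl
    _ = _ := by
        rw [hCM, Matrix.mul_add, Matrix.add_mul, SymplecticGroup.mem_iff'.1 hDt, Matrix.transpose_transpose,
          Matrix.mul_vecMulVec, Matrix.vecMulVec_mul, hDv, Matrix.vecMul_transpose, hDv]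

end Forms

end Cfsg.Lib.Linear.AutPSL.GForms
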