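import Cfsg.Agent.Lib.Linear.AutPSL.Stab

/-!
# The automorphism group of `PSL_n(q)`

Every automorphism of `PSL_n(q)`, `n ≥ 2`, is `innd g * fld σ`, possibly followed by inverse transpose.
-/

set_option autoImplicit false

namespace Cfsg.Lib.Linear.AutPSL

open Matrix Cfsg.Lib.Linear
open scoped MatrixGroups LinearAlgebra.Projectivization commutatorElement

variable {n : ℕ} {F : Type*} [Field F]

local notation "SLn" => Matrix.SpecialLinearGroup (Fin n) F
local notation "PSLn" => Matrix.ProjectiveSpecialLinearGroup (Fin n) F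

/-- Preimage in `SL` of the image of a subgroup under an automorphism of `PSL`. -/
def img (β : MulAut PSLn) (K : Subgroup SLn) : Subgroup SLn :=
  ((K.map (QuotientGroup.mk' _)).map β.toMonoidHom).comap (QuotientGroup.mk' _)

theorem mem_img {β : MulAut PSLn} {K : Subgroup SLn} {x : SLn} :
    x ∈ img β K ↔ ∃ y ∈ K, β (QuotientGroup.mk y) = QuotientGroup.mk x := by
  simp [img, Subgroup.mem_map]

theorem center_le_img (β : MulAut PSLn) (K : Subgroup SLn) : Subgroup.center SLn ≤ img β K := fun z hz =>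
  mem_img.2 ⟨1, one_mem _, by rw [QuotientGroup.mk_one, map_one, eq_comm, QuotientGroup.eq_one_iff]; exact hz⟩

theorem img_mul (β γ : MulAut PSLn) (K : Subgroup SLn) : img (β * γ) K = img β (img γ K) := by
  ext x
  simp only [mem_img, MulAut.mul_apply]
  constructor
  · rintro ⟨y, hy, h⟩
    obtain ⟨z, hz⟩ := QuotientGroup.mk_surjective (γ (QuotientGroup.mk y))
    exact ⟨z, ⟨y, hy, hz.symm⟩, by rw [hz]; exact h⟩
  · rintro ⟨z, ⟨y, hy, hz⟩, h⟩
    exact ⟨y, hy, by rw [hz]; exact h⟩

theorem img_psl (e : MulAut SLn) {K : Subgroup SLn} (hK : Subgroup.center SLn ≤ K) :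
    img (psl e) K = K.map e.toMonoidHom := by
  ext x
  simp only [mem_img, psl_mk, Subgroup.mem_map, MulEquiv.coe_toMonoidHom]
  refine ⟨?_, fun ⟨y, hy, h⟩ => ⟨y, hy, by rw [h]⟩⟩
  rintro ⟨y, hy, h⟩
  refine ⟨e.symm x, ?_, e.apply_symm_apply x⟩
  have h1 : (e y)⁻¹ * x ∈ Subgroup.center SLn := (QuotientGroup.eq (s := Subgroup.center SLn)).1 h
  rw [← map_center e] at h1
  obtain ⟨z, hz, hzx⟩ := h1
  have : e.symm x = y * z := e.injective (by
    rw [e.apply_symm_apply, map_mul, show e z = (e y)⁻¹ * x from hzx, mul_inv_cancel_left])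
  rw [this]
  exact mul_mem hy (hK hz)

theorem img_innd (g : GL (Fin n) F) (v : Fin n → F) : img (innd g) (St v) = St (g.val *ᵥ v) := by
  rw [show innd g = psl (cnjHom g) from rfl, img_psl _ (center_le_St v)]
  ext x
  refine ⟨?_, fun hx => ⟨(cnjHom g).symm x, ?_, (cnjHom g).apply_symm_apply x⟩⟩
  · rintro ⟨y, ⟨c, hc⟩, rfl⟩
    refine ⟨c, ?_⟩
    show (g.val * y.1 * (g⁻¹).val) *ᵥ (g.val *ᵥ v) = _
    rw [Matrix.mulVec_mulVec, Matrix.mul_assoc _ (g⁻¹).val, Units.inv_mul, Matrix.mul_one, ← Matrix.mulVec_mulVec,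
      hc, Matrix.mulVec_smul]
  · obtain ⟨c, hc⟩ := hx
    refine ⟨c, ?_⟩
    show ((g⁻¹).val * x.1 * g.val) *ᵥ v = _
    rw [← Matrix.mulVec_mulVec, ← Matrix.mulVec_mulVec, hc, Matrix.mulVec_smul, Matrix.mulVec_mulVec, Units.inv_mul,
      Matrix.one_mulVec]

theorem img_gr (φ : Fin n → F) : img gr (Sf φ) = St φ := by
  rw [show (gr : MulAut PSLn) = psl tinv from rfl, img_psl]
  · ext x
    refine ⟨?_, fun hx => ⟨tinv x, mem_Sf.2 (by rwa [tinv_tinv]), tinv_tinv x⟩⟩
    rintro ⟨y, hy, rfl⟩
    exact mem_Sf.1 hy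
  · intro z hz
    rw [← map_center (tinv : MulAut SLn)] at hz
    obtain ⟨y, hy, rfl⟩ := hz
    exact mem_Sf.2 (by simpa [tinv_tinv] using center_le_St φ hy)

theorem St_eq_St {v w : Fin n → F} (hv : v ≠ 0) (h : St v = St w) : ∃ c : F, w = c • v := by
  by_contra hc
  have hwv : w ∉ Submodule.span F {v} ⊔ Submodule.span F {v} := by
    rw [sup_idem, Submodule.mem_span_singleton]
    rintro ⟨c, hcv⟩
    exact hc ⟨c, hcv.symm⟩
  obtain ⟨g, hg, hgv, hgw, -⟩ := exists_transvection_mem_SL _ w v hwv
  let g' : SLn := ⟨g.val, by simpa using congrArg Units.val hg⟩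
  have hmem : g' ∈ St v :=
    ⟨1, by rw [one_smul]; exact hgv v (Submodule.mem_span_singleton_self v)⟩
  rw [h] at hmem
  obtain ⟨d, hd⟩ := hmem
  change g.val *ᵥ w = d • w at hd
  rw [hgw] at hd
  have hv' : v = (d - 1) • w := by rw [sub_smul, one_smul, ← hd, add_sub_cancel_left]
  have hd1 : d - 1 ≠ 0 := fun h0 => hv (by rw [hv', h0, zero_smul])
  exact hc ⟨(d - 1)⁻¹, by rw [hv', smul_smul, inv_mul_cancel₀ hd1, one_smul]⟩

theorem exists_mulVec {v w : Fin n → F} (hv : v ≠ 0) (hw : w ≠ 0) :
    ∃ (x : SLn) (c : F), c ≠ 0 ∧ x.1 *ᵥ v = c • w := by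
  by_cases h : v ∈ Submodule.span F {w - v}
  · obtain ⟨c, hc⟩ := Submodule.mem_span_singleton.1 h
    have hc0 : c ≠ 0 := fun h0 => hv (by rw [← hc, h0, zero_smul])
    have hc1 : 1 + c ≠ 0 := fun h0 => hw (by
      have h1 : (1 + c) • v = c • w := by
        conv_rhs => rw [← sub_add_cancel w v, smul_add, hc]
        rw [add_smul, one_smul]
      rw [h0, zero_smul] at h1
      exact (smul_eq_zero.1 h1.symm).resolve_left hc0)
    refine ⟨1, (1 + c)⁻¹ * c, mul_ne_zero (inv_ne_zero hc1) hc0, ?_⟩
    rw [Matrix.SpecialLinearGroup.coe_one, Matrix.one_mulVec, ← smul_smul]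
    conv_rhs => rw [← sub_add_cancel w v, smul_add, hc]
    rw [show v + c • v = (1 + c) • v by rw [add_smul, one_smul], smul_smul, inv_mul_cancel₀ hc1, one_smul]
  · obtain ⟨g, hg⟩ := exists_move h
    exact ⟨g, 1, one_ne_zero, by rw [hg, one_smul]⟩

theorem St_smul {c : F} (hc : c ≠ 0) (v : Fin n → F) : St (c • v) = St v := by
  ext g
  refine exists_congr fun d => ?_
  rw [Matrix.mulVec_smul, smul_comm d c]
  exact ⟨fun h => smul_right_injective _ hc h, fun h => by rw [h]⟩

/-- Point stabilisers to point stabilisers, under conjugation. -/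
theorem img_St_mulVec {β : MulAut PSLn} {v w : Fin n → F} (hR : img β (St v) = St w) (x x' : SLn)
    (hx : β (QuotientGroup.mk x) = QuotientGroup.mk x') : img β (St (x.1 *ᵥ v)) = St (x'.1 *ᵥ w) := by
  have e : β * innd (SpecialLinearGroup.toGL x) = innd (SpecialLinearGroup.toGL x') * β := by
    rw [← conj_mk, ← conj_mk, ← hx]
    exact MulEquiv.ext fun y => by simp [MulAut.mul_apply, map_mul, map_inv]
  have h1 := img_innd (SpecialLinearGroup.toGL x) v
  have h2 := img_innd (SpecialLinearGroup.toGL x') w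
  rw [show x.1 *ᵥ v = (SpecialLinearGroup.toGL x).val *ᵥ v from rfl,
    show x'.1 *ᵥ w = (SpecialLinearGroup.toGL x').val *ᵥ w from rfl, ← h1, ← img_mul, e, img_mul, hR, h2]

variable [Fintype F]

theorem index_img (β : MulAut PSLn) {K : Subgroup SLn} (hK : Subgroup.center SLn ≤ K) :
    (img β K).index = K.index := by
  rw [img, Subgroup.index_comap_of_surjective _ (QuotientGroup.mk'_surjective _),
    Subgroup.index_map_of_bijective β.bijective, Subgroup.index_map_eq _ (QuotientGroup.mk'_surjective _)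
      (by rwa [QuotientGroup.ker_mk'])]

variable {p : ℕ} [Fact p.Prime] [CharP F p]

theorem center_pow_inj {z : SLn} (hz : z ∈ Subgroup.center SLn) (h : z ^ p = 1) : z = 1 := by
  obtain ⟨r, -, hr⟩ := Matrix.SpecialLinearGroup.mem_center_iff.1 hz
  rcases Nat.eq_zero_or_pos n with h0 | h0
  · subst h0; exact Subtype.ext (Matrix.ext fun i => i.elim0)
  have h1' := congrArg Subtype.val h
  rw [Matrix.SpecialLinearGroup.coe_pow, ← hr, ← map_pow, Matrix.SpecialLinearGroup.coe_one] at h1'
  have h1 : r ^ p = 1 := by simpa [Matrix.scalar_apply] using congrFun (congrFun h1' ⟨0, h0⟩) ⟨0, h0⟩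
  have h2 : (r - 1) ^ p = 0 := by rw [sub_pow_char, h1, one_pow, sub_self]
  have h3 : r = 1 := sub_eq_zero.1 ((pow_eq_zero_iff (Fact.out : p.Prime).ne_zero).1 h2)
  exact Subtype.ext (by rw [← hr, h3, map_one]; rfl)

/-- A `p`-subgroup normalised by the stabiliser of a point consists of transvections with that centre. -/
theorem le_Tc (hn : 2 ≤ n) {w : Fin n → F} (hw : w ≠ 0) (K : Subgroup SLn) (hK : IsPGroup p K) (hle : K ≤ St w)
    (hnorm : ∀ g ∈ St w, ∀ k ∈ K, g * k * g⁻¹ ∈ K) : K ≤ Tc w := by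
  have hfix : ∀ k ∈ K, k.1 *ᵥ w = w := by
    intro k hk
    obtain ⟨c, hc⟩ := hle hk
    obtain ⟨m, hm⟩ := hK ⟨k, hk⟩
    have hpow : ∀ i : ℕ, (k ^ i).1 *ᵥ w = c ^ i • w := by
      intro i
      induction i with
      | zero => simp
      | succ i ih => rw [pow_succ, Matrix.SpecialLinearGroup.coe_mul, ← Matrix.mulVec_mulVec, hc, Matrix.mulVec_smul,
          ih, smul_smul, pow_succ']
    have h1 : k ^ p ^ m = 1 := congrArg Subtype.val hm
    have h2 := hpow (p ^ m)
    rw [h1, Matrix.SpecialLinearGroup.coe_one, Matrix.one_mulVec] at h2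
    have h3 : c ^ p ^ m = 1 := by
      by_contra h0
      exact hw ((smul_eq_zero.1 (show (c ^ p ^ m - 1) • w = 0 by rw [sub_smul, one_smul, ← h2, sub_self])).resolve_left
        (sub_ne_zero.2 h0))
    have h4 : (c - 1) ^ p ^ m = 0 := by rw [sub_pow_char_pow, h3, one_pow, sub_self]
    rw [hc, sub_eq_zero.1 ((pow_eq_zero_iff (pow_ne_zero _ (Fact.out : p.Prime).ne_zero)).1 h4), one_smul]
  let W : Submodule F (Fin n → F) := Submodule.span F {w}
  have hKW : ∀ k : K, W ≤ W.comap (Matrix.mulVecLin (k : SLn).1) := by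
    intro k x hx
    obtain ⟨c, rfl⟩ := Submodule.mem_span_singleton.1 hx
    rw [Submodule.mem_comap, Matrix.mulVecLin_apply, Matrix.mulVec_smul, hfix _ k.2]
    exact hx
  let U : Submodule F (Fin n → F) :=
    { carrier := {x | ∀ k ∈ K, k.1 *ᵥ x - x ∈ W}
      zero_mem' := fun k _ => by simp
      add_mem' := fun {x y} hx hy k hk => by
        rw [Matrix.mulVec_add, add_sub_add_comm]; exact add_mem (hx k hk) (hy k hk)
      smul_mem' := fun c x hx k hk => by
        rw [Matrix.mulVec_smul, ← smul_sub]; exact W.smul_mem c (hx k hk) }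
  have hUinv : ∀ g ∈ St w, ∀ x ∈ U, g.1 *ᵥ x ∈ U := by
    intro g hg x hx k hk
    obtain ⟨c, hc⟩ := hg
    have h1 := hx _ (hnorm g⁻¹ (inv_mem ⟨c, hc⟩) k hk)
    rw [inv_inv] at h1
    obtain ⟨d, hd⟩ := Submodule.mem_span_singleton.1 h1
    refine Submodule.mem_span_singleton.2 ⟨d * c, ?_⟩
    have h2 := congrArg (g.1 *ᵥ ·) hd
    simp only [Matrix.mulVec_smul, hc, Matrix.mulVec_sub, smul_smul, Matrix.mulVec_mulVec,
      ← Matrix.SpecialLinearGroup.coe_mul, ← mul_assoc, mul_inv_cancel, one_mul] at h2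
    rw [h2, Matrix.SpecialLinearGroup.coe_mul, Matrix.mulVec_mulVec]
  obtain ⟨x, hxU, hxW⟩ : ∃ x ∈ U, x ∉ W := by
    let act : K → ((Fin n → F) ⧸ W) → ((Fin n → F) ⧸ W) := fun k =>
      Submodule.mapQ W W (Matrix.mulVecLin (k : SLn).1) (hKW k)
    letI : MulAction K ((Fin n → F) ⧸ W) :=
      { smul := act
        one_smul := fun y => by
          obtain ⟨y, rfl⟩ := Submodule.mkQ_surjective W y
          show act 1 _ = _
          simp [act]
        mul_smul := fun a b y => by
          obtain ⟨y, rfl⟩ := Submodule.mkQ_surjective W y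
          show act (a * b) _ = act a (act b _)
          simp [act, Matrix.mulVec_mulVec] }
    have hW : W ≠ ⊤ := fun h => by
      have h1 : Module.finrank F W = 1 := finrank_span_singleton hw
      rw [h, finrank_top, Module.finrank_fintype_fun_eq_card, Fintype.card_fin] at h1
      omega
    have : Nontrivial ((Fin n → F) ⧸ W) := Submodule.Quotient.nontrivial_iff.2 hW
    have hdvd : p ∣ Nat.card ((Fin n → F) ⧸ W) := by
      obtain ⟨d, -, hd⟩ := FiniteField.card F p
      rw [Module.natCard_eq_pow_finrank (K := F), Nat.card_eq_fintype_card, hd, ← pow_mul]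
      exact dvd_pow_self p (Nat.mul_ne_zero d.pos.ne' Module.finrank_pos.ne')
    have h0 : (0 : (Fin n → F) ⧸ W) ∈ MulAction.fixedPoints K ((Fin n → F) ⧸ W) := fun k => map_zero _
    obtain ⟨y, hy, hy0⟩ := hK.exists_fixed_point_of_prime_dvd_card_of_fixed_point _ hdvd h0
    obtain ⟨x, rfl⟩ := Submodule.mkQ_surjective W y
    refine ⟨x, fun k hk => ?_, fun hx => hy0 ((Submodule.Quotient.mk_eq_zero W).2 hx).symm⟩
    exact (Submodule.Quotient.eq W).1 (hy ⟨k, hk⟩)
  have hall : ∀ y, y ∈ U := by
    intro y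
    by_cases hy : y ∈ W ⊔ Submodule.span F {x}
    · obtain ⟨a, ha, b, hb, rfl⟩ := Submodule.mem_sup.1 hy
      obtain ⟨c, rfl⟩ := Submodule.mem_span_singleton.1 hb
      refine U.add_mem (fun k hk => ?_) (U.smul_mem c hxU)
      obtain ⟨d, rfl⟩ := Submodule.mem_span_singleton.1 ha
      rw [Matrix.mulVec_smul, hfix k hk, sub_self]
      exact W.zero_mem
    · have hx : x ∉ W ⊔ Submodule.span F {y - x} := by
        intro h
        obtain ⟨a, ha, b, hb, hab⟩ := Submodule.mem_sup.1 h
        obtain ⟨c, rfl⟩ := Submodule.mem_span_singleton.1 hb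
        rcases eq_or_ne c 0 with rfl | hc
        · exact hxW (by rw [← hab, zero_smul, add_zero]; exact ha)
        · refine hy (Submodule.mem_sup.2 ⟨-(c⁻¹ • a), neg_mem (W.smul_mem _ ha), (1 + c⁻¹) • x,
            Submodule.smul_mem _ _ (Submodule.mem_span_singleton_self x), ?_⟩)
          have h2 := congrArg (c⁻¹ • ·) hab
          simp only [smul_add, smul_smul, inv_mul_cancel₀ hc, one_smul] at h2
          rw [add_smul, one_smul, ← h2]
          abel
      obtain ⟨g, hg, hgW, hgx, -⟩ := exists_transvection_mem_SL W x (y - x) hx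
      have := hUinv ⟨g.val, by simpa using congrArg Units.val hg⟩
        ⟨1, by rw [one_smul]; exact hgW w (Submodule.mem_span_singleton_self w)⟩ x hxU
      simpa [hgx] using this
  intro k hk
  have hcoef : ∀ j, ∃ c : F, c • w = k.1 *ᵥ Pi.single j 1 - Pi.single j 1 := fun j =>
    Submodule.mem_span_singleton.1 (hall _ k hk)
  choose a ha using hcoef
  have he : k.1 = tvMat w a := by
    refine Matrix.ext fun i j => ?_
    have := congrFun (ha j) i
    simp [Matrix.mulVec_single_one, Pi.single_apply] at this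
    simp [tvMat, Matrix.vecMulVec_apply, Matrix.one_apply]
    linear_combination this.symm
  refine ⟨a, ?_, he⟩
  have := hfix k hk
  rw [he, tvMat_mulVec, add_eq_left, smul_eq_zero] at this
  exact this.resolve_right hw

include p

/-- Transvection groups go to transvection groups. -/
theorem exists_mem_Tc (hn : 2 ≤ n) {β : MulAut PSLn} {v w : Fin n → F} (hw : w ≠ 0) (hR : img β (St v) = St w)
    {t : SLn} (ht : t ∈ Tc v) : ∃ t' ∈ Tc w, β (QuotientGroup.mk t) = QuotientGroup.mk t' := by
  have hpow : ∀ x ∈ img β (Tc v), x ^ p ∈ Subgroup.center SLn := by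
    intro x hx
    obtain ⟨y, ⟨a, ha, hy⟩, hyx⟩ := mem_img.1 hx
    have hy1 : y ^ p = 1 := by
      have hm : ∀ m : ℕ, (y ^ m).1 = tvMat v ((m : F) • a) := by
        intro m
        induction m with
        | zero => simp [TVec.tvMat_zero_right]
        | succ m ih =>
          rw [pow_succ, Matrix.SpecialLinearGroup.coe_mul, ih, hy,
            TVec.tvMat_mul_right _ _ _ (by rw [smul_dotProduct, ha, smul_zero]), Nat.cast_succ, add_smul, one_smul]
      exact Subtype.ext (by rw [hm, CharP.cast_eq_zero, zero_smul, TVec.tvMat_zero_right]; rfl)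
    have : ((QuotientGroup.mk x : PSLn)) ^ p = 1 := by
      rw [← hyx, ← map_pow, ← QuotientGroup.mk_pow, hy1, QuotientGroup.mk_one, map_one]
    rwa [← QuotientGroup.mk_pow, QuotientGroup.eq_one_iff] at this
  have hcomm : ∀ x ∈ img β (Tc v), ∀ y ∈ img β (Tc v), x ^ p = 1 → y ^ p = 1 → x * y = y * x := by
    intro x hx y hy hxp hyp
    obtain ⟨a, ha, hax⟩ := mem_img.1 hx
    obtain ⟨b, hb, hby⟩ := mem_img.1 hy
    have hab : a * b = b * a := by
      obtain ⟨a', ha', hat⟩ := ha
      obtain ⟨b', hb', hbt⟩ := hb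
      exact Subtype.ext (by
        rw [Matrix.SpecialLinearGroup.coe_mul, Matrix.SpecialLinearGroup.coe_mul, hat, hbt,
          TVec.tvMat_mul_right _ _ _ ha', TVec.tvMat_mul_right _ _ _ hb', add_comm])
    have hc : x * y * x⁻¹ * y⁻¹ ∈ Subgroup.center SLn := by
      rw [← QuotientGroup.eq_one_iff]
      simp only [QuotientGroup.mk_mul, QuotientGroup.mk_inv, ← hax, ← hby, ← map_inv, ← map_mul]
      rw [← QuotientGroup.mk_inv, ← QuotientGroup.mk_inv, ← QuotientGroup.mk_mul, ← QuotientGroup.mk_mul,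
        ← QuotientGroup.mk_mul, show a * b * a⁻¹ * b⁻¹ = 1 by rw [hab]; group, QuotientGroup.mk_one, map_one]
    have h1 : (x * y * x⁻¹ * y⁻¹) ^ p = 1 := by
      have e : x * y * x⁻¹ = (x * y * x⁻¹ * y⁻¹) * y := by group
      have e2 : (x * y * x⁻¹) ^ p = 1 := by rw [conj_pow, hyp, mul_one, mul_inv_cancel]
      have e3 : Commute (x * y * x⁻¹ * y⁻¹) y := Subgroup.mem_center_iff.1 hc y |>.symm
      rw [e, e3.mul_pow, hyp, mul_one] at e2
      exact e2
    have h2 := center_pow_inj hc h1
    rw [mul_inv_eq_one, mul_inv_eq_iff_eq_mul] at h2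
    exact h2
  let K : Subgroup SLn :=
    { carrier := {x | x ∈ img β (Tc v) ∧ x ^ p = 1}
      one_mem' := ⟨one_mem _, one_pow _⟩
      mul_mem' := fun {x y} hx hy => ⟨mul_mem hx.1 hy.1, by
        rw [(show Commute x y from hcomm x hx.1 y hy.1 hx.2 hy.2).mul_pow, hx.2, hy.2, one_mul]⟩
      inv_mem' := fun {x} hx => ⟨inv_mem hx.1, by rw [inv_pow, hx.2, inv_one]⟩ }
  have hK : IsPGroup p K := fun ⟨x, hx⟩ => ⟨1, Subtype.ext (by rw [pow_one]; exact hx.2)⟩
  have hle : K ≤ St w := fun x hx => by
    rw [← hR]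
    obtain ⟨y, hy, hyx⟩ := mem_img.1 hx.1
    exact mem_img.2 ⟨y, Tc_le_St v hy, hyx⟩
  have hnorm : ∀ g ∈ St w, ∀ k ∈ K, g * k * g⁻¹ ∈ K := by
    intro g hg k hk
    rw [← hR] at hg
    obtain ⟨a, ha, hag⟩ := mem_img.1 hg
    obtain ⟨b, hb, hbk⟩ := mem_img.1 hk.1
    exact ⟨mem_img.2 ⟨a * b * a⁻¹, conj_mem_Tc ha hb, by
      simp only [QuotientGroup.mk_mul, QuotientGroup.mk_inv, map_mul, map_inv, hag, hbk]⟩,
      by rw [conj_pow, hk.2, mul_one, mul_inv_cancel]⟩
  obtain ⟨x, hx⟩ := QuotientGroup.mk_surjective (β (QuotientGroup.mk t))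
  have hxi : x ∈ img β (Tc v) := mem_img.2 ⟨t, ht, hx.symm⟩
  have hinj : Function.Injective fun z : Subgroup.center SLn => z ^ p := by
    intro z z' h
    refine Subtype.ext (inv_mul_eq_one.1 (center_pow_inj (p := p) (mul_mem (inv_mem z.2) z'.2) ?_))
    have h' : (z : SLn) ^ p = (z' : SLn) ^ p := congrArg Subtype.val h
    rw [(show Commute (z : SLn)⁻¹ z' from Subgroup.mem_center_iff.1 z'.2 _).mul_pow, inv_pow, h', inv_mul_cancel]
  obtain ⟨⟨z, hz⟩, hzp⟩ := (Finite.injective_iff_surjective.1 hinj) ⟨x ^ p, hpow x hxi⟩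
  have hzp' : z ^ p = x ^ p := congrArg Subtype.val hzp
  have hmk : (QuotientGroup.mk (x * z⁻¹) : PSLn) = QuotientGroup.mk x := by
    rw [QuotientGroup.mk_mul, (QuotientGroup.eq_one_iff z⁻¹).2 (inv_mem hz), mul_one]
  refine ⟨x * z⁻¹, le_Tc hn hw K hK hle hnorm ⟨mem_img.2 ⟨t, ht, by rw [hmk, hx]⟩, ?_⟩, by rw [hmk, hx]⟩
  rw [(show Commute x z⁻¹ from Subgroup.mem_center_iff.1 (inv_mem hz) x).mul_pow, inv_pow, hzp', mul_inv_cancel]

/-- The standard basis vector. -/
abbrev bv (i : Fin n) : Fin n → F := Pi.single i 1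

omit [Fintype F] in
theorem bv_ne_zero (i : Fin n) : (bv i : Fin n → F) ≠ 0 := Pi.single_ne_zero_iff.2 one_ne_zero

omit [Fintype F] in
theorem tvMat_mem_St {i k : Fin n} {a : Fin n → F} {h : a ⬝ᵥ bv i = 0} (hm : tvS (bv i) a h ∈ St (bv k))
    (hki : k ≠ i) : a k = 0 := by
  obtain ⟨c, hc⟩ := hm
  change tvMat (bv i) a *ᵥ bv k = _ at hc
  rw [tvMat_mulVec] at hc
  simpa [hki, hki.symm, Pi.single_apply] using congrFun hc i

omit [Fintype F] in
theorem transvection_mem {i j : Fin n} (hij : i ≠ j) (c : F) :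
    SpecialLinearGroup.transvection hij c ∈ Tc (bv i : Fin n → F) ∧
      ∀ k, k ≠ j → SpecialLinearGroup.transvection hij c ∈ St (bv k : Fin n → F) := by
  refine ⟨⟨c • bv j, by simp [hij.symm, hij], ?_⟩, fun k hk => ⟨1, ?_⟩⟩
  · rw [coe_transvection, tvMat]
    congr 1
    ext x y
    simp [Matrix.vecMulVec_apply, Matrix.single_apply, Pi.single_apply, eq_comm]
    split_ifs <;> simp_all
  · rw [coe_transvection, Matrix.add_mulVec, Matrix.one_mulVec, one_smul, add_eq_left]
    ext x
    simp [Matrix.mulVec_single_one, Matrix.single_apply, hk.symm]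

/-- An automorphism fixing the coordinate frame maps each root group to itself. -/
theorem exists_root_map (hn : 2 ≤ n) {β : MulAut PSLn} (hβ : ∀ k, img β (St (bv k)) = St (bv k))
    {i j : Fin n} (hij : i ≠ j) (t : F) : ∃ t' : F, β (QuotientGroup.mk (SpecialLinearGroup.transvection hij t)) =
      QuotientGroup.mk (SpecialLinearGroup.transvection hij t') := by
  obtain ⟨h1, h2⟩ := transvection_mem hij t
  obtain ⟨s, hs, hst⟩ := exists_mem_Tc (p := p) hn (bv_ne_zero i) (hβ i) h1
  obtain ⟨a, ha, has⟩ := hs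
  have hk : ∀ k, k ≠ j → a k = 0 := by
    intro k hk
    rcases eq_or_ne k i with rfl | hki
    · simpa using ha
    · have hm : s ∈ St (bv k) := by rw [← hβ k]; exact mem_img.2 ⟨_, h2 k hk, hst⟩
      exact tvMat_mem_St (h := ha) (show tvS (bv i) a ha ∈ St (bv k) from (Subtype.ext has : s = tvS (bv i) a ha) ▸ hm) hki
  refine ⟨a j, hst.trans (congrArg _ (Subtype.ext ?_))⟩
  rw [has, coe_transvection, tvMat]
  congr 1
  ext x y
  rcases eq_or_ne y j with rfl | hy
  · simp [Matrix.vecMulVec_apply, Matrix.single_apply, Pi.single_apply, eq_comm]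
  · simp [Matrix.vecMulVec_apply, Matrix.single_apply, hk y hy, hy.symm]

/-- Normalise the images of the coordinate points. -/
theorem exists_frame (hn : 2 ≤ n) {β : MulAut PSLn} (hβ : ∀ v, v ≠ 0 → ∃ w, w ≠ 0 ∧ img β (St v) = St w) :
    ∃ g : GL (Fin n) F, ∀ k, img (innd g * β) (St (bv k)) = St (bv k) := by
  choose w hw0 hw using fun k : Fin n => hβ (bv k) (bv_ne_zero k)
  have hspan : Submodule.span F (Set.range w) = ⊤ := by
    by_contra hne
    obtain ⟨x, -, hx⟩ := SetLike.exists_of_lt (lt_top_iff_ne_top.2 hne)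
    obtain ⟨φ, hφx, hφ⟩ := Submodule.exists_dual_map_eq_bot_of_notMem hx inferInstance
    set a : Fin n → F := fun i => φ (Pi.single i 1) with ha
    have hdot : ∀ v, a ⬝ᵥ v = φ v := by
      intro v
      conv_rhs => rw [pi_eq_sum_univ' v]
      simp [dotProduct, a, mul_comm]
    have haw : ∀ k, a ⬝ᵥ w k = 0 := fun k => by
      have h : φ (w k) ∈ (Submodule.span F (Set.range w)).map φ := ⟨_, Submodule.subset_span ⟨k, rfl⟩, rfl⟩
      rw [hφ, Submodule.mem_bot] at h
      rw [hdot, h]
    have ha0 : a ≠ 0 := fun h => hφx (by rw [← hdot, h, zero_dotProduct])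
    let i₀ : Fin n := ⟨0, by omega⟩
    set t' := tvS (w i₀) a (haw i₀) with ht'
    have hR : img β⁻¹ (St (w i₀)) = St (bv i₀) := by
      rw [← hw i₀, ← img_mul, inv_mul_cancel]
      rw [← map_one (psl : MulAut SLn →* MulAut PSLn), img_psl 1 (center_le_St _)]
      exact Subgroup.map_id _
    obtain ⟨t, ⟨b, hb, hbt⟩, htt⟩ := exists_mem_Tc (p := p) hn (bv_ne_zero i₀) hR
      (show t' ∈ Tc (w i₀) from ⟨a, haw i₀, rfl⟩)
    have hback : β (QuotientGroup.mk t) = QuotientGroup.mk t' := by
      rw [← htt, MulAut.inv_def, MulEquiv.apply_symm_apply]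
    have hbk : ∀ k, k ≠ i₀ → b k = 0 := fun k hk => by
      refine tvMat_mem_St (h := hb) ?_ hk
      have hfix : t' ∈ St (w k) := ⟨1, by
        show tvMat (w i₀) a *ᵥ w k = _
        rw [tvMat_mulVec, haw k, zero_smul, add_zero, one_smul]⟩
      rw [← hw k] at hfix
      obtain ⟨y, hy, hyt⟩ := mem_img.1 hfix
      have : (QuotientGroup.mk y : PSLn) = QuotientGroup.mk t := β.injective (hyt.trans hback.symm)
      have h3 : y⁻¹ * t ∈ St (bv k) := center_le_St _ ((QuotientGroup.eq (s := Subgroup.center SLn)).1 this)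
      have h4 := mul_mem hy h3
      rw [mul_inv_cancel_left] at h4
      exact (Subtype.ext hbt : t = tvS (bv i₀) b hb) ▸ h4
    have ht1 : t = 1 := Subtype.ext (by
      have hb0 : b = 0 := funext fun k => by
        rcases eq_or_ne k i₀ with rfl | hk
        · simpa using hb
        · exact hbk k hk
      rw [hbt, hb0, TVec.tvMat_zero_right]; rfl)
    rw [ht1, QuotientGroup.mk_one, map_one] at hback
    have hz : Matrix.vecMulVec (w i₀) a = 0 := (eq_of_mk_eq (s := 1) (t := t') (M := 0) (by simp) rfl (by simp)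
      (by rw [Matrix.vecMulVec_mul_vecMulVec, haw i₀, zero_smul, Matrix.vecMulVec_zero])
      (by rw [← hback, QuotientGroup.mk_one])).symm
    obtain ⟨r, hr⟩ := Function.ne_iff.1 (hw0 i₀)
    obtain ⟨s, hs⟩ := Function.ne_iff.1 ha0
    have := congrFun (congrFun hz r) s
    simp only [Matrix.vecMulVec_apply, Matrix.zero_apply, mul_eq_zero] at this
    exact this.elim hr hs
  have hli : LinearIndependent F w :=
    linearIndependent_of_top_le_span_of_card_eq_finrank hspan.ge (by rw [Module.finrank_fintype_fun_eq_card])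
  have hu : IsUnit (Matrix.of w).transpose := Matrix.linearIndependent_cols_iff_isUnit.1 (by simpa using hli)
  obtain ⟨g, hg⟩ := hu
  refine ⟨g⁻¹, fun k => ?_⟩
  rw [img_mul, hw k, img_innd]
  congr 1
  have : g.val *ᵥ bv k = w k := by
    rw [hg]; ext x; simp [Matrix.mulVec_single_one]
  rw [← this, Matrix.mulVec_mulVec, Units.inv_mul, Matrix.one_mulVec]

theorem ringEquiv_of (σ : F → F) (hadd : ∀ a b, σ (a + b) = σ a + σ b) (hmul : ∀ a b, σ (a * b) = σ a * σ b)
    (hone : σ 1 = 1) : ∃ τ : F ≃+* F, ∀ a, τ a = σ a := by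
  let h : F →+* F :=
    { toFun := σ, map_one' := hone, map_mul' := hmul, map_add' := hadd
      map_zero' := by simpa using hadd 0 0 }
  exact ⟨RingEquiv.ofBijective h (Finite.injective_iff_bijective.1 h.injective), fun a => rfl⟩

theorem conj_root (d : Fin n → Fˣ) {g : GL (Fin n) F} (hg : g.val = Matrix.diagonal fun k => (d k : F))
    {i j : Fin n} (hij : i ≠ j) (c : F) :
    cnjHom g (SpecialLinearGroup.transvection hij c) =
      SpecialLinearGroup.transvection hij ((d i : F) * c / (d j : F)) := by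
  have hinv : (g⁻¹).val = Matrix.diagonal fun k => ((d k : F))⁻¹ := by
    refine (left_inv_eq_right_inv (Units.inv_mul g) ?_)
    rw [hg, Matrix.diagonal_mul_diagonal]
    simp [Matrix.diagonal_one]
  refine Subtype.ext ?_
  rw [cnj_single, coe_transvection, hg, hinv]
  congr 1
  ext x y
  rw [Matrix.mul_diagonal, Matrix.diagonal_mul, Matrix.single_apply, Matrix.single_apply]
  split
  next h => obtain ⟨rfl, rfl⟩ := h; rw [div_eq_mul_inv]
  next h => simp

/-- An automorphism fixing the coordinate frame is diagonal times a field automorphism. -/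
theorem exists_diag_fld (hn : 2 ≤ n) {β : MulAut PSLn} (hβ : ∀ k, img β (St (bv k)) = St (bv k)) :
    ∃ (g : GL (Fin n) F) (σ : F ≃+* F), β = innd g * fld σ := by
  choose f hf using fun (i j : Fin n) (hij : i ≠ j) (t : F) => exists_root_map (p := p) hn hβ hij t
  have hadd : ∀ i j (hij : i ≠ j) s t, f i j hij (s + t) = f i j hij s + f i j hij t := by
    intro i j hij s t
    refine transvection_mk_injective hij ?_
    rw [← hf, SpecialLinearGroup.transvection_add, SpecialLinearGroup.transvection_add, QuotientGroup.mk_mul,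
      QuotientGroup.mk_mul, map_mul, hf i j hij s, hf i j hij t]
  have hinj : ∀ i j (hij : i ≠ j) s t, f i j hij s = f i j hij t → s = t := fun i j hij s t h =>
    transvection_mk_injective hij (β.injective (by rw [hf, hf, h]))
  have hzero : ∀ i j (hij : i ≠ j), f i j hij 0 = 0 := fun i j hij => by simpa using hadd i j hij 0 0
  have hne : ∀ i j (hij : i ≠ j) t, t ≠ 0 → f i j hij t ≠ 0 := fun i j hij t ht h =>
    ht (hinj i j hij t 0 (h.trans (hzero i j hij).symm))
  obtain ⟨d, σ, hσ, hd⟩ : ∃ (d : Fin n → Fˣ) (σ : F → F),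
      ((∀ a b, σ (a + b) = σ a + σ b) ∧ (∀ a b, σ (a * b) = σ a * σ b) ∧ σ 1 = 1) ∧
      ∀ i j (hij : i ≠ j) t, f i j hij t = (d i : F) * σ t / (d j : F) := by
    rcases Nat.lt_or_ge n 3 with h3 | h3
    · obtain rfl : n = 2 := by omega
      have h01 : (0 : Fin 2) ≠ 1 := by decide
      have h10 : (1 : Fin 2) ≠ 0 := by decide
      let W : F → F → Matrix.SpecialLinearGroup (Fin 2) F := fun t s =>
        SpecialLinearGroup.transvection h01 t * SpecialLinearGroup.transvection h10 s *
          SpecialLinearGroup.transvection h01 t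
      have hW : ∀ t s, β (QuotientGroup.mk (W t s)) = QuotientGroup.mk (W (f 0 1 h01 t) (f 1 0 h10 s)) := by
        intro t s
        simp only [W, QuotientGroup.mk_mul, map_mul, hf]
      have hWe : ∀ t s, (W t s).1 *ᵥ bv 0 = ![1 + t * s, s] := by
        intro t s
        ext x
        fin_cases x <;> simp [W, coe_transvection, Matrix.mul_apply, Fin.sum_univ_two, Matrix.single_apply,
          Matrix.mulVec_single_one]
      have hswap : ∀ t, t ≠ 0 → f 1 0 h10 (-t⁻¹) = -(f 0 1 h01 t)⁻¹ := by
        intro t ht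
        have h1 := img_St_mulVec (hβ 0) (W t (-t⁻¹)) (W (f 0 1 h01 t) (f 1 0 h10 (-t⁻¹))) (hW _ _)
        rw [hWe, hWe] at h1
        have e : (![1 + t * -t⁻¹, -t⁻¹] : Fin 2 → F) = (-t⁻¹) • bv 1 := by
          ext x; fin_cases x <;> simp [ht]
        rw [e, St_smul (neg_ne_zero.2 (inv_ne_zero ht)), hβ 1] at h1
        have hne' : (![1 + f 0 1 h01 t * f 1 0 h10 (-t⁻¹), f 1 0 h10 (-t⁻¹)] : Fin 2 → F) ≠ 0 := fun h =>
          hne 1 0 h10 _ (neg_ne_zero.2 (inv_ne_zero ht)) (by simpa using congrFun h 1)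
        obtain ⟨c, hc⟩ := St_eq_St (bv_ne_zero 1) h1
        have h0 := congrFun hc 0
        simp at h0
        have hft := hne 0 1 h01 t ht
        have h6 : f 1 0 h10 (-t⁻¹) * f 0 1 h01 t = -1 := by linear_combination h0
        rw [← mul_inv_cancel_right₀ hft (f 1 0 h10 (-t⁻¹)), h6, neg_one_mul]
      have hsq : ∀ a s, a ≠ 0 → f 0 1 h01 (a ^ 2 * s) = (f 0 1 h01 a / f 0 1 h01 1) ^ 2 * f 0 1 h01 s := by
        have hid : ∀ a b s : F, a ≠ 0 → b ≠ 0 → W a (-a⁻¹) * (W b (-b⁻¹))⁻¹ * SpecialLinearGroup.transvection h01 s =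
            SpecialLinearGroup.transvection h01 ((a / b) ^ 2 * s) * (W a (-a⁻¹) * (W b (-b⁻¹))⁻¹) := by
          intro a b s ha hb
          have hm : ∀ c : F, c ≠ 0 → (W c (-c⁻¹)).1 = !![0, c; -c⁻¹, 0] := by
            intro c hc
            ext x y
            fin_cases x <;> fin_cases y <;>
              simp [W, coe_transvection, Matrix.mul_apply, Fin.sum_univ_two, Matrix.single_apply, hc]
          refine Subtype.ext ?_
          simp only [Matrix.SpecialLinearGroup.coe_mul, Matrix.SpecialLinearGroup.coe_inv, hm a ha, hm b hb,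
            coe_transvection, Matrix.adjugate_fin_two_of]
          ext x y
          fin_cases x <;> fin_cases y <;>
            simp [Matrix.mul_apply, Fin.sum_univ_two, Matrix.single_apply] <;> field_simp
        intro a s ha
        have h1 := congrArg (fun x => β (QuotientGroup.mk x)) (hid a 1 s ha one_ne_zero)
        simp only [QuotientGroup.mk_mul, QuotientGroup.mk_inv, map_mul, map_inv, hW, hf, hswap a ha,
          hswap 1 one_ne_zero] at h1
        simp only [← QuotientGroup.mk_mul, ← QuotientGroup.mk_inv] at h1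
        rw [hid _ _ _ (hne 0 1 h01 a ha) (hne 0 1 h01 1 one_ne_zero)] at h1
        rw [QuotientGroup.mk_mul, QuotientGroup.mk_mul _ (SpecialLinearGroup.transvection h01 _)] at h1
        have h2 := transvection_mk_injective h01 (mul_right_cancel h1)
        rw [div_one] at h2
        exact h2.symm
      set e := f 0 1 h01 1 with he
      have he0 : e ≠ 0 := hne 0 1 h01 1 one_ne_zero
      let σ : F → F := fun t => f 0 1 h01 t / e
      have hσadd : ∀ a b, σ (a + b) = σ a + σ b := fun a b => by simp only [σ, hadd, add_div]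
      have hσone : σ 1 = 1 := div_self he0
      have hσzero : σ 0 = 0 := by simp [σ, hzero]
      have hσsq : ∀ a s, σ (a ^ 2 * s) = σ a ^ 2 * σ s := by
        intro a s
        rcases eq_or_ne a 0 with rfl | ha
        · simp [hσzero]
        · simp only [σ, hsq a s ha]
          ring
      have hσmul : ∀ a b, σ (a * b) = σ a * σ b := by
        intro a b
        by_cases h2 : (2 : F) = 0
        · have h4 : ∀ x, σ (x ^ 2) = σ x ^ 2 := fun x => by
            have := hσsq x 1
            rwa [mul_one, hσone, mul_one] at this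
          have h3 : (σ (a * b) - σ a * σ b) ^ 2 = 0 := by
            have e1 : σ (a * b) ^ 2 = σ a ^ 2 * σ b ^ 2 := by
              rw [← h4, mul_pow, hσsq, h4]
            linear_combination e1 + (σ a ^ 2 * σ b ^ 2 - σ (a * b) * σ a * σ b) * h2
          exact sub_eq_zero.1 (pow_eq_zero_iff two_ne_zero |>.1 h3)
        · have e1 := hσsq (a + 1) b
          rw [show (a + 1) ^ 2 * b = a ^ 2 * b + (a * b + a * b) + b by ring, hσadd, hσadd, hσadd, hσsq, hσadd a 1,
            hσone] at e1
          have : (2 : F) * (σ (a * b) - σ a * σ b) = 0 := by linear_combination e1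
          exact sub_eq_zero.1 ((mul_eq_zero.1 this).resolve_left h2)
      refine ⟨![Units.mk0 e he0, 1], σ, ⟨hσadd, hσmul, hσone⟩, ?_⟩
      intro i j hij t
      fin_cases i <;> fin_cases j <;> try exact absurd rfl hij
      · show f 0 1 _ t = e * σ t / 1
        simp [σ, mul_div_cancel₀ _ he0]
      · show f 1 0 _ t = 1 * σ t / e
        rcases eq_or_ne t 0 with rfl | ht
        · simp [hzero, hσzero]
        · have h1 := hswap (-t⁻¹) (neg_ne_zero.2 (inv_ne_zero ht))
          rw [show -(-t⁻¹)⁻¹ = t by rw [inv_neg, inv_inv, neg_neg]] at h1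
          rw [h1, one_mul]
          have h5 : σ t * σ (-t⁻¹) = -1 := by
            rw [← hσmul, mul_neg, mul_inv_cancel₀ ht]
            have := hσadd (-1) 1
            rw [neg_add_cancel, hσzero, hσone] at this
            linear_combination -this
          have hft := hne 0 1 h01 (-t⁻¹) (neg_ne_zero.2 (inv_ne_zero ht))
          simp only [σ] at h5 ⊢
          have h6 : f 0 1 h01 t / e / e * f 0 1 h01 (-t⁻¹) = -1 := by linear_combination h5
          rw [← mul_inv_cancel_right₀ hft (f 0 1 h01 t / e / e), h6, neg_one_mul]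
    · have hrel : ∀ i j k (hij : i ≠ j) (hjk : j ≠ k) (hik : i ≠ k) s t,
          f i k hik (s * t) = f i j hij s * f j k hjk t := by
        intro i j k hij hjk hik s t
        have hcom : ∀ a b : F, ⁅SpecialLinearGroup.transvection hij a, SpecialLinearGroup.transvection hjk b⁆ =
            SpecialLinearGroup.transvection hik (a * b) := by
          intro a b
          rw [commutatorElement_def, SpecialLinearGroup.transvection_inv, SpecialLinearGroup.transvection_inv]
          refine Subtype.ext ?_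
          simp only [Matrix.SpecialLinearGroup.coe_mul, coe_transvection, ← single_neg]
          have hAA := single_sq hij a a
          have hBB := single_sq hjk b b
          have hCC := single_sq hik (a * b) (a * b)
          have hBA : single j k b * single i j a = 0 := single_mul_single_of_ne (h := hik.symm) ..
          have hAC : single i j a * single i k (a * b) = 0 := single_mul_single_of_ne (h := hij.symm) ..
          have hBC : single j k b * single i k (a * b) = 0 := single_mul_single_of_ne (h := hik.symm) ..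
          have hCA : single i k (a * b) * single i j a = 0 := single_mul_single_of_ne (h := hik.symm) ..
          have hCB : single i k (a * b) * single j k b = 0 := single_mul_single_of_ne (h := hjk.symm) ..
          have hAB : single i j a * single j k b = single i k (a * b) := single_mul_single_same ..
          simp only [mul_add, add_mul, one_mul, mul_one, mul_neg, neg_mul, hAA, hBB, hBA, hAB, hCA, hCB,
            neg_zero, neg_neg, add_zero, zero_add, zero_mul]
          abel
        refine transvection_mk_injective hik ?_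
        rw [← hf, ← hcom, ← hcom, commutatorElement_def, commutatorElement_def]
        simp only [QuotientGroup.mk_mul, QuotientGroup.mk_inv, map_mul, map_inv, hf]
      let c : ∀ i j : Fin n, i ≠ j → F := fun i j h => f i j h 1
      let σ' : ∀ i j : Fin n, i ≠ j → F → F := fun i j h t => f i j h t / c i j h
      have third : ∀ i j : Fin n, ∃ k, i ≠ k ∧ k ≠ j := fun i j => exists_third (by simpa using h3)
      have hcne : ∀ i j h, c i j h ≠ 0 := fun i j h => hne i j h 1 one_ne_zero
      have hcc : ∀ i j k (hij : i ≠ j) (hjk : j ≠ k) (hik : i ≠ k), c i k hik = c i j hij * c j k hjk := by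
        intro i j k hij hjk hik
        simp only [c]
        rw [← hrel i j k hij hjk hik, mul_one]
      have hfst : ∀ i j k (hij : i ≠ j) (hjk : j ≠ k) (hik : i ≠ k), σ' i k hik = σ' i j hij := by
        intro i j k hij hjk hik
        funext t
        simp only [σ']
        rw [hcc i j k hij hjk hik, ← mul_one t, hrel i j k hij hjk hik, mul_one]
        exact mul_div_mul_right _ _ (hcne j k hjk)
      have hsnd : ∀ i j k (hij : i ≠ j) (hjk : j ≠ k) (hik : i ≠ k), σ' i k hik = σ' j k hjk := by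
        intro i j k hij hjk hik
        funext t
        simp only [σ']
        rw [hcc i j k hij hjk hik, ← one_mul t, hrel i j k hij hjk hik, one_mul]
        exact mul_div_mul_left _ _ (hcne i j hij)
      let a : Fin n := ⟨0, by omega⟩
      let b : Fin n := ⟨1, by omega⟩
      have hab : a ≠ b := by simp [a, b, Fin.ext_iff]
      have hall : ∀ i j (hij : i ≠ j), σ' i j hij = σ' a b hab := by
        have hrow : ∀ i j k (hij : i ≠ j) (hik : i ≠ k), σ' i j hij = σ' i k hik := by
          intro i j k hij hik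
          rcases eq_or_ne j k with rfl | hjk
          · rfl
          · exact (hfst i j k hij hjk hik).symm
        intro i j hij
        rcases eq_or_ne i a with rfl | hia
        · exact hrow _ _ _ _ _
        · obtain ⟨k, hk1, hk2⟩ := third i a
          rw [hrow i j k hij hk1, hsnd i a k hia hk2.symm hk1]
          exact hrow _ _ _ _ _
      let d : Fin n → Fˣ := fun i => if h : i = a then 1 else Units.mk0 (c i a h) (hcne i a h)
      refine ⟨d, σ' a b hab, ⟨fun s t => by simp only [σ', hadd, add_div], fun s t => ?_, div_self (hcne a b hab)⟩, ?_⟩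
      · obtain ⟨k, hk1, hk2⟩ := third a b
        rw [show σ' a b hab s * σ' a b hab t = σ' a k hk1 s * σ' k b hk2 t by rw [hall a k hk1, hall k b hk2]]
        simp only [σ']
        rw [hrel a k b hk1 hk2 hab, hcc a k b hk1 hk2 hab]
        rw [div_mul_div_comm]
      · intro i j hij t
        have hfc : f i j hij t = c i j hij * σ' a b hab t := by
          rw [← hall i j hij]; simp only [σ']; rw [mul_div_cancel₀ _ (hcne i j hij)]
        rw [hfc]
        suffices h : c i j hij = (d i : F) / (d j : F) by rw [h]; ring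
        rcases eq_or_ne i a with rfl | hia
        · obtain ⟨k, hk1, hk2⟩ := third j a
          have hdi : (d a : F) = 1 := by simp [d]
          have hdj : (d j : F) = c j a hij.symm := by simp [d, hij.symm]
          rw [hdi, hdj, eq_div_iff (hcne j a _)]
          have e1 := hcc k j a hk1.symm hij.symm hk2
          have e2 := hcc k a j hk2 hij hk1.symm
          have e3 : c k a hk2 * (c a j hij * c j a hij.symm - 1) = 0 := by linear_combination -e2 * c j a hij.symm - e1
          exact sub_eq_zero.1 ((mul_eq_zero.1 e3).resolve_left (hcne k a hk2))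
        · have hdi : (d i : F) = c i a hia := by simp [d, hia]
          rcases eq_or_ne j a with rfl | hja
          · rw [hdi, show (d a : F) = 1 by simp [d], div_one]
          · have hdj : (d j : F) = c j a hja := by simp [d, hja]
            rw [hdi, hdj, eq_div_iff (hcne j a hja), ← hcc i j a hij hja hia]
  obtain ⟨τ, hτ⟩ := ringEquiv_of σ hσ.1 hσ.2.1 hσ.2.2
  have hdet : IsUnit (Matrix.diagonal fun k => (d k : F)).det := by
    rw [Matrix.det_diagonal, isUnit_iff_ne_zero]
    exact Finset.prod_ne_zero_iff.2 fun k _ => (d k).ne_zero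
  set g : GL (Fin n) F := GeneralLinearGroup.mk'' _ hdet with hgdef
  refine ⟨g, τ, MulEquiv.ext fun x => ?_⟩
  have heq : β.toMonoidHom.comp (QuotientGroup.mk' _) = (innd g * fld τ).toMonoidHom.comp (QuotientGroup.mk' _) := by
    refine MonoidHom.eq_of_eqOn_dense closure_transvection_eq_top ?_
    rintro _ ⟨i, j, hij, c, rfl⟩
    show β (QuotientGroup.mk _) = (innd g * fld τ : MulAut PSLn) (QuotientGroup.mk _)
    rw [hf, hd, MulAut.mul_apply, fld_mk, innd_mk]
    have : frobHom τ (SpecialLinearGroup.transvection hij c) = SpecialLinearGroup.transvection hij (σ c) :=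
      Subtype.ext (by rw [frob_single, coe_transvection, hτ])
    rw [this, conj_root d rfl hij]
  obtain ⟨s, rfl⟩ := QuotientGroup.mk_surjective x
  exact DFunLike.congr_fun heq s

/-- **Automorphisms of `PSL_n(q)`**. -/
theorem exists_decomp (hn : 2 ≤ n) (β : MulAut PSLn) :
    ∃ (g : GL (Fin n) F) (σ : F ≃+* F), β = innd g * fld σ ∨ β = innd g * fld σ * gr := by
  have hcard : ∀ γ : MulAut PSLn, ∀ v, v ≠ 0 →
      ∃ w, w ≠ 0 ∧ (img γ (St v) = St w ∨ img γ (St v) = Sf w) := fun γ v hv =>
    eq_St_or_Sf (p := p) (by simpa using hn) _ (by rw [index_img γ (center_le_St v), index_St hv])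
  have hext : ∀ γ : MulAut PSLn, ∀ v w, v ≠ 0 → w ≠ 0 → img γ (St v) = St w →
      ∀ u, u ≠ 0 → ∃ z, z ≠ 0 ∧ img γ (St u) = St z := by
    intro γ v w hv hw h u hu
    obtain ⟨x, c, hc, hx⟩ := exists_mulVec hv hu
    obtain ⟨x', hx'⟩ := QuotientGroup.mk_surjective (γ (QuotientGroup.mk x))
    have := img_St_mulVec h x x' hx'.symm
    rw [hx, St_smul hc] at this
    exact ⟨_, mulVec_ne_zero x' hw, this⟩
  have hmain : ∀ γ : MulAut PSLn, (∀ u, u ≠ 0 → ∃ z, z ≠ 0 ∧ img γ (St u) = St z) →
      ∃ (g : GL (Fin n) F) (σ : F ≃+* F), γ = innd g * fld σ := by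
    intro γ h
    obtain ⟨g₀, hg₀⟩ := exists_frame (p := p) hn h
    obtain ⟨g, σ, hgσ⟩ := exists_diag_fld (p := p) hn hg₀
    refine ⟨g₀⁻¹ * g, σ, ?_⟩
    rw [map_mul, mul_assoc, ← hgσ, map_inv, inv_mul_cancel_left]
  let v₀ : Fin n → F := bv ⟨0, by omega⟩
  obtain ⟨w, hw, h | h⟩ := hcard β v₀ (bv_ne_zero _)
  · obtain ⟨g, σ, h'⟩ := hmain β (hext β v₀ w (bv_ne_zero _) hw h)
    exact ⟨g, σ, Or.inl h'⟩
  · have h' : img (gr * β) (St v₀) = St w := by rw [img_mul, h, img_gr]
    obtain ⟨g, σ, h''⟩ := hmain (gr * β) (hext _ v₀ w (bv_ne_zero _) hw h')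
    refine ⟨dual g, σ, Or.inr ?_⟩
    calc β = gr * (gr * β) := by rw [← mul_assoc, gr_mul_gr, one_mul]
      _ = gr * innd g * fld σ := by rw [h'', mul_assoc]
      _ = innd (dual g) * gr * fld σ := by rw [gr_mul_innd]
      _ = innd (dual g) * fld σ * gr := by rw [mul_assoc, gr_mul_fld, ← mul_assoc]

end Cfsg.Lib.Linear.AutPSL
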